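/-
helper34: Bender–Glauberman, Section 11, a piece of Lemma 11.7 (Step 4b-ii of helper23's route).
* `bg11n_centralizes_of_card_prime`: an element of order dividing `r` normalizing a subgroup of
  prime order `r` centralizes it.
* `bg11n_narrow_comm_centralizes`: if an `r`-subgroup `R` (`r` odd) of a group of odd order
  contains an elementary abelian subgroup of order `r ^ 2` that is maximal among the elementary
  abelian subgroups of `R`, then every `r'`-subgroup of `[N_G(R), N_G(R)]` centralizes `R`.
* `bg11n_step4bii`: under Hypothesis 11.1, if `V` is normalized by `M`, has prime order `r`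
  with `r ∉ σ(M)`, `r ≠ p`, `r` divides `|C_G(A)|`, and every maximal `A`-invariant `r`-subgroup
  `Q` admits a `p`-subgroup `S ⊇ A` inside `[N_G(Q), N_G(Q)]`, then `A` centralizes `V`.
-/
import Cfsg.Agent.Helper22.BG11a
import Cfsg.Agent.Helper22.BG10e
import Cfsg.Agent.Helper62.Narrow
import Cfsg.Agent.Helper23.Rank2
import Cfsg.Agent.Helper23.Trans

set_option autoImplicit false

namespace Cfsg.Agent.Helper34

open Cfsg Subgroup Cfsg.Agent.Helper22 Cfsg.Agent.Helper23
open scoped Pointwise commutatorElement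

universe u

variable {G : Type u} [Group G] [Finite G]

/-- An element of order dividing the prime `r` that normalizes a subgroup of order `r`
centralizes it. -/
theorem bg11n_centralizes_of_card_prime {r : ℕ} [hr : Fact r.Prime] {V : Subgroup G}
    (hV : Nat.card V = r) {b : G} (hb : b ∈ normalizer (V : Set G)) (hbr : b ^ r = 1) :
    b ∈ centralizer (V : Set G) := by
  have hVN : V ≤ normalizer (V : Set G) := le_normalizer
  have hcard : Nat.card (V.subgroupOf (normalizer (V : Set G))) = r := by
    rw [natCard_subgroupOf_eq hVN]; exact hV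
  have hcyc : IsCyclic (V.subgroupOf (normalizer (V : Set G))) := isCyclic_of_prime_card hcard
  have hAut : Nat.card (MulAut (V.subgroupOf (normalizer (V : Set G)))) = r - 1 := by
    rw [IsCyclic.card_mulAut, hcard, Nat.totient_prime hr.out]
  have h1 : orderOf (MulAut.conjNormal (⟨b, hb⟩ : normalizer (V : Set G)) :
      MulAut (V.subgroupOf (normalizer (V : Set G)))) ∣ r := by
    refine (orderOf_map_dvd _ _).trans ?_
    apply orderOf_dvd_of_pow_eq_one
    exact Subtype.ext (by simpa using hbr)
  have h2 : orderOf (MulAut.conjNormal (⟨b, hb⟩ : normalizer (V : Set G)) :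
      MulAut (V.subgroupOf (normalizer (V : Set G)))) ∣ r - 1 := by
    rw [← hAut]; exact orderOf_dvd_natCard _
  have h3 : Nat.Coprime r (r - 1) := by
    rw [Nat.Prime.coprime_iff_not_dvd hr.out]
    exact Nat.not_dvd_of_pos_of_lt (Nat.sub_pos_of_lt hr.out.one_lt)
      (Nat.sub_lt hr.out.pos one_pos)
  have h4 : (MulAut.conjNormal (⟨b, hb⟩ : normalizer (V : Set G)) :
      MulAut (V.subgroupOf (normalizer (V : Set G)))) = 1 := by
    rw [← orderOf_eq_one_iff]; exact Nat.eq_one_of_dvd_coprimes h3 h1 h2
  rw [mem_centralizer_iff]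
  intro v hv
  have h5 := congrArg (fun φ : MulAut (V.subgroupOf (normalizer (V : Set G))) =>
    (((φ ⟨⟨v, hVN hv⟩, mem_subgroupOf.mpr hv⟩ :
      V.subgroupOf (normalizer (V : Set G))) : normalizer (V : Set G)) : G)) h4
  simp only [MulAut.conjNormal_apply, MulAut.one_apply] at h5
  have h6 : b * v * b⁻¹ = v := by simpa using h5
  calc v * b = b * v * b⁻¹ * b := by rw [h6]
    _ = b * v := by group

/-- If an `r`-subgroup `R` (`r` odd) of a group of odd order contains an elementary abelian
subgroup `B` of order `r ^ 2` that is maximal among the elementary abelian subgroups of `R`,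
then every subgroup of `[N_G(R), N_G(R)]` of order prime to `r` centralizes `R`
(B&G 4.17 / 5.3 for a possibly non-faithful normalizer). -/
theorem bg11n_narrow_comm_centralizes (hodd : Odd (Nat.card G)) (r : ℕ) [Fact r.Prime]
    (hr2 : r ≠ 2) (R B : Subgroup G) (hR : IsPGroup r R) (hBR : B ≤ R)
    (hBe : IsElementaryAbelian r B) (hB2 : Nat.card B = r ^ 2)
    (hBmax : ∀ C : Subgroup G, C ≤ R → IsElementaryAbelian r C → B ≤ C → C = B)
    (X : Subgroup G) (hX : X ≤ ⁅normalizer (R : Set G), normalizer (R : Set G)⁆)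
    (hXr : (Nat.card X).Coprime r) : X ≤ centralizer (R : Set G) := by
  have hr : r.Prime := Fact.out
  have hNodd : Odd (Nat.card (normalizer (R : Set G))) :=
    hodd.of_dvd_nat (Subgroup.card_subgroup_dvd_card _)
  by_cases hrk : PRankLE r 2 ↥R
  · exact (rank2_core r hr2 R (normalizer (R : Set G)) hR hrk le_rfl hNodd).1 X hX hXr
  · -- a central element of order `r` of `R`
    have hBne : B ≠ ⊥ := by
      intro e
      rw [e, Subgroup.card_bot] at hB2
      have := hr.one_lt
      nlinarith
    have hRnt : Nontrivial ↥R := by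
      obtain ⟨b, hb, hb1⟩ := bg11_exists_ne_one hBne
      exact ⟨⟨⟨b, hBR hb⟩, 1, fun e => hb1 (congrArg Subtype.val e)⟩⟩
    obtain ⟨z, hzR, hzc, hz1, hzr⟩ :
        ∃ z ∈ R, (∀ y ∈ R, y * z = z * y) ∧ z ≠ 1 ∧ z ^ r = 1 := by
      have hc : Nontrivial (center ↥R) := hR.center_nontrivial
      have hcp : IsPGroup r (center ↥R) := hR.to_subgroup _
      have hdvd : r ∣ Nat.card (center ↥R) := by
        obtain ⟨n, hn⟩ := IsPGroup.iff_card.mp hcp
        have hn0 : n ≠ 0 := by
          rintro rfl
          rw [pow_zero] at hn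
          have := Finite.one_lt_card (α := center ↥R)
          omega
        rw [hn]; exact dvd_pow_self r hn0
      obtain ⟨ζ, hζ⟩ := exists_prime_orderOf_dvd_card' r hdvd
      refine ⟨((ζ : ↥R) : G), (ζ : ↥R).2, ?_, ?_, ?_⟩
      · intro y hy
        have := (Subgroup.mem_center_iff.mp ζ.2) ⟨y, hy⟩
        exact congrArg Subtype.val this
      · intro e
        have h1 : ζ = 1 := Subtype.ext (Subtype.ext e)
        rw [h1, orderOf_one] at hζ
        exact hr.one_lt.ne hζ
      · have h1 : ζ ^ r = 1 := by rw [← hζ]; exact pow_orderOf_eq_one ζ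
        have h2 := congrArg (fun w : center ↥R => ((w : ↥R) : G)) h1
        simpa using h2
    have hzB : z ∈ B := by
      have hC : IsElementaryAbelian r (B ⊔ zpowers z) := by
        refine bg11_sup_elemAb hBe (bg11_zpowers_elemAb hzr) (fun a ha c hc => ?_)
        obtain ⟨i, rfl⟩ := mem_zpowers_iff.mp hc
        exact (show Commute a z from hzc a (hBR ha)).zpow_right i
      have := hBmax _ (sup_le hBR (zpowers_le.mpr hzR)) hC le_sup_left
      rw [← this]; exact mem_sup_right (mem_zpowers z)
    have hzcard : Nat.card (zpowers z) = r := by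
      rw [Nat.card_zpowers]; exact orderOf_eq_prime hzr hz1
    obtain ⟨x, hxB, hxz⟩ : ∃ x ∈ B, x ∉ zpowers z := by
      by_contra hcon
      push Not at hcon
      have hle : B ≤ zpowers z := fun x hx => hcon x hx
      have h1 := Nat.le_of_dvd Nat.card_pos (Subgroup.card_dvd_of_le hle)
      rw [hB2, hzcard] at h1
      have := hr.one_lt
      nlinarith
    have hmax : ∀ y ∈ R, y ^ r = 1 → y * x = x * y → y ∈ B := by
      intro y hyR hyr hyx
      have hD : B ≤ centralizer ({y} : Set G) := by
        have hzD : zpowers z ≤ B ⊓ centralizer ({y} : Set G) := by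
          rw [zpowers_le]
          refine Subgroup.mem_inf.mpr ⟨hzB, ?_⟩
          rw [mem_centralizer_iff]
          intro w hw
          rw [Set.mem_singleton_iff] at hw
          rw [hw]; exact hzc y hyR
        have hxD : x ∈ B ⊓ centralizer ({y} : Set G) := by
          refine Subgroup.mem_inf.mpr ⟨hxB, ?_⟩
          rw [mem_centralizer_iff]
          intro w hw
          rw [Set.mem_singleton_iff] at hw
          rw [hw]; exact hyx
        have hne : zpowers z ≠ B ⊓ centralizer ({y} : Set G) := fun e => hxz (e ▸ hxD)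
        have hdvd : Nat.card ↥(B ⊓ centralizer ({y} : Set G)) ∣ r ^ 2 := by
          rw [← hB2]; exact Subgroup.card_dvd_of_le inf_le_left
        obtain ⟨k, hk, hkc⟩ := (Nat.dvd_prime_pow hr).mp hdvd
        have hk2 : k = 2 := by
          by_contra hk2
          have hk1 : k ≤ 1 := by omega
          have h1 : Nat.card ↥(B ⊓ centralizer ({y} : Set G)) ≤ r := by
            rw [hkc]
            calc r ^ k ≤ r ^ 1 := Nat.pow_le_pow_right hr.pos hk1
              _ = r := pow_one r
          exact hne (Subgroup.eq_of_le_of_card_ge hzD (by rw [hzcard]; exact h1))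
        have h2 : B ⊓ centralizer ({y} : Set G) = B :=
          Subgroup.eq_of_le_of_card_ge inf_le_left (by rw [hB2, hkc, hk2])
        rw [← h2]; exact inf_le_right
      have hcomm : ∀ a ∈ B, ∀ c ∈ zpowers y, a * c = c * a := by
        intro a ha c hc
        obtain ⟨i, rfl⟩ := mem_zpowers_iff.mp hc
        have h1 : y * a = a * y := mem_centralizer_iff.mp (hD ha) y (Set.mem_singleton y)
        exact (show Commute a y from h1.symm).zpow_right i
      have hC : IsElementaryAbelian r (B ⊔ zpowers y) :=
        bg11_sup_elemAb hBe (bg11_zpowers_elemAb hyr) hcomm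
      have := hBmax _ (sup_le hBR (zpowers_le.mpr hyR)) hC le_sup_left
      rw [← this]; exact mem_sup_right (mem_zpowers y)
    exact (Cfsg.Agent.Helper62.Narrow.narrow_core_data r hr2 R (normalizer (R : Set G)) hR x B
      hBR hxB hB2 hBe.2 hmax hrk le_rfl).1 X hX hXr

/-- **B&G Lemma 11.7, Step 4b-ii.**  Under Hypothesis 11.1 for `(M, p, A₀, A)`, let `V ≤ M` have
prime order `r ≠ p`, `r ∉ σ(M)`, be normalized by `M`, and suppose `r` divides `|C_G(A)|`.
If every maximal `A`-invariant `r`-subgroup `Q` of `G` admits a `p`-subgroup `S ⊇ A` contained in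
`[N_G(Q), N_G(Q)]` (conclusion of (E4)), then `A` centralizes `V`. -/
theorem bg11n_step4bii (hG : IsMinSimpleOddOrder G) (hU : BGUniq G) {M A₀ A : Subgroup G}
    {p : ℕ} [Fact p.Prime] (h : BG11Hyp M A₀ A p) {r : ℕ} [Fact r.Prime] (hrp : r ≠ p)
    (hrσ : r ∉ sigma M) {V : Subgroup G} (hVc : Nat.card V = r) (hVM : V ≤ M)
    (hVn : M ≤ normalizer (V : Set G))
    (hrC : r ∣ Nat.card (centralizer (A : Set G)))
    (hE4 : ∀ Q ∈ maxInvSubgroups ⊤ A {r}, ∃ S : Subgroup G, IsPGroup p S ∧ A ≤ S ∧
      S ≤ ⁅normalizer (Q : Set G), normalizer (Q : Set G)⁆) :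
    A ≤ centralizer (V : Set G) := by
  have hp : p.Prime := Fact.out
  have hr : r.Prime := Fact.out
  have hr2 : r ≠ 2 := by
    rintro rfl
    have h1 : 2 ∣ Nat.card G := hrC.trans (Subgroup.card_subgroup_dvd_card _)
    exact (Nat.not_even_iff_odd.mpr hG.1) (even_iff_two_dvd.mpr h1)
  obtain ⟨β, hβ⟩ := exists_prime_orderOf_dvd_card' r hrC
  have hbC : (β : G) ∈ centralizer (A : Set G) := β.2
  have hbr : (β : G) ^ r = 1 := by
    have h1 : β ^ r = 1 := by rw [← hβ]; exact pow_orderOf_eq_one β
    simpa using congrArg Subtype.val h1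
  have hb1 : (β : G) ≠ 1 := by
    intro e
    have h1 : β = 1 := Subtype.ext e
    rw [h1, orderOf_one] at hβ
    exact hr.one_lt.ne hβ
  have hbM : (β : G) ∈ M := bg11_centralizer_le h hbC
  have hbV : (β : G) ∈ centralizer (V : Set G) :=
    bg11n_centralizes_of_card_prime hVc (hVn hbM) hbr
  have hzc : Nat.card (zpowers (β : G)) = r := by
    rw [Nat.card_zpowers]; exact orderOf_eq_prime hbr hb1
  have hAb : ∀ a ∈ A, a * (β : G) = (β : G) * a := fun a ha => mem_centralizer_iff.mp hbC a ha
  have hAz : A ≤ centralizer ((zpowers (β : G) : Subgroup G) : Set G) := by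
    intro a ha
    rw [mem_centralizer_iff]
    intro w hw
    obtain ⟨i, rfl⟩ := mem_zpowers_iff.mp hw
    exact ((show Commute a (β : G) from hAb a ha).zpow_right i).symm
  by_cases hVb : V = zpowers (β : G)
  · rw [hVb]; exact hAz
  · have hcomm : ∀ v ∈ V, ∀ c ∈ zpowers (β : G), v * c = c * v := by
      intro v hv c hc
      obtain ⟨i, rfl⟩ := mem_zpowers_iff.mp hc
      have h1 : v * (β : G) = (β : G) * v := mem_centralizer_iff.mp hbV v hv
      exact (show Commute v (β : G) from h1).zpow_right i
    obtain ⟨hBe, hBc⟩ := bg10_sup_elemAb hr hVc hzc hVb hcomm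
    have hBM : V ⊔ zpowers (β : G) ≤ M := sup_le hVM (zpowers_le.mpr hbM)
    have hrα : r ∉ alpha M := fun hα => hrσ (bg10_alpha_sub_sigma hG hU h.coatom hα)
    have hrk := bg10_pRank_of_not_alpha M r hr hrα
    have hBmax := bg10_elemAb_sq_maximal hG hU h.coatom hrk hBM hBe hBc
    have hAM : A ≤ M := bg11_le_M h
    have hAB : A ≤ normalizer ((V ⊔ zpowers (β : G) : Subgroup G) : Set G) :=
      Cfsg.Agent.Helper35.le_normalizer_sup (hAM.trans hVn)
        (hAz.trans (centralizer_le_normalizer _))
    have hinv : V ⊔ zpowers (β : G) ∈ invSubgroups ⊤ A {r} :=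
      ⟨le_top, primes_of_isPGroup hr (IsPGroup.of_card hBc), hAB⟩
    obtain ⟨R, hRmax, hBR⟩ := exists_maxInv_ge hinv
    obtain ⟨S, hSp, hAS, hSN⟩ := hE4 R hRmax
    have hRp : IsPGroup r R := isPGroup_of_primes hRmax.1.2.1
    have hScop : (Nat.card S).Coprime r := by
      obtain ⟨n, hn⟩ := IsPGroup.iff_card.mp hSp
      rw [hn]
      exact Nat.Coprime.pow_left n ((Nat.coprime_primes hp hr).mpr (Ne.symm hrp))
    have hSR := bg11n_narrow_comm_centralizes hG.1 r hr2 R (V ⊔ zpowers (β : G)) hRp hBR hBe hBc
      (fun C _ hC hBC => hBmax C hC hBC) S hSN hScop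
    exact (hAS.trans hSR).trans
      (centralizer_le (by exact_mod_cast (le_sup_left.trans hBR)))

end Cfsg.Agent.Helper34
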