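/-
helper34: CALL S1378 (helper1), PIECE D3b (`bg139_pair`): two subgroups `X`, `Y` of prime orders
`t, t' ∈ τ₁(H) ∪ τ₃(H)` of a maximal subgroup `H` generating a `{t,t'}`-group commute, or one of
them normalizes the other.
-/
import Cfsg.Agent.Helper1.BG139Defs
import Cfsg.Agent.Helper20.BG13P4
import Cfsg.Agent.Helper31.BG139HALL
import Cfsg.Agent.Helper22.BG10b
import Cfsg.Agent.S1403
import Cfsg.Agent.S1415

set_option autoImplicit false

namespace Cfsg.Agent.Helper34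

open Cfsg Subgroup Cfsg.Agent.Helper1

open scoped commutatorElement

universe u

/-- In a finite cyclic group, an element killed by the prime `q` is a power of any element of
order `q`. -/
theorem bg139d3b_cyc {C : Type*} [Group C] [Finite C] [IsCyclic C] {q : ℕ} (hq : q.Prime)
    {x y : C} (hx : orderOf x = q) (hy : y ^ q = 1) : y ∈ Subgroup.zpowers x := by
  classical
  have : Fintype C := Fintype.ofFinite C
  have hS : (Finset.univ.filter (fun a : C => a ^ q = 1)).card ≤ q :=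
    IsCyclic.card_pow_eq_one_le hq.pos
  have hsub : (Subgroup.zpowers x : Set C).toFinset ⊆
      Finset.univ.filter (fun a : C => a ^ q = 1) := by
    intro a ha
    rw [Set.mem_toFinset] at ha
    obtain ⟨k, rfl⟩ := ha
    rw [Finset.mem_filter]
    refine ⟨Finset.mem_univ _, ?_⟩
    show (x ^ k) ^ q = 1
    rw [← zpow_natCast, ← zpow_mul, mul_comm, zpow_mul, zpow_natCast, ← hx,
      pow_orderOf_eq_one, one_zpow]
  have hcard : (Subgroup.zpowers x : Set C).toFinset.card = q := by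
    rw [Set.toFinset_card, ← Nat.card_eq_fintype_card]
    show Nat.card ↥(Subgroup.zpowers x) = q
    rw [Nat.card_zpowers, hx]
  have heq := Finset.eq_of_subset_of_card_le hsub (by rw [hcard]; exact hS)
  have hyS : y ∈ Finset.univ.filter (fun a : C => a ^ q = 1) := by
    rw [Finset.mem_filter]
    exact ⟨Finset.mem_univ _, hy⟩
  rw [← heq, Set.mem_toFinset] at hyS
  exact hyS

variable {G : Type u} [Group G] [Finite G]

/-- A subgroup `X` of order `t ∈ τ₃(H)` is normalized by every `σ(H)'`-subgroup of `H`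
containing it. -/
theorem bg139d3b_norm (hG : IsMinSimpleOddOrder G) {H X W : Subgroup G} (hH : IsCoatom H)
    {t : ℕ} (ht : t ∈ tau3 H) (hXc : Nat.card X = t) (hXW : X ≤ W) (hWH : W ≤ H)
    (hW : ∀ q : ℕ, q.Prime → q ∣ Nat.card W → q ∉ sigma H) :
    W ≤ normalizer (X : Set G) := by
  classical
  have htp : t.Prime := ht.1
  have hU : Helper22.BGUniq G := fun K hK h1 h2 => Cfsg.Agent.S1403.result hG K hK h1 h2
  obtain ⟨hσhall, -, -⟩ := Helper22.bg10_sigma_hall hG hU hH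
  have hcop : (Nat.card W).Coprime (Nat.card (sigmaCore H)) :=
    Nat.coprime_of_dvd (fun k hk hkW hkσ => hW k hk hkW (hσhall.2.1 k hk hkσ))
  obtain ⟨E, hE, hWE⟩ := Helper20.bg13_exists_compl_ge hG hU hH hWH hcop
  obtain ⟨E₃, hE₃⟩ := Helper31.bg139_exists_hall hG hH hE (tau3 H)
  obtain ⟨hcyc, -, hnorm⟩ := (Cfsg.Agent.S1415.result hG H hH E hE).2.2 E₃ hE₃
  have hE₃E : E₃ ≤ E := hE₃.1
  have hidx : ¬ t ∣ E₃.relIndex E := hE₃.2.2 t htp ht
  have hnormal : (E₃.subgroupOf E).Normal :=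
    (Subgroup.normal_subgroupOf_iff_le_normalizer hE₃E).mpr hnorm
  have hXt : ∀ x ∈ X, x ^ t = 1 := by
    intro x hx
    have h1 := pow_card_eq_one' (G := ↥X) (x := ⟨x, hx⟩)
    rw [hXc] at h1
    exact congrArg Subtype.val h1
  -- `X ≤ E₃`
  have hXE₃ : X ≤ E₃ := by
    intro x hx
    have hxE : x ∈ E := hWE (hXW hx)
    have h1 := Subgroup.pow_index_mem (E₃.subgroupOf E) ⟨x, hxE⟩
    rw [Subgroup.mem_subgroupOf] at h1
    have h2 : x ^ E₃.relIndex E ∈ E₃ := h1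
    have h3 : orderOf x ∣ t := orderOf_dvd_of_pow_eq_one (hXt x hx)
    have h4 : (E₃.relIndex E).Coprime (orderOf x) :=
      Nat.Coprime.coprime_dvd_right h3 ((Nat.Prime.coprime_iff_not_dvd htp).mpr hidx).symm
    obtain ⟨m, hm⟩ := exists_pow_eq_self_of_coprime h4
    rw [← hm]
    exact E₃.pow_mem h2 m
  -- a generator of `X`
  have hX1 : X ≠ ⊥ := by
    intro h
    rw [h, Subgroup.card_bot] at hXc
    exact htp.one_lt.ne hXc
  obtain ⟨x₀, hx₀X, hx₀1⟩ := (Subgroup.ne_bot_iff_exists_ne_one.mp hX1 |>.elim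
    (fun a ha => ⟨(a : G), a.2, fun h => ha (Subtype.ext h)⟩) : ∃ x₀ : G, x₀ ∈ X ∧ x₀ ≠ 1)
  have hx₀o : orderOf x₀ = t := by
    have h3 : orderOf x₀ ∣ t := orderOf_dvd_of_pow_eq_one (hXt x₀ hx₀X)
    rcases (Nat.dvd_prime htp).mp h3 with h | h
    · exact absurd (orderOf_eq_one_iff.mp h) hx₀1
    · exact h
  have hzX : Subgroup.zpowers x₀ = X := by
    apply Subgroup.eq_of_le_of_card_ge (Subgroup.zpowers_le.mpr hx₀X)
    rw [Nat.card_zpowers, hx₀o, hXc]
  -- conjugates of elements of `X` under `W` stay in `X`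
  have hconj : ∀ w ∈ W, ∀ h ∈ X, w * h * w⁻¹ ∈ X := by
    intro w hw h hh
    have hwE : w ∈ E := hWE hw
    have h1 : w * h * w⁻¹ ∈ E₃ := (Subgroup.mem_normalizer_iff.mp (hnorm hwE) h).mp (hXE₃ hh)
    have h2 : (w * h * w⁻¹) ^ t = 1 := by
      rw [conj_pow, hXt h hh]
      group
    have h3 : orderOf (⟨x₀, hXE₃ hx₀X⟩ : ↥E₃) = t := by
      rw [Subgroup.orderOf_mk]
      exact hx₀o
    have h4 : (⟨w * h * w⁻¹, h1⟩ : ↥E₃) ^ t = 1 := Subtype.ext h2
    have h5 := bg139d3b_cyc htp h3 h4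
    obtain ⟨k, hk⟩ := h5
    have h6 : x₀ ^ k = w * h * w⁻¹ := by
      have := congrArg Subtype.val hk
      simpa using this
    rw [← hzX, ← h6]
    exact Subgroup.zpow_mem_zpowers x₀ k
  intro w hw
  rw [Subgroup.mem_normalizer_iff]
  intro h
  constructor
  · exact hconj w hw h
  · intro hh
    have h1 := hconj w⁻¹ (W.inv_mem hw) _ hh
    have h2 : w⁻¹ * (w * h * w⁻¹) * w⁻¹⁻¹ = h := by group
    rwa [h2] at h1

/-- PIECE `D3b`. -/
theorem bg139_pair (hG : IsMinSimpleOddOrder G) {H X Y : Subgroup G} (hH : IsCoatom H)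
    (hXH : X ≤ H) (hYH : Y ≤ H) {t t' : ℕ} (hXc : Nat.card X = t) (hYc : Nat.card Y = t')
    (ht : t ∈ tau1 H ∨ t ∈ tau3 H) (ht' : t' ∈ tau1 H ∨ t' ∈ tau3 H)
    (hXY : ∀ q : ℕ, q.Prime → q ∣ Nat.card ↥(X ⊔ Y) → q = t ∨ q = t') :
    (∀ x ∈ X, ∀ y ∈ Y, x * y = y * x) ∨ X ≤ normalizer (Y : Set G) ∨
      Y ≤ normalizer (X : Set G) := by
  have htσ : t ∉ sigma H := by
    rcases ht with h | h
    · exact h.2.1
    · exact h.2.1
  have ht'σ : t' ∉ sigma H := by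
    rcases ht' with h | h
    · exact h.2.1
    · exact h.2.1
  have hWH : X ⊔ Y ≤ H := sup_le hXH hYH
  have hW : ∀ q : ℕ, q.Prime → q ∣ Nat.card ↥(X ⊔ Y) → q ∉ sigma H := by
    intro q hq hqW
    rcases hXY q hq hqW with h | h
    · rw [h]; exact htσ
    · rw [h]; exact ht'σ
  rcases ht with ht1 | ht3
  swap
  · -- `t ∈ τ₃(H)`: `Y` normalizes `X`
    right; right
    exact le_sup_right.trans (bg139d3b_norm hG hH ht3 hXc le_sup_left hWH hW)
  rcases ht' with ht'1 | ht'3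
  swap
  · -- `t' ∈ τ₃(H)`: `X` normalizes `Y`
    right; left
    exact le_sup_left.trans (bg139d3b_norm hG hH ht'3 hYc le_sup_right hWH hW)
  -- both in `τ₁(H)`: the commutator lies in `H' ∩ (X ⊔ Y) = 1`
  left
  intro x hx y hy
  have hc1 : ⁅x, y⁆ ∈ ⁅H, H⁆ := Subgroup.commutator_mem_commutator (hXH hx) (hYH hy)
  have hc2 : ⁅x, y⁆ ∈ X ⊔ Y := by
    rw [commutatorElement_def]
    have hxW : x ∈ X ⊔ Y := (le_sup_left : X ≤ X ⊔ Y) hx
    have hyW : y ∈ X ⊔ Y := (le_sup_right : Y ≤ X ⊔ Y) hy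
    exact Subgroup.mul_mem _ (Subgroup.mul_mem _ (Subgroup.mul_mem _ hxW hyW)
      (Subgroup.inv_mem _ hxW)) (Subgroup.inv_mem _ hyW)
  have hd1 : orderOf ⁅x, y⁆ ∣ Nat.card ↥⁅H, H⁆ := by
    have h3 := orderOf_dvd_natCard (⟨⁅x, y⁆, hc1⟩ : ↥⁅H, H⁆)
    rwa [Subgroup.orderOf_mk] at h3
  have hd2 : orderOf ⁅x, y⁆ ∣ Nat.card ↥(X ⊔ Y) := by
    have h3 := orderOf_dvd_natCard (⟨⁅x, y⁆, hc2⟩ : ↥(X ⊔ Y))
    rwa [Subgroup.orderOf_mk] at h3
  have ho : orderOf ⁅x, y⁆ = 1 := by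
    by_contra hne
    obtain ⟨q, hq, hqd⟩ := Nat.exists_prime_and_dvd hne
    rcases hXY q hq (hqd.trans hd2) with h | h
    · exact ht1.2.2.2.1 (h ▸ hqd.trans hd1)
    · exact ht'1.2.2.2.1 (h ▸ hqd.trans hd1)
  exact commutatorElement_eq_one_iff_mul_comm.mp (orderOf_eq_one_iff.mp ho)

end Cfsg.Agent.Helper34
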