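/-
helper34: CALL LZ (helper1), PIECE NB (`bgz_not_beta`): if `s ∈ σ(M*)`, `X ≤ M*` has order `s` and
`C_G(X) ≤ M ≠ M*`, then `s ∉ β(M*)`.
-/
import Cfsg.Agent.S1423

set_option autoImplicit false

namespace Cfsg.Agent.Helper34

open Cfsg Subgroup

universe u

variable {G : Type u} [Group G] [Finite G]

/-- NB (Z4). -/
theorem bgz_not_beta (hG : IsMinSimpleOddOrder G) {M Ms X : Subgroup G} {s : ℕ} (hM : IsCoatom M)
    (hMs : IsCoatom Ms) (hne : Ms ≠ M) (hsσ : s ∈ sigma Ms) (hXMs : X ≤ Ms) (hX : Nat.card X = s)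
    (hXM : centralizer (X : Set G) ≤ M) : s ∉ beta Ms := by
  intro hβ
  have hsp : s.Prime := hsσ.1
  have : Fact s.Prime := ⟨hsp⟩
  obtain ⟨P⟩ := (inferInstance : Nonempty (Sylow s ↥(sigmaCore Ms)))
  have h := (Cfsg.Agent.S1423.result hG Ms hMs s hsσ X hXMs hX P (Or.inl hβ)).1.2 M hM hXM
  exact hne h.symm

end Cfsg.Agent.Helper34
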