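/-
helper34: CALL LZ (helper1), PIECE SN, core (`bgz_case_normal_core`): the statement of SN with the
pure piece NPC (`bgz_npc_centralizes`) as a hypothesis.
-/
import Cfsg.Agent.Helper20.BG13P4
import Cfsg.Agent.Helper22.BG12b
import Cfsg.Agent.Helper24.BG13A1
import Cfsg.Agent.S1403
import Cfsg.Agent.S1414
import Cfsg.Agent.S1426

set_option autoImplicit false

namespace Cfsg.Agent.Helper34

open Cfsg Subgroup

universe u

variable {G : Type u} [Group G] [Finite G]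

/-- SN (Z5) with NPC as a hypothesis. -/
theorem bgz_case_normal_core
    (hNPC : ∀ {K A : Subgroup G} {s : ℕ}, s.Prime → HasNormalPComplement s ↥K → A ≤ K →
      IsPGroup s A → ∀ {y : G}, y ∈ K → (orderOf y).Coprime s → y ∈ normalizer (A : Set G) →
      ∀ a ∈ A, y * a = a * y)
    (hG : IsMinSimpleOddOrder G) {Ms A P : Subgroup G} {p s : ℕ}
    (hMs : IsCoatom Ms) (hsσ : s ∈ sigma Ms) (hsβ : s ∉ beta Ms) (hAMs : A ≤ Ms)
    (hA : IsPGroup s A) (hPMs : P ≤ Ms) (hP : Nat.card P = p) (hps : p ≠ s)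
    (hp : p ∈ sigma Ms ∨ p ∈ tau3 Ms) (hPA : P ≤ normalizer (A : Set G)) :
    A ≤ centralizer (P : Set G) := by
  have hU : Helper22.BGUniq G := fun K hK h1 h2 => Cfsg.Agent.S1403.result hG K hK h1 h2
  have hsp : s.Prime := hsσ.1
  have hsdvd : s ∣ Nat.card Ms := hsσ.2.1
  obtain ⟨-, -, -, -, h14⟩ := Cfsg.Agent.S1414.result hG Ms hMs
  obtain ⟨hnpc1, hnpc2, -⟩ := h14 s hsp hsdvd hsβ
  obtain ⟨Es, hEs, -⟩ := Helper20.bg13_exists_compl_ge hG hU hMs
    (bot_le : (⊥ : Subgroup G) ≤ Ms) (by simp)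
  have hσcomm : sigmaCore Ms ≤ ⁅Ms, Ms⁆ := by
    have h26 := (Cfsg.Agent.S1426.result hG Ms hMs Es hEs).2.1
    rw [← h26]
    exact Subgroup.commutator_mono hEs.2.1 hEs.1
  have hAσ : A ≤ sigmaCore Ms := Helper22.bg12_le_sigmaCore hG hU hMs hsp hsσ hAMs hA
  have hpp : p.Prime := by
    rcases hp with h | h
    · exact h.1
    · exact h.1
  have hord : ∀ y ∈ P, orderOf y ∣ p := fun y hy => hP ▸ Subgroup.orderOf_dvd_natCard P hy
  have hcop : ∀ y ∈ P, (orderOf y).Coprime s := fun y hy =>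
    Nat.Coprime.coprime_dvd_left (hord y hy) ((Nat.coprime_primes hpp hsp).mpr hps)
  intro a ha
  rw [Subgroup.mem_centralizer_iff]
  intro y hy
  rcases hp with hpσ | hp3
  · have hPσ : P ≤ sigmaCore Ms :=
      Helper22.bg12_le_sigmaCore hG hU hMs hpp hpσ hPMs
        (IsPGroup.of_card (n := 1) (by rw [hP, pow_one]))
    exact hNPC hsp hnpc2 hAσ hA (hPσ hy) (hcop y hy) (hPA hy) a ha
  · have hyp : y ^ p ^ 1 = 1 := by
      rw [pow_one]; exact orderOf_dvd_iff_pow_eq_one.mp (hord y hy)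
    have hyc : y ∈ ⁅Ms, Ms⁆ := Helper24.bg13_tau3_mem_commutator hG hMs hp3 (hPMs hy) hyp
    exact hNPC hsp hnpc1 (hAσ.trans hσcomm) hA hyc (hcop y hy) (hPA hy) a ha

end Cfsg.Agent.Helper34
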