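/-
helper34: CALL LZ (helper1), PIECE SN (`bgz_case_normal`): if `s ∈ σ(M*) ∖ β(M*)`, `A ≤ M*` is an
`s`-group and `P ≤ M*` of order `p ≠ s`, `p ∈ σ(M*) ∪ τ₃(M*)`, normalizes `A`, then `P`
centralizes `A`.
-/
import Cfsg.Agent.Helper34.BGZSNCore
import Cfsg.Agent.Helper4.BGZNPC

set_option autoImplicit false

namespace Cfsg.Agent.Helper34

open Cfsg Subgroup

universe u

variable {G : Type u} [Group G] [Finite G]

/-- SN (Z5). -/
theorem bgz_case_normal (hG : IsMinSimpleOddOrder G) {Ms A P : Subgroup G} {p s : ℕ}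
    (hMs : IsCoatom Ms) (hsσ : s ∈ sigma Ms) (hsβ : s ∉ beta Ms) (hAMs : A ≤ Ms)
    (hA : IsPGroup s A) (hPMs : P ≤ Ms) (hP : Nat.card P = p) (hps : p ≠ s)
    (hp : p ∈ sigma Ms ∨ p ∈ tau3 Ms) (hPA : P ≤ normalizer (A : Set G)) :
    A ≤ centralizer (P : Set G) :=
  bgz_case_normal_core
    (fun hs hK hAK hA' _ hyK hy hyA =>
      Cfsg.Agent.Helper4.bgz_npc_centralizes hs hK hAK hA' hyK hy hyA)
    hG hMs hsσ hsβ hAMs hA hPMs hP hps hp hPA

end Cfsg.Agent.Helper34
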