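/-
helper34: CALL S1366 piece DISJ (bg147_disj + bg147_comm).
-/
import Cfsg.Agent.Helper54.BG14T3
import Cfsg.Agent.Helper23.Trans
import Cfsg.Agent.S1378

set_option autoImplicit false

namespace Cfsg.Agent.Helper34

open Cfsg Subgroup

universe u

variable {G : Type u} [Group G] [Finite G]

/-- A1a. The `σ`-cores of two non-conjugate maximal subgroups meet trivially. -/
theorem bg147_disj (hG : IsMinSimpleOddOrder G) {M L : Subgroup G} (hM : IsCoatom M)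
    (hL : IsCoatom L) (hnc : ∀ g : G, L ≠ M.map (MulAut.conj g).toMonoidHom) :
    sigmaCore M ⊓ sigmaCore L = ⊥ := by
  rw [eq_bot_iff]
  rintro z ⟨hzM, hzL⟩
  rw [Subgroup.mem_bot]
  by_contra hz1
  have ho : orderOf z ≠ 1 := by rwa [Ne, orderOf_eq_one_iff]
  obtain ⟨q, hq, hqd⟩ := Nat.exists_prime_and_dvd ho
  have h1 : q ∈ sigma M := Cfsg.Agent.Helper54.bg14t_mem_sigma_of_dvd hzM hq hqd
  have h2 : q ∈ sigma L := Cfsg.Agent.Helper54.bg14t_mem_sigma_of_dvd hzL hq hqd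
  obtain ⟨g, hg⟩ := (Cfsg.Agent.S1378.result hG).2 M L hM hL ⟨q, h1, h2⟩
  exact hnc g hg

/-- A1b. `M_σ ∩ L` and `L_σ ∩ M` commute elementwise. -/
theorem bg147_comm (hG : IsMinSimpleOddOrder G) {M L : Subgroup G} (hM : IsCoatom M)
    (hL : IsCoatom L) (hnc : ∀ g : G, L ≠ M.map (MulAut.conj g).toMonoidHom) {a x : G}
    (ha : a ∈ sigmaCore M) (haL : a ∈ L) (hx : x ∈ sigmaCore L) (hxM : x ∈ M) :
    a * x = x * a := by
  have hNM : M ≤ normalizer (sigmaCore M : Set G) :=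
    Cfsg.Agent.Helper23.le_normalizer_piCoreOf (sigma M) M
  have hNL : L ≤ normalizer (sigmaCore L : Set G) :=
    Cfsg.Agent.Helper23.le_normalizer_piCoreOf (sigma L) L
  have h1 : a * x * a⁻¹ ∈ sigmaCore L := (Subgroup.mem_normalizer_iff.mp (hNL haL) x).mp hx
  have h2 : x * a⁻¹ * x⁻¹ ∈ sigmaCore M :=
    (Subgroup.mem_normalizer_iff.mp (hNM hxM) a⁻¹).mp (Subgroup.inv_mem _ ha)
  have h3 : a * x * a⁻¹ * x⁻¹ ∈ sigmaCore M ⊓ sigmaCore L := by
    refine ⟨?_, Subgroup.mul_mem _ h1 (Subgroup.inv_mem _ hx)⟩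
    have h : a * x * a⁻¹ * x⁻¹ = a * (x * a⁻¹ * x⁻¹) := by group
    rw [h]
    exact Subgroup.mul_mem _ ha h2
  rw [bg147_disj hG hM hL hnc, Subgroup.mem_bot] at h3
  have h4 : a * x = a * x * a⁻¹ * x⁻¹ * (x * a) := by group
  rw [h4, h3, one_mul]

end Cfsg.Agent.Helper34
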