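/-
helper34: towards S1439 (B&G Corollary 12.6(a),(c)): for a maximal subgroup `M` of a minimal
simple group of odd order, a nontrivial `s`-subgroup `T` normalized by `M`, with `s ∉ σ(M)`,
is cyclic and `s ∈ τ₂(M)`.
Everything lives in `Cfsg.Agent.Helper34`.
-/
import Cfsg.Agent.Helper24.BG11b
import Cfsg.Agent.Helper23.BG11E4
import Cfsg.Agent.Helper22.BG12b
import Cfsg.Agent.Helper1.BGUniqE

set_option autoImplicit false

namespace Cfsg.Agent.Helper34

open Cfsg Subgroup Cfsg.Agent.Helper22 Cfsg.Agent.Helper23 Cfsg.Agent.Helper24 Cfsg.Agent.Helper35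
open scoped Pointwise

universe u

variable {G : Type u} [Group G]

/-- `Ω₁(Z(T))` as a subgroup of the ambient group. -/
def omZ (p : ℕ) (T : Subgroup G) : Subgroup G where
  carrier := {x | x ∈ T ∧ x ^ p = 1 ∧ ∀ t ∈ T, t * x = x * t}
  mul_mem' := by
    rintro x y ⟨hx, hxp, hxc⟩ ⟨hy, hyp, hyc⟩
    refine ⟨mul_mem hx hy, ?_, ?_⟩
    · rw [(show Commute x y from hyc x hx).mul_pow, hxp, hyp, one_mul]
    · intro t ht
      rw [← mul_assoc, hxc t ht, mul_assoc, hyc t ht, mul_assoc]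
  one_mem' := ⟨one_mem _, one_pow _, fun t _ => by rw [mul_one, one_mul]⟩
  inv_mem' := by
    rintro x ⟨hx, hxp, hxc⟩
    refine ⟨inv_mem hx, by rw [inv_pow, hxp, inv_one], ?_⟩
    intro t ht
    have h1 := hxc t ht
    calc t * x⁻¹ = x⁻¹ * (x * t) * x⁻¹ := by group
      _ = x⁻¹ * (t * x) * x⁻¹ := by rw [h1]
      _ = x⁻¹ * t := by group

theorem mem_omZ {p : ℕ} {T : Subgroup G} {x : G} :
    x ∈ omZ p T ↔ x ∈ T ∧ x ^ p = 1 ∧ ∀ t ∈ T, t * x = x * t := Iff.rfl

theorem omZ_le (p : ℕ) (T : Subgroup G) : omZ p T ≤ T := fun _ hx => hx.1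

theorem omZ_elemAb (p : ℕ) (T : Subgroup G) : IsElementaryAbelian p (omZ p T) :=
  ⟨⟨⟨fun x y => Subtype.ext (y.2.2.2 x x.2.1)⟩⟩, fun _ hx => hx.2.1⟩

theorem omZ_ne_bot [Finite G] {p : ℕ} [Fact p.Prime] {T : Subgroup G} (hT : IsPGroup p T)
    (hT1 : T ≠ ⊥) : omZ p T ≠ ⊥ := by
  have hnt : Nontrivial ↥T := (Subgroup.nontrivial_iff_ne_bot T).mpr hT1
  have hc : Nontrivial ↥(center ↥T) := hT.center_nontrivial
  have hcp : IsPGroup p ↥(center ↥T) := hT.to_subgroup _
  obtain ⟨n, hn⟩ := IsPGroup.iff_card.mp hcp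
  have hn0 : n ≠ 0 := by
    rintro rfl
    rw [pow_zero] at hn
    have := (Nat.card_eq_one_iff_unique.mp hn).1
    exact not_subsingleton _ this
  have hd : p ∣ Nat.card ↥(center ↥T) := by rw [hn]; exact dvd_pow_self p hn0
  obtain ⟨z, hz⟩ := exists_prime_orderOf_dvd_card' p hd
  intro hbot
  have hmem : ((z : ↥T) : G) ∈ omZ p T := by
    refine ⟨(z : ↥T).2, ?_, ?_⟩
    · have h1 : z ^ p = 1 := by rw [← hz]; exact pow_orderOf_eq_one z
      have h2 : ((z ^ p : ↥(center ↥T)) : ↥T) = 1 := by rw [h1]; rfl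
      have h3 : (((z : ↥T) ^ p : ↥T) : G) = 1 := by
        rw [← Subgroup.coe_pow] at *
        rw [h2]; rfl
      simpa using h3
    · intro t ht
      have h1 := (Subgroup.mem_center_iff.mp z.2) ⟨t, ht⟩
      exact congrArg Subtype.val h1
  rw [hbot, Subgroup.mem_bot] at hmem
  have hz1 : z = 1 := by
    apply Subtype.ext; apply Subtype.ext; exact hmem
  rw [hz1, orderOf_one] at hz
  exact (Fact.out : p.Prime).one_lt.ne hz

theorem omZ_normalizer [Finite G] {p : ℕ} {T M : Subgroup G} (hMT : M ≤ normalizer (T : Set G)) :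
    M ≤ normalizer ((omZ p T : Subgroup G) : Set G) := by
  intro m hm
  apply bg10_mem_normalizer
  rintro x ⟨hx, hxp, hxc⟩
  have hmT := hMT hm
  have hconj : ∀ t ∈ T, m * t * m⁻¹ ∈ T := fun t ht => (mem_normalizer_iff.mp hmT t).mp ht
  have hconj' : ∀ t ∈ T, m⁻¹ * t * m ∈ T := fun t ht => by
    have := (mem_normalizer_iff.mp (inv_mem hmT) t).mp ht
    simpa using this
  refine ⟨hconj x hx, ?_, ?_⟩
  · rw [conj_pow, hxp]; group
  · intro t ht
    have h1 := hxc _ (hconj' t ht)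
    calc t * (m * x * m⁻¹) = m * ((m⁻¹ * t * m) * x) * m⁻¹ := by group
      _ = m * (x * (m⁻¹ * t * m)) * m⁻¹ := by rw [h1]
      _ = m * x * m⁻¹ * t := by group

/-- Two subgroups of `M`, each normalized by `M`, of coprime orders, commute elementwise. -/
theorem comm_of_coprime_normalized [Finite G] {M Z K : Subgroup G} (hZM : Z ≤ M) (hKM : K ≤ M)
    (hMZ : M ≤ normalizer (Z : Set G)) (hMK : M ≤ normalizer (K : Set G))
    (hcop : (Nat.card Z).Coprime (Nat.card K)) : ∀ z ∈ Z, ∀ x ∈ K, z * x = x * z := by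
  intro z hz x hx
  have h1 : z * x * z⁻¹ * x⁻¹ ∈ Z ⊓ K := by
    refine Subgroup.mem_inf.mpr ⟨?_, ?_⟩
    · have h2 : x * z⁻¹ * x⁻¹ ∈ Z := (mem_normalizer_iff.mp (hMZ (hKM hx)) _).mp (inv_mem hz)
      have e : z * x * z⁻¹ * x⁻¹ = z * (x * z⁻¹ * x⁻¹) := by group
      rw [e]; exact mul_mem hz h2
    · have h2 : z * x * z⁻¹ ∈ K := (mem_normalizer_iff.mp (hMK (hZM hz)) _).mp hx
      exact mul_mem h2 (inv_mem hx)
  rw [(Subgroup.disjoint_of_coprime_natCard hcop).eq_bot, Subgroup.mem_bot] at h1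
  calc z * x = (z * x * z⁻¹ * x⁻¹) * x * z := by group
    _ = x * z := by rw [h1, one_mul]

/-- **Local form of B&G Corollary 12.6(a)**: a nontrivial `s`-subgroup `T` of `M` normalized by
`M`, for a prime `s ∉ σ(M)`, is cyclic, and `s ∈ τ₂(M)`. -/
theorem bg1439_local [Finite G] (hG : IsMinSimpleOddOrder G) (hU : BGUniq G) (hpl : BGPLen G)
    (h12 : BGRk2 G) {M : Subgroup G} (hM : IsCoatom M) {s : ℕ} [Fact s.Prime]
    (hs : s ∉ sigma M) {T : Subgroup G} (hT : IsPGroup s T) (hT1 : T ≠ ⊥) (hTM : T ≤ M)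
    (hMT : M ≤ normalizer (T : Set G)) : s ∈ tau2 M ∧ IsCyclic ↥T := by
  have hs' : s.Prime := Fact.out
  have : IsSimpleGroup G := hG.2.1
  have hr2 : PRankLE s 2 ↥M :=
    bg10_pRank_of_not_alpha M s hs' (fun h => hs (bg10_alpha_sub_sigma hG hU hM h))
  have hZT : omZ s T ≤ T := omZ_le s T
  have hZM : omZ s T ≤ M := hZT.trans hTM
  have hZel := omZ_elemAb s T
  have hZ1 : omZ s T ≠ ⊥ := omZ_ne_bot hT hT1
  have hMZ : M ≤ normalizer ((omZ s T : Subgroup G) : Set G) := omZ_normalizer hMT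
  have hNZ : normalizer ((omZ s T : Subgroup G) : Set G) = M :=
    Cfsg.Agent.Helper1.bgu_coatom_normalizer_eq hM hZ1 hZM hMZ
  have hZp : IsPGroup s ↥(omZ s T) := bg11_isPGroup_of_elemAb hZel
  obtain ⟨k, hk⟩ := IsPGroup.iff_card.mp hZp
  have hk0 : k ≠ 0 := by
    rintro rfl
    rw [pow_zero] at hk
    exact hZ1 (Subgroup.card_eq_one.mp hk)
  have hk2 : k ≤ 2 := by
    have h1 := hr2 ((omZ s T).subgroupOf M)
      ⟨⟨fun x y => Subtype.ext (Subtype.ext (bg11_elemAb_comm hZel _ x.2 _ y.2))⟩⟩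
      (fun a ha => by
        apply Subtype.ext
        rw [Subgroup.coe_pow]; exact hZel.2 _ (Subgroup.mem_subgroupOf.mp ha))
    rw [Nat.card_congr (Subgroup.subgroupOfEquivOfLe hZM).toEquiv, hk] at h1
    exact (Nat.pow_le_pow_iff_right hs'.one_lt).mp h1
  have hk12 : k = 1 ∨ k = 2 := by omega
  rcases hk12 with rfl | rfl
  · -- `|Z| = s`: Hypothesis 11.1 holds, Sylow `s`-subgroups of `M` are abelian
    have hZc : Nat.card ↥(omZ s T) = s := by simpa using hk
    obtain ⟨⟨hr2', hr1⟩, -, A, hA, hAc, hZA⟩ :=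
      bg10_nonsigma_normalizer hG hU hM hs hZc hNZ.le
    refine ⟨⟨hs', hs, hr2', hr1⟩, ?_⟩
    have h11 : BG11Hyp M (omZ s T) A s := ⟨hM, hs, hZc, hNZ.le, hZA, hA, hAc⟩
    obtain ⟨P, hP, hTP⟩ := exists_isSylowOf_ge hT hTM
    have hab := bg11b_sylow_abelian hG hU hpl h12 h11 hP
    have hs2 : s ≠ 2 := by
      intro e
      have hsG : 2 ∣ Nat.card G := by
        have h1 : s ∣ Nat.card ↥(omZ s T) := by rw [hZc]
        rw [e] at h1
        exact h1.trans (Subgroup.card_subgroup_dvd_card _)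
      exact (Nat.not_even_iff_odd.mpr hG.1) (even_iff_two_dvd.mpr hsG)
    apply Cfsg.Agent.Helper49.isCyclic_of_pRankLE_one hs2 hT
    intro A' hA'c hA'p
    have hle : A'.map T.subtype ≤ omZ s T := by
      rintro _ ⟨a, ha, rfl⟩
      refine ⟨a.2, ?_, fun t ht => hab t (hTP ht) a (hTP a.2)⟩
      have h2 := congrArg Subtype.val (hA'p a ha)
      simpa using h2
    calc Nat.card A' = Nat.card (A'.map T.subtype) :=
          (Subgroup.card_map_of_injective T.subtype_injective).symm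
      _ ≤ Nat.card (omZ s T) := Subgroup.card_le_of_le hle
      _ = s ^ 1 := by rw [hZc, pow_one]
  · -- `|Z| = s²`: (E4) puts a Sylow `s`-subgroup of `G` with its normalizer inside `M`
    exfalso
    have hmax := bg10_elemAb_sq_maximal hG hU hM hr2 hZM hZel hk
    have hσ1 := bg11b_sigmaCore_ne_bot hG hU hM
    have hc1 : Nat.card ↥(sigmaCore M) ≠ 1 := fun h => hσ1 (Subgroup.card_eq_one.mp h)
    obtain ⟨q, hq, hqd⟩ := Nat.exists_prime_and_dvd hc1
    have hqσ : q ∈ sigma M := mem_of_dvd_card_piCoreOf (sigma M) M hq hqd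
    have hqs : q ≠ s := fun e => hs (e ▸ hqσ)
    have := Fact.mk hq
    obtain ⟨Q, hQ⟩ : ∃ Q : Subgroup G, Q ∈ sylowSet q (sigmaCore M) :=
      ⟨_, sylow_map_mem_sylowSet (default : Sylow q ↥(sigmaCore M))⟩
    obtain ⟨hQtop, hQM, hNQ⟩ := bg11_sigma_sylow hG hU hM hqσ hQ
    have hQ1 : Q ≠ ⊥ := bg12_sylowSet_ne_bot hq hQ hqd
    have hσM : sigmaCore M ≤ M := piCoreOf_le _ _
    have hMσ : M ≤ normalizer ((sigmaCore M : Subgroup G) : Set G) := le_normalizer_piCoreOf _ _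
    have hcop : (Nat.card ↥(omZ s T)).Coprime (Nat.card ↥(sigmaCore M)) := by
      rw [hk]
      apply Nat.Coprime.pow_left
      rw [Nat.Prime.coprime_iff_not_dvd hs']
      intro h
      exact hs (mem_of_dvd_card_piCoreOf (sigma M) M hs' h)
    have hcomm := comm_of_coprime_normalized hZM hσM hMZ hMσ hcop
    have hQcent : Q ≤ centralizer ((omZ s T : Subgroup G) : Set G) := by
      intro x hx
      rw [mem_centralizer_iff]
      intro z hz
      exact hcomm z hz x (hQ.1 hx)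
    have hZQ : omZ s T ≤ normalizer (Q : Set G) := by
      intro z hz
      apply bg10_mem_normalizer
      intro x hx
      have h1 := hcomm z hz x (hQ.1 hx)
      rw [h1, mul_assoc, mul_inv_cancel, mul_one]; exact hx
    have hqC : q ∣ Nat.card (centralizer ((omZ s T : Subgroup G) : Set G)) :=
      (bg11_dvd_card_of_isPGroup hQtop.2.1 hQ1).trans (Subgroup.card_dvd_of_le hQcent)
    have hQmax := bg11_sylow_maxInv hq hQtop hZQ
    obtain ⟨S, hS, hZS, hSN, -, hNS⟩ := bg11_e4 hG hpl hZel hk hmax hq hqs hqC hQmax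
    have hSM : S ≤ M := hSN.trans hNQ
    have hNSM : normalizer (S : Set G) ≤ M := by
      refine hNS.trans (sup_le ?_ hNQ)
      rw [← hNZ]
      exact Subgroup.centralizer_le_normalizer _
    have hSsyl : IsSylowOf s S M := ⟨hSM, hS.2.1, fun R _ hR hle => hS.2.2 R le_top hR hle⟩
    apply hs
    have hsM : s ∣ Nat.card M := by
      have h1 : s ∣ Nat.card ↥(omZ s T) := by rw [hk]; exact dvd_pow_self s (by norm_num)
      exact h1.trans (Subgroup.card_dvd_of_le hZM)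
    obtain ⟨P₀, hP₀⟩ := hSsyl.exists_sylow
    refine ⟨hs', hsM, P₀, ?_⟩
    rw [hP₀, Subgroup.map_subgroupOf_eq_of_le hSM]
    exact hNSM

/-- **B&G Corollary 12.6(a),(c)** with the earlier results of B&G as hypotheses. -/
theorem bg1439_main [Finite G] (hG : IsMinSimpleOddOrder G) (hU : BGUniq G) (hpl : BGPLen G)
    (h12 : BGRk2 G) (M : Subgroup G) (hM : IsCoatom M) :
    IsCyclic ↥(piCoreOf {q | q.Prime ∧ q ∉ sigma M} (fittingOf M)) ∧
      (∀ p : ℕ, p.Prime →
        p ∣ Nat.card ↥(piCoreOf {q | q.Prime ∧ q ∉ sigma M} (fittingOf M)) → p ∈ tau2 M) ∧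
      fittingOf M = fittingOf (sigmaCore M) ⊔
        piCoreOf {q | q.Prime ∧ q ∉ sigma M} (fittingOf M) := by
  set Y := piCoreOf {q | q.Prime ∧ q ∉ sigma M} (fittingOf M) with hYdef
  have hFM : fittingOf M ≤ M := Cfsg.Agent.Helper1.bgu_fittingOf_le M
  have hFnil : Group.IsNilpotent ↥(fittingOf M) := Cfsg.Agent.Helper1.bgu_fittingOf_isNilpotent M
  have hMF : M ≤ normalizer ((fittingOf M : Subgroup G) : Set G) :=
    Cfsg.Agent.Helper1.bgu_le_normalizer_fittingOf M
  have hYF : Y ≤ fittingOf M := piCoreOf_le _ _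
  have hYM : Y ≤ M := hYF.trans hFM
  have hMY : M ≤ normalizer (Y : Set G) :=
    hMF.trans (Cfsg.Agent.Helper1.bgu_normalizer_le_normalizer_piCoreOf _ _)
  have hYnil : Group.IsNilpotent ↥Y := Cfsg.Agent.Helper25.isNilpotent_of_le hYF hFnil
  have hYπ : ∀ p : ℕ, p.Prime → p ∣ Nat.card ↥Y → p ∉ sigma M := fun p hp h =>
    (mem_of_dvd_card_piCoreOf _ _ hp h).2
  have key : ∀ (p : ℕ) [Fact p.Prime] (P : Sylow p ↥Y), (P : Subgroup ↥Y) ≠ ⊥ →
      p ∈ tau2 M ∧ IsCyclic ↥(P : Subgroup ↥Y) := by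
    intro p _ P hP1
    have hp : p.Prime := Fact.out
    have hT := sylow_map_mem_sylowSet P
    have hMT := bg11_sylow_normal_of_nilpotent hMY hYnil hT
    have hTp : IsPGroup p ↥((P : Subgroup ↥Y).map Y.subtype) := P.2.map _
    have hT1 : (P : Subgroup ↥Y).map Y.subtype ≠ ⊥ := by
      intro e
      apply hP1
      exact (Subgroup.map_eq_bot_iff_of_injective _ Y.subtype_injective).mp e
    have hpY : p ∣ Nat.card ↥Y :=
      (bg11_dvd_card_of_isPGroup hTp hT1).trans (Subgroup.card_dvd_of_le hT.1)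
    obtain ⟨h1, h2⟩ :=
      bg1439_local hG hU hpl h12 hM (hYπ p hp hpY) hTp hT1 (hT.1.trans hYM) hMT
    refine ⟨h1, ?_⟩
    exact (MulEquiv.isCyclic
      ((P : Subgroup ↥Y).equivMapOfInjective Y.subtype Y.subtype_injective)).mpr h2
  refine ⟨?_, ?_, ?_⟩
  · have hZ : IsZGroup ↥Y := ⟨fun p hp P => by
      have := Fact.mk hp
      by_cases hP1 : (P : Subgroup ↥Y) = ⊥
      · rw [hP1]; infer_instance
      · exact (key p P hP1).2⟩
    infer_instance
  · intro p hp hpY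
    have := Fact.mk hp
    exact (key p (default : Sylow p ↥Y) (Sylow.ne_bot_of_dvd_card _ hpY)).1
  · apply le_antisymm
    · apply bg11_le_of_sylows
      intro r hr
      have := Fact.mk hr
      obtain ⟨Q, hQ⟩ : ∃ Q : Subgroup G, Q ∈ sylowSet r (fittingOf M) :=
        ⟨_, sylow_map_mem_sylowSet (default : Sylow r ↥(fittingOf M))⟩
      refine ⟨Q, hQ, ?_⟩
      have hMQ : M ≤ normalizer (Q : Set G) := bg11_sylow_normal_of_nilpotent hMF hFnil hQ
      have hQp : IsPGroup r ↥Q := IsPGroup.of_card hQ.2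
      have hQM : Q ≤ M := hQ.1.trans hFM
      by_cases hrσ : r ∈ sigma M
      · refine le_trans ?_ le_sup_left
        have h1 : Q ≤ sigmaCore M := bg12_le_sigmaCore hG hU hM hr hrσ hQM hQp
        exact Cfsg.Agent.Helper1.bgu_le_fittingOf h1 ((piCoreOf_le _ _).trans hMQ)
          hQp.isNilpotent
      · refine le_trans ?_ le_sup_right
        apply le_piCoreOf hQ.1 (hFM.trans hMQ)
        intro p hp hpQ
        have h1 : p = r := primes_of_isPGroup hr hQp p hp hpQ
        rw [h1]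
        exact ⟨hr, hrσ⟩
    · apply sup_le
      · apply Cfsg.Agent.Helper1.bgu_le_fittingOf
          ((Cfsg.Agent.Helper1.bgu_fittingOf_le _).trans (piCoreOf_le _ _))
        · exact (le_normalizer_piCoreOf (sigma M) M).trans
            (Cfsg.Agent.Helper1.bgu_normalizer_le_normalizer_fittingOf _)
        · exact Cfsg.Agent.Helper1.bgu_fittingOf_isNilpotent _
      · exact hYF

end Cfsg.Agent.Helper34
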