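/-
helper34: piece P4c of CALL S1421 (helper23; B&G 12.10): the maximal subgroup `H` over
`N_G(⟨e₁⟩)` cannot have `p ∉ σ(H)`.  Also a general conjugation lemma into a complement of `M_σ`.
Everything lives in `Cfsg.Agent.Helper34`.
-/
import Cfsg.Agent.Helper23.BG1210
import Cfsg.Agent.Helper20.BG13P4
import Cfsg.Agent.Helper72.BG12Cor2
import Cfsg.Agent.Helper49.OddCyclic
import Cfsg.Agent.Helper34.BG1439

set_option autoImplicit false

namespace Cfsg.Agent.Helper34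

open Cfsg Subgroup Cfsg.Agent.Helper22 Cfsg.Agent.Helper23 Cfsg.Agent.Helper24 Cfsg.Agent.Helper35
open scoped Pointwise

universe u

variable {G : Type u} [Group G] [Finite G]

/-- An `s`-subgroup of `M`, for `s ∉ σ(M)`, is `M`-conjugate into any complement `E` of `M_σ`. -/
theorem bg1210_conj_into_compl {M E : Subgroup G}
    (hE : IsComplIn E (sigmaCore M) M) {s : ℕ} [Fact s.Prime]
    (hs : s ∉ sigma M) {X : Subgroup G} (hXM : X ≤ M) (hX : IsPGroup s X) :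
    ∃ g ∈ M, ∀ x ∈ X, g * x * g⁻¹ ∈ E := by
  have hs' : s.Prime := Fact.out
  obtain ⟨R, hR, -⟩ :=
    exists_isSylowOf_ge (IsPGroup.of_bot : IsPGroup s (⊥ : Subgroup G)) (bot_le : ⊥ ≤ E)
  obtain ⟨Q, hQ, hRQ⟩ := exists_isSylowOf_ge hR.2.1 (hR.1.trans hE.1)
  have hMσ : M ≤ normalizer ((sigmaCore M : Subgroup G) : Set G) := le_normalizer_piCoreOf _ _
  have hcard : Nat.card E * Nat.card (sigmaCore M) = Nat.card M := bg12_card_compl hMσ hE
  obtain ⟨k, hk⟩ := IsPGroup.iff_card.mp hQ.2.1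
  have hcop : (Nat.card Q).Coprime (Nat.card (sigmaCore M)) := by
    rw [hk]
    apply Nat.Coprime.pow_left
    rw [Nat.Prime.coprime_iff_not_dvd hs']
    intro h
    exact hs (mem_of_dvd_card_piCoreOf (sigma M) M hs' h)
  have hdvd : Nat.card Q ∣ Nat.card E := by
    have h1 : Nat.card Q ∣ Nat.card E * Nat.card (sigmaCore M) := by
      rw [hcard]; exact Subgroup.card_dvd_of_le hQ.1
    exact hcop.dvd_of_dvd_mul_right h1
  rw [hk] at hdvd
  obtain ⟨K, hK⟩ := Sylow.exists_subgroup_card_pow_prime s hdvd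
  have hKp : IsPGroup s (K.map E.subtype) := (IsPGroup.of_card hK).map _
  have hle : Nat.card Q ≤ Nat.card R := by
    have h1 := bg10_card_le_sylow hR hKp (Subgroup.map_subtype_le K)
    rwa [Subgroup.card_map_of_injective E.subtype_injective, hK, ← hk] at h1
  have hRQeq : R = Q := Subgroup.eq_of_le_of_card_ge hRQ hle
  obtain ⟨Q', hQ', hXQ'⟩ := exists_isSylowOf_ge hX hXM
  obtain ⟨h, hhM, hh⟩ := bg10_sylow_conj hQ' hQ
  refine ⟨h, hhM, fun x hx => ?_⟩
  apply hR.1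
  rw [hRQeq, hh, mem_conj_smul]
  have e : h⁻¹ * (h * x * h⁻¹) * h = x := by group
  rw [e]; exact hXQ' hx

/-- **P4c** of CALL S1421. -/
theorem bg1210_step2_nonsigma (hG : IsMinSimpleOddOrder G) {M E : Subgroup G} (hM : IsCoatom M)
    (hE : IsComplIn E (sigmaCore M) M) {p : ℕ} [Fact p.Prime] (hp : p ∈ tau2 M)
    {A : Subgroup G} (hAE : A ≤ E) (hA : IsElementaryAbelian p A) (hAc : Nat.card A = p ^ 2)
    {r : ℕ} (hr : r.Prime) (hrτ : r ∈ tau1 M ∪ tau3 M) {e₁ : G} (he₁M : e₁ ∈ M)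
    (ho : orderOf e₁ = r) {H : Subgroup G} (hH : IsCoatom H) (hHM : H ≠ M)
    (hNH : normalizer (zpowers e₁ : Set G) ≤ H) (hAH : A ≤ H) (hpH : p ∉ sigma H) : False := by
  have hU : BGUniq G := fun K hK h1 h2 => Cfsg.Agent.S1403.result hG K hK h1 h2
  have hp' : p.Prime := Fact.out
  have := Fact.mk hr
  have hAM : A ≤ M := hAE.trans hE.1
  have hr1M : PRankLE r 1 ↥M := by
    rcases hrτ with h | h
    · exact h.2.2.2.2
    · exact h.2.2.2
  have hpr : p ≠ r := by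
    rintro rfl
    exact hp.2.2.2 hr1M
  -- `p ∈ τ₂(H)`
  have hpr2 : PRankLE p 2 ↥H :=
    bg10_pRank_of_not_alpha H p hp' (fun h => hpH (bg10_alpha_sub_sigma hG hU hH h))
  have hpr1 : ¬ PRankLE p 1 ↥H := by
    intro h
    have h1 := bg12_card_le_of_pRankLE h hAH hA
    rw [hAc] at h1
    have h2 := Nat.pow_lt_pow_right hp'.one_lt (show 1 < 2 by norm_num)
    omega
  have hpτH : p ∈ tau2 H := ⟨hp', hpH, hpr2, hpr1⟩
  obtain ⟨-, -, -, -, h17e, -⟩ := Cfsg.Agent.S1417.result hG H hH p hpτH A ⟨hAH, hA, hAc⟩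
  have hHσM : sigmaCore H ⊓ M = ⊥ := h17e M hM hHM.symm hAM
  have hZH : zpowers e₁ ≤ H := fun x hx => hNH (le_normalizer hx)
  have he₁1 : e₁ ≠ 1 := by
    intro h
    rw [h, orderOf_one] at ho
    exact hr.one_lt.ne ho
  have hZc : Nat.card (zpowers e₁) = r := by rw [Nat.card_zpowers, ho]
  have hZp : IsPGroup r (zpowers e₁) := IsPGroup.of_card (n := 1) (by rw [hZc, pow_one])
  have hZ1 : zpowers e₁ ≠ ⊥ := by
    intro h
    have h1 := mem_zpowers e₁
    rw [h] at h1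
    exact he₁1 (Subgroup.mem_bot.mp h1)
  -- `r ∉ σ(H)`
  have hrσH : r ∉ sigma H := by
    intro hrσ
    have h1 : zpowers e₁ ≤ sigmaCore H := bg12_le_sigmaCore hG hU hH hr hrσ hZH hZp
    have h2 : e₁ ∈ sigmaCore H ⊓ M := ⟨h1 (mem_zpowers e₁), he₁M⟩
    rw [hHσM] at h2
    exact he₁1 (Subgroup.mem_bot.mp h2)
  have hrr2 : PRankLE r 2 ↥H :=
    bg10_pRank_of_not_alpha H r hr (fun h => hrσH (bg10_alpha_sub_sigma hG hU hH h))
  have hr2 : r ≠ 2 := by
    intro e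
    have h1 : r ∣ Nat.card G := by rw [← hZc]; exact Subgroup.card_subgroup_dvd_card _
    rw [e] at h1
    exact (Nat.not_even_iff_odd.mpr hG.1) (even_iff_two_dvd.mpr h1)
  have hrr1 : ¬ PRankLE r 1 ↥H := by
    intro h
    obtain ⟨S, hS, hZS⟩ := exists_isSylowOf_ge hZp hZH
    have hSc : IsCyclic S :=
      Cfsg.Agent.Helper49.isCyclic_of_pRankLE_one hr2 hS.2.1 (pRankLE_of_le hS.1 h)
    have hNS : normalizer (S : Set G) ≤ H :=
      (Cfsg.Agent.Helper72.b12c_normalizer_cyclic_le hSc hZS).trans hNH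
    have hS1 : S ≠ ⊥ := fun h0 => hZ1 (le_bot_iff.mp (h0 ▸ hZS))
    exact hrσH (bg12_mem_sigma hS hS1 hNS)
  have hrτH : r ∈ tau2 H := ⟨hr, hrσH, hrr2, hrr1⟩
  -- a complement `E'` of `H_σ` in `H` containing `A`
  have hcopA : (Nat.card A).Coprime (Nat.card (sigmaCore H)) := by
    rw [hAc]
    apply Nat.Coprime.pow_left
    rw [Nat.Prime.coprime_iff_not_dvd hp']
    intro h
    exact hpH (mem_of_dvd_card_piCoreOf (sigma H) H hp' h)
  obtain ⟨E', hE', hAE'⟩ := Cfsg.Agent.Helper20.bg13_exists_compl_ge hG hU hH hAH hcopA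
  -- an elementary abelian `B ≤ E'` of order `r²`
  obtain ⟨B₀, hB₀H, hB₀, hB₀c⟩ := Cfsg.Agent.Helper72.b12c_exists_elemAb hrτH
  obtain ⟨g, hgH, hg⟩ :=
    bg1210_conj_into_compl hE' hrσH hB₀H (bg11_isPGroup_of_elemAb hB₀)
  have hBE' : MulAut.conj g • B₀ ≤ E' := by
    intro x hx
    rw [mem_conj_smul] at hx
    have h1 := hg _ hx
    have e : g * (g⁻¹ * x * g) * g⁻¹ = x := by group
    rwa [e] at h1
  have hB : IsElementaryAbelian r (MulAut.conj g • B₀) :=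
    Cfsg.Agent.Helper72.b12c_conj_elemAb hB₀ g
  have hBc : Nat.card (MulAut.conj g • B₀ : Subgroup G) = r ^ 2 := by
    rw [card_conj_smul]; exact hB₀c
  obtain ⟨⟨hE'A, -⟩, -, -⟩ :=
    Cfsg.Agent.S1418.result hG H hH E' hE' p hpτH A ⟨hAE', hA, hAc⟩
  obtain ⟨⟨hE'B, -⟩, -, -⟩ :=
    Cfsg.Agent.S1418.result hG H hH E' hE' r hrτH (MulAut.conj g • B₀) ⟨hBE', hB, hBc⟩
  have hcop : (Nat.card A).Coprime (Nat.card (MulAut.conj g • B₀ : Subgroup G)) := by
    rw [hAc, hBc]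
    exact Nat.Coprime.pow _ _ ((Nat.coprime_primes hp' hr).mpr hpr)
  have hcomm := comm_of_coprime_normalized hAE' hBE' hE'A hE'B hcop
  obtain ⟨-, ⟨hCA, -, -⟩, -⟩ := Cfsg.Agent.S1418.result hG M hM E hE p hp A ⟨hAE, hA, hAc⟩
  have hBM : MulAut.conj g • B₀ ≤ M := by
    intro b hb
    have h1 : b ∈ centralizer (A : Set G) := by
      rw [mem_centralizer_iff]
      intro a ha
      exact hcomm a ha b hb
    exact (hCA h1).1
  have h3 := bg12_card_le_of_pRankLE hr1M hBM hB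
  rw [hBc] at h3
  have h4 := Nat.pow_lt_pow_right hr.one_lt (show 1 < 2 by norm_num)
  omega

end Cfsg.Agent.Helper34
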