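/-
helper34: CALL S1366 piece COAT (bg147_exists_coatom).
-/
import Cfsg.Agent.Helper23.Trans
import Cfsg.Agent.Helper23.Uniq
import Cfsg.Agent.Helper23.Uniq4

set_option autoImplicit false

namespace Cfsg.Agent.Helper34

open Cfsg Subgroup

universe u

variable {G : Type u} [Group G] [Finite G]

/-- C10. A nontrivial proper subgroup lies in a maximal subgroup containing its normalizer. -/
theorem bg147_exists_coatom (hG : IsMinSimpleOddOrder G) {Q : Subgroup G} (hQ1 : Q ≠ ⊥)
    (hQp : (Nat.card Q).Prime) : ∃ L : Subgroup G, IsCoatom L ∧ normalizer (Q : Set G) ≤ L := by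
  have hsimple := hG.2.1
  have hQtop : Q ≠ ⊤ := by
    have hcyc : IsCyclic ↥Q := isCyclic_of_prime_card (p := Nat.card Q) (hp := ⟨hQp⟩) rfl
    have hcomm : IsMulCommutative ↥Q :=
      ⟨⟨fun a b => (IsCyclic.commGroup (α := ↥Q)).mul_comm a b⟩⟩
    exact Cfsg.Agent.Helper23.uq_abelian_ne_top hG hcomm
  exact Cfsg.Agent.Helper23.uq_exists_coatom_ge
    (Cfsg.Agent.Helper23.normalizer_ne_top_of_simple hQ1 hQtop)

end Cfsg.Agent.Helper34
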