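/-
helper34: piece P2a of CALL S1421 (helper23; B&G 12.10), case (ii): if the Sylow `p`-subgroups of
`G` are abelian (`p ∈ τ₂(M)`), a Sylow `p`-subgroup of `G` lies in `E`, with `Ω₁ = A`.
Everything lives in `Cfsg.Agent.Helper34`.
-/
import Cfsg.Agent.Helper34.BG1210P4c

set_option autoImplicit false

namespace Cfsg.Agent.Helper34

open Cfsg Subgroup Cfsg.Agent.Helper22 Cfsg.Agent.Helper23 Cfsg.Agent.Helper24 Cfsg.Agent.Helper35
open scoped Pointwise

universe u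

variable {G : Type u} [Group G] [Finite G]

/-- **P2a** of CALL S1421. -/
theorem bg1210_syl_exists (hG : IsMinSimpleOddOrder G) {M E : Subgroup G} (hM : IsCoatom M)
    (hE : IsComplIn E (sigmaCore M) M) {p : ℕ} [Fact p.Prime] (hp : p ∈ tau2 M)
    (S : Sylow p G) (hS : IsMulCommutative (S : Subgroup G)) :
    ∃ P A : Subgroup G, P ≤ E ∧ IsPGroup p P ∧ (∀ x ∈ P, ∀ y ∈ P, x * y = y * x) ∧ A ≤ P ∧
      IsElementaryAbelian p A ∧ Nat.card A = p ^ 2 ∧ (∀ x ∈ P, x ^ p = 1 → x ∈ A) ∧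
      ∀ Q : Subgroup G, IsPGroup p Q → P ≤ Q → Q = P := by
  have hp' : p.Prime := Fact.out
  obtain ⟨A', hA'M, hA', hA'c⟩ := Cfsg.Agent.Helper72.b12c_exists_elemAb hp
  obtain ⟨g, hgM, hg⟩ := bg1210_conj_into_compl hE hp.2.1 hA'M (bg11_isPGroup_of_elemAb hA')
  have hAE : MulAut.conj g • A' ≤ E := by
    intro x hx
    rw [mem_conj_smul] at hx
    have h1 := hg _ hx
    have e : g * (g⁻¹ * x * g) * g⁻¹ = x := by group
    rwa [e] at h1
  have hA : IsElementaryAbelian p (MulAut.conj g • A') :=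
    Cfsg.Agent.Helper72.b12c_conj_elemAb hA' g
  have hAc : Nat.card (MulAut.conj g • A' : Subgroup G) = p ^ 2 := by
    rw [card_conj_smul]; exact hA'c
  obtain ⟨A, hAdef⟩ : ∃ A : Subgroup G, A = MulAut.conj g • A' := ⟨_, rfl⟩
  rw [← hAdef] at hAE hA hAc
  obtain ⟨S', hAS'⟩ := (bg11_isPGroup_of_elemAb hA).exists_le_sylow
  -- `S'` is abelian
  obtain ⟨c, hc⟩ := MulAction.exists_smul_eq G S S'
  have hS'comm : ∀ x ∈ (S' : Subgroup G), ∀ y ∈ (S' : Subgroup G), x * y = y * x := by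
    intro x hx y hy
    rw [← hc, Sylow.coe_subgroup_smul, mem_conj_smul] at hx hy
    have h1 := congrArg Subtype.val (hS.is_comm.comm ⟨_, hx⟩ ⟨_, hy⟩)
    simp only [Subgroup.coe_mul] at h1
    calc x * y = c * ((c⁻¹ * x * c) * (c⁻¹ * y * c)) * c⁻¹ := by group
      _ = c * ((c⁻¹ * y * c) * (c⁻¹ * x * c)) * c⁻¹ := by rw [h1]
      _ = y * x := by group
  -- `S' ≤ C_G(A) ≤ E`
  obtain ⟨-, ⟨hCA, hMN, -⟩, -⟩ := Cfsg.Agent.S1418.result hG M hM E hE p hp A ⟨hAE, hA, hAc⟩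
  have hS'E : (S' : Subgroup G) ≤ E := by
    intro x hx
    have h1 : x ∈ centralizer (A : Set G) := by
      rw [mem_centralizer_iff]
      intro a ha
      exact hS'comm a (hAS' ha) x hx
    rw [← hMN]
    exact hCA h1
  have hS'M : (S' : Subgroup G) ≤ M := hS'E.trans hE.1
  have hsyl : IsSylowOf p (S' : Subgroup G) M := (isSylowOf_top S').of_le hS'M le_top
  obtain ⟨P₀, hP₀⟩ := hsyl.exists_sylow
  have hmap : (P₀ : Subgroup M).map M.subtype = (S' : Subgroup G) := by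
    rw [hP₀, Subgroup.map_subgroupOf_eq_of_le hS'M]
  obtain ⟨-, h17b, -⟩ := Cfsg.Agent.S1417.result hG M hM p hp A ⟨hAE.trans hE.1, hA, hAc⟩
  have h17 := (h17b P₀).2 (by rw [hmap]; exact hAS')
  refine ⟨(S' : Subgroup G), A, hS'E, S'.2, hS'comm, hAS', hA, hAc, ?_, ?_⟩
  · intro x hx hxp
    exact ((h17.1 x (by rw [hmap]; exact hx)).mp hxp)
  · intro Q hQ hle
    exact S'.3 hQ hle

end Cfsg.Agent.Helper34
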