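/-
helper34: piece P4b (W-form) of CALL S1421 (helper23; B&G 12.10): a minimal non-centralizing
element of `W ≤ E` is an `r`-element, `r ∈ τ₁(M) ∪ τ₃(M)`, of order at least `r²`.
Everything lives in `Cfsg.Agent.Helper34`.
-/
import Cfsg.Agent.Helper34.BG1210P4c
import Cfsg.Agent.Helper22.BG11c

set_option autoImplicit false

namespace Cfsg.Agent.Helper34

open Cfsg Subgroup Cfsg.Agent.Helper22 Cfsg.Agent.Helper23 Cfsg.Agent.Helper24 Cfsg.Agent.Helper35
open scoped Pointwise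

universe u

variable {G : Type u} [Group G] [Finite G]

/-- A prime dividing the order of a complement `E` of `M_σ` lies in `τ₁ ∪ τ₂ ∪ τ₃`. -/
theorem bg1210_tau_of_dvd (hG : IsMinSimpleOddOrder G) (hU : BGUniq G) {M E : Subgroup G}
    (hM : IsCoatom M) (hE : IsComplIn E (sigmaCore M) M) {s : ℕ} (hs : s.Prime)
    (hd : s ∣ Nat.card E) : s ∉ sigma M ∧ (s ∈ tau2 M ∨ s ∈ tau1 M ∪ tau3 M) := by
  have hsσ : s ∉ sigma M := bg12_not_sigma_of_dvd hG hU hM hE hs hd
  refine ⟨hsσ, ?_⟩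
  have hr2 : PRankLE s 2 ↥M :=
    bg10_pRank_of_not_alpha M s hs (fun h => hsσ (bg10_alpha_sub_sigma hG hU hM h))
  by_cases hr1 : PRankLE s 1 ↥M
  · right
    have hsM : s ∣ Nat.card M := hd.trans (Subgroup.card_dvd_of_le hE.1)
    by_cases hc : s ∣ Nat.card ↥⁅M, M⁆
    · exact Or.inr ⟨hs, hsσ, hc, hr1⟩
    · exact Or.inl ⟨hs, hsσ, hsM, hc, hr1⟩
  · exact Or.inl ⟨hs, hsσ, hr2, hr1⟩

/-- Step (1) of P4b: every element of prime order of `W` centralizes `A`. -/
theorem bg1210_prime_order_cent (hG : IsMinSimpleOddOrder G) {M E : Subgroup G} (hM : IsCoatom M)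
    (hE : IsComplIn E (sigmaCore M) M) {W : Subgroup G} (hWE : W ≤ E) (hR : BG1210R M W)
    {p : ℕ} [Fact p.Prime]
    (hp : p ∈ tau2 M) {P A : Subgroup G} (hS : BG1210Syl p E P A)
    (hτ : ∀ q ∈ tau2 M, q ≠ p → ∀ y ∈ E, (∃ k : ℕ, y ^ q ^ k = 1) →
      y ∈ centralizer (A : Set G))
    (hdich : ∀ y ∈ normalizer (A : Set G), y ∉ centralizer (A : Set G) →
      A ⊓ centralizer ({y} : Set G) = ⊥)
    {f : G} (hfW : f ∈ W) (hf : (orderOf f).Prime) : f ∈ centralizer (A : Set G) := by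
  have hU : BGUniq G := fun K hK h1 h2 => Cfsg.Agent.S1403.result hG K hK h1 h2
  have hp' : p.Prime := Fact.out
  have hfE : f ∈ E := hWE hfW
  have hAE : A ≤ E := hS.leA.trans hS.le
  have hAM : A ≤ M := hAE.trans hE.1
  have hfs : f ^ orderOf f = 1 := pow_orderOf_eq_one f
  have hf1 : f ≠ 1 := by
    intro h
    rw [h, orderOf_one] at hf
    exact Nat.not_prime_one hf
  have hsE : orderOf f ∣ Nat.card E := E.orderOf_dvd_natCard hfE
  obtain ⟨hsσ, hcase⟩ := bg1210_tau_of_dvd hG hU hM hE hf hsE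
  have hPcent : ∀ x ∈ P, x ∈ centralizer (A : Set G) := by
    intro x hx
    rw [mem_centralizer_iff]
    intro a ha
    exact hS.comm a (hS.leA ha) x hx
  by_cases hsp : orderOf f = p
  · apply hPcent
    exact hS.all f hfE ⟨1, by rw [pow_one, ← hsp]; exact hfs⟩
  rcases hcase with h2 | h13
  · exact hτ _ h2 hsp f hfE ⟨1, by rw [pow_one]; exact hfs⟩
  · by_contra hfA
    obtain ⟨⟨hEA, -⟩, -, -⟩ := Cfsg.Agent.S1418.result hG M hM E hE p hp A ⟨hAE, hS.elemA, hS.cardA⟩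
    have hfN : f ∈ normalizer (A : Set G) := hEA hfE
    have hAf : A ⊓ centralizer ({f} : Set G) = ⊥ := hdich f hfN hfA
    have hσf : sigmaCore M ⊓ centralizer ({f} : Set G) = ⊥ := by
      apply hR f hfW hf1
      intro q hq hqd
      have : q = orderOf f := (Nat.prime_dvd_prime_iff_eq hq hf).mp hqd
      rw [this]; exact h13
    obtain ⟨hnil, -, -, h17d, -, -⟩ :=
      Cfsg.Agent.S1417.result hG M hM p hp A ⟨hAM, hS.elemA, hS.cardA⟩
    have hoddM : Odd (Nat.card M) := Odd.of_dvd_nat hG.1 (Subgroup.card_subgroup_dvd_card M)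
    have hσM : sigmaCore M ≤ M := piCoreOf_le _ _
    have hMσ : M ≤ normalizer ((sigmaCore M : Subgroup G) : Set G) := le_normalizer_piCoreOf _ _
    have hpσ : ¬ p ∣ Nat.card (sigmaCore M) := fun h =>
      hp.2.1 (mem_of_dvd_card_piCoreOf (sigma M) M hp' h)
    have hsσ' : ¬ orderOf f ∣ Nat.card (sigmaCore M) := fun h =>
      hsσ (mem_of_dvd_card_piCoreOf (sigma M) M hf h)
    have hfAconj : ∀ g ∈ A, f * g * f⁻¹ ∈ A := fun g hg => (mem_normalizer_iff.mp hfN g).mp hg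
    have hfix : ∀ a ∈ sigmaCore M, f * a = a * f → a = 1 := by
      intro a ha hfa
      have h1 : a ∈ sigmaCore M ⊓ centralizer ({f} : Set G) := by
        refine Subgroup.mem_inf.mpr ⟨ha, ?_⟩
        rw [mem_centralizer_iff]
        intro x hx
        rw [Set.mem_singleton_iff] at hx
        rw [hx]; exact hfa
      rw [hσf] at h1
      exact Subgroup.mem_bot.mp h1
    have hcomm := bg11_fpf_comm hoddM hσM hMσ hnil hf hp' (fun h => hsp h.symm) hpσ hsσ' hAM
      (bg11_isPGroup_of_elemAb hS.elemA) (hE.1 hfE) hfs hfAconj hfix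
    -- the commutator map is onto `A`
    let φ : A → A := fun g => ⟨f * g * f⁻¹ * (g : G)⁻¹, A.mul_mem (hfAconj g g.2) (A.inv_mem g.2)⟩
    have hφinj : Function.Injective φ := by
      intro g g' hgg
      have h1 : f * g * f⁻¹ * (g : G)⁻¹ = f * g' * f⁻¹ * (g' : G)⁻¹ := congrArg Subtype.val hgg
      have h2 : f * ((g' : G)⁻¹ * g) * f⁻¹ = (g' : G)⁻¹ * g := by
        have e1 : f * ((g' : G)⁻¹ * g) * f⁻¹ =
            (f * g' * f⁻¹)⁻¹ * (f * g * f⁻¹ * (g : G)⁻¹) * g := by group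
        rw [e1, h1]; group
      have h3 : (g' : G)⁻¹ * g ∈ A ⊓ centralizer ({f} : Set G) := by
        refine Subgroup.mem_inf.mpr ⟨A.mul_mem (A.inv_mem g'.2) g.2, ?_⟩
        rw [mem_centralizer_iff]
        intro x hx
        rw [Set.mem_singleton_iff] at hx
        rw [hx]
        have e2 : f * ((g' : G)⁻¹ * g) = (f * ((g' : G)⁻¹ * g) * f⁻¹) * f := by group
        rw [e2, h2]
      rw [hAf] at h3
      have h4 : (g' : G)⁻¹ * g = 1 := Subgroup.mem_bot.mp h3
      apply Subtype.ext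
      exact (inv_mul_eq_one.mp h4).symm
    have hφsurj : Function.Surjective φ := Finite.injective_iff_surjective.mp hφinj
    have hAσ : sigmaCore M ≤ centralizer (A : Set G) := by
      intro y hy
      rw [mem_centralizer_iff]
      intro a ha
      obtain ⟨g, hg⟩ := hφsurj ⟨a, ha⟩
      have h1 : f * g * f⁻¹ * (g : G)⁻¹ = a := congrArg Subtype.val hg
      rw [← h1]
      exact hcomm g g.2 y hy
    have hbot : sigmaCore M = ⊥ := by
      rw [← h17d]
      exact (inf_eq_left.mpr hAσ).symm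
    exact bg11b_sigmaCore_ne_bot hG hU hM hbot

/-- **P4b** (W-form) of CALL S1421. -/
theorem bg1210_min_elt (hG : IsMinSimpleOddOrder G) {M E : Subgroup G} (hM : IsCoatom M)
    (hE : IsComplIn E (sigmaCore M) M) {W : Subgroup G} (hWE : W ≤ E) (hR : BG1210R M W)
    {p : ℕ} [Fact p.Prime]
    (hp : p ∈ tau2 M) {P A : Subgroup G} (hS : BG1210Syl p E P A)
    (hτ : ∀ q ∈ tau2 M, q ≠ p → ∀ y ∈ E, (∃ k : ℕ, y ^ q ^ k = 1) →
      y ∈ centralizer (A : Set G))
    (hdich : ∀ y ∈ normalizer (A : Set G), y ∉ centralizer (A : Set G) →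
      A ⊓ centralizer ({y} : Set G) = ⊥)
    (hWA : ¬ W ≤ centralizer (A : Set G)) :
    ∃ (r : ℕ) (e e₁ : G), r.Prime ∧ r ≠ p ∧ r ∈ tau1 M ∪ tau3 M ∧ e ∈ W ∧
      e ∉ centralizer (A : Set G) ∧ e ^ r ∈ centralizer (A : Set G) ∧ (∃ k : ℕ, e ^ r ^ k = 1) ∧
      e₁ ∈ zpowers e ∧ orderOf e₁ = r ∧ e₁ ∈ centralizer (A : Set G) ∧
      ¬ normalizer (zpowers e₁ : Set G) ≤ M := by
  classical
  have hU : BGUniq G := fun K hK h1 h2 => Cfsg.Agent.S1403.result hG K hK h1 h2
  have hp' : p.Prime := Fact.out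
  have hprime := fun {f : G} (hfW : f ∈ W) (hf : (orderOf f).Prime) =>
    bg1210_prime_order_cent hG hM hE hWE hR hp hS hτ hdich hfW hf
  -- an element of `W \ C(A)` of minimal order
  have hex : ∃ n : ℕ, ∃ e ∈ W, e ∉ centralizer (A : Set G) ∧ orderOf e = n := by
    obtain ⟨e, heW, heA⟩ := SetLike.not_le_iff_exists.mp hWA
    exact ⟨orderOf e, e, heW, heA, rfl⟩
  obtain ⟨e, heW, heA, hen⟩ := Nat.find_spec hex
  have hmin : ∀ e' ∈ W, e' ∉ centralizer (A : Set G) → orderOf e ≤ orderOf e' := by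
    intro e' h1 h2
    rw [hen]
    exact Nat.find_min' hex ⟨e', h1, h2, rfl⟩
  have heE : e ∈ E := hWE heW
  have hopos : 0 < orderOf e := orderOf_pos e
  have hpowC : ∀ s : ℕ, s.Prime → s ∣ orderOf e → e ^ s ∈ centralizer (A : Set G) := by
    intro s hs hsd
    by_contra hcon
    have h1 := hmin (e ^ s) (W.pow_mem heW s) hcon
    rw [orderOf_pow_of_dvd hs.ne_zero hsd] at h1
    have h2 : orderOf e / s < orderOf e := Nat.div_lt_self hopos hs.one_lt
    omega
  have he1 : e ≠ 1 := fun h => heA (h ▸ Subgroup.one_mem _)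
  have ho1 : orderOf e ≠ 1 := fun h => he1 (orderOf_eq_one_iff.mp h)
  set r := (orderOf e).minFac with hrdef
  have hr : r.Prime := Nat.minFac_prime ho1
  have hrd : r ∣ orderOf e := Nat.minFac_dvd _
  have huniq : ∀ {d : ℕ}, d.Prime → d ∣ orderOf e → d = r := by
    intro d hd hdd
    by_contra hne
    have hcop : Nat.Coprime d r := (Nat.coprime_primes hd hr).mpr hne
    exact heA (Cfsg.Agent.Helper72.b12c_mem_of_pow_mem hcop (hpowC d hd hdd) (hpowC r hr hrd))
  have hpow := Nat.eq_prime_pow_of_unique_prime_dvd hopos.ne' huniq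
  set k := (orderOf e).primeFactorsList.length with hkdef
  have hk0 : k ≠ 0 := by
    intro h0
    rw [h0, pow_zero] at hpow
    exact ho1 hpow
  have hk1 : k ≠ 1 := by
    intro h1
    rw [h1, pow_one] at hpow
    exact heA (hprime heW (hpow ▸ hr))
  have hek : e ^ r ^ k = 1 := by rw [← hpow]; exact pow_orderOf_eq_one e
  have hPcent : ∀ x ∈ P, x ∈ centralizer (A : Set G) := by
    intro x hx
    rw [mem_centralizer_iff]
    intro a ha
    exact hS.comm a (hS.leA ha) x hx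
  have hrp : r ≠ p := by
    intro h
    apply heA
    apply hPcent
    exact hS.all e heE ⟨k, by rw [← h]; exact hek⟩
  have hrE : r ∣ Nat.card E := hrd.trans (E.orderOf_dvd_natCard heE)
  obtain ⟨hrσ, hcase⟩ := bg1210_tau_of_dvd hG hU hM hE hr hrE
  have hr13 : r ∈ tau1 M ∪ tau3 M := by
    rcases hcase with h2 | h13
    · exact absurd (hτ r h2 hrp e heE ⟨k, hek⟩) heA
    · exact h13
  have hr1M : PRankLE r 1 ↥M := by
    rcases hr13 with h | h
    · exact h.2.2.2.2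
    · exact h.2.2.2
  -- `e₁`
  obtain ⟨j, hj⟩ : ∃ j : ℕ, k = j + 2 := ⟨k - 2, by omega⟩
  have heC : e ^ r ∈ centralizer (A : Set G) := hpowC r hr hrd
  have he₁C : e ^ r ^ (k - 1) ∈ centralizer (A : Set G) := by
    have e1 : e ^ r ^ (k - 1) = (e ^ r) ^ r ^ j := by
      rw [← pow_mul, hj]
      congr 1
      rw [show j + 2 - 1 = j + 1 by omega, pow_succ, mul_comm]
    rw [e1]
    exact Subgroup.pow_mem _ heC _
  have ho₁ : orderOf (e ^ r ^ (k - 1)) = r := by
    have hdvd : r ^ (k - 1) ∣ orderOf e := by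
      rw [hpow]; exact pow_dvd_pow r (by omega)
    rw [orderOf_pow_of_dvd (pow_ne_zero _ hr.ne_zero) hdvd]
    rw [hpow]
    rw [Nat.pow_div (by omega) hr.pos]
    rw [show k - (k - 1) = 1 by omega, pow_one]
  have hr2 : r ≠ 2 := by
    intro e2
    have h1 : r ∣ Nat.card G := hrE.trans (Subgroup.card_subgroup_dvd_card E)
    rw [e2] at h1
    exact (Nat.not_even_iff_odd.mpr hG.1) (even_iff_two_dvd.mpr h1)
  have := Fact.mk hr
  refine ⟨r, e, e ^ r ^ (k - 1), hr, hrp, hr13, heW, heA, heC, ⟨k, hek⟩,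
    Subgroup.pow_mem _ (mem_zpowers e) _, ho₁, he₁C, ?_⟩
  intro hN
  set e₁ := e ^ r ^ (k - 1) with he₁def
  have he₁M : e₁ ∈ M := hE.1 (E.pow_mem heE _)
  have hZM : zpowers e₁ ≤ M := by rw [zpowers_le]; exact he₁M
  have hZc : Nat.card (zpowers e₁) = r := by rw [Nat.card_zpowers, ho₁]
  have hZp : IsPGroup r (zpowers e₁) := IsPGroup.of_card (n := 1) (by rw [hZc, pow_one])
  have hZ1 : zpowers e₁ ≠ ⊥ := by
    intro h
    rw [h, Subgroup.card_bot] at hZc
    exact hr.one_lt.ne hZc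
  obtain ⟨S, hSyl, hZS⟩ := exists_isSylowOf_ge hZp hZM
  have hSc : IsCyclic S :=
    Cfsg.Agent.Helper49.isCyclic_of_pRankLE_one hr2 hSyl.2.1 (pRankLE_of_le hSyl.1 hr1M)
  have hNS : normalizer (S : Set G) ≤ M :=
    (Cfsg.Agent.Helper72.b12c_normalizer_cyclic_le hSc hZS).trans hN
  have hS1 : S ≠ ⊥ := fun h0 => hZ1 (le_bot_iff.mp (h0 ▸ hZS))
  exact hrσ (bg12_mem_sigma hSyl hS1 hNS)

end Cfsg.Agent.Helper34
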