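/-
helper34: S1358 (Sylow subgroups of `U` in the standard factorisation `M = K U M_σ` are abelian
of rank at most two), from B&G Theorem 12.5(b) (S1417) as a hypothesis.
Everything lives in `Cfsg.Agent.Helper34`.
-/
import Cfsg.Agent.Helper22.BG12b
import Cfsg.Agent.Helper49.OddCyclic
import Cfsg.Agent.Helper21.PRank

set_option autoImplicit false

namespace Cfsg.Agent.Helper34

open Cfsg Subgroup Cfsg.Agent.Helper22 Cfsg.Agent.Helper23 Cfsg.Agent.Helper35

universe u

variable {G : Type u} [Group G] [Finite G]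

/-- A `p`-subgroup of `M` for `p ∉ σ(M)` is abelian of rank at most two, given that the Sylow
`p`-subgroups of `M` are abelian for `p ∈ τ₂(M)` (B&G 12.5(b)). -/
theorem bg1358_pgroup (hG : IsMinSimpleOddOrder G) (hU : BGUniq G) {M : Subgroup G}
    (hM : IsCoatom M)
    (h1417 : ∀ (p : ℕ) [Fact p.Prime], p ∈ tau2 M → ∀ P : Sylow p M,
      IsMulCommutative (P : Subgroup M))
    {p : ℕ} (hp : p.Prime) (hpσ : p ∉ sigma M) {H : Type u} [Group H] [Finite H]
    (hH : IsPGroup p H) (f : H →* ↥M) (hf : Function.Injective f) :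
    IsMulCommutative H ∧ PRankLE p 2 H := by
  have := Fact.mk hp
  have hr2 : PRankLE p 2 ↥M :=
    bg10_pRank_of_not_alpha M p hp (fun h => hpσ (bg10_alpha_sub_sigma hG hU hM h))
  refine ⟨?_, Cfsg.Agent.Helper21.pRankLE_of_injective f hf hr2⟩
  by_cases hr1 : PRankLE p 1 ↥M
  · have hrk : PRankLE p 1 H := Cfsg.Agent.Helper21.pRankLE_of_injective f hf hr1
    by_cases hp2 : p = 2
    · -- a `2`-subgroup of a group of odd order is trivial
      obtain ⟨n, hn⟩ := IsPGroup.iff_card.mp hH
      have hdvd : Nat.card H ∣ Nat.card G := by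
        have h1 : Nat.card H = Nat.card ↥(f.range.map M.subtype) := by
          rw [Subgroup.card_map_of_injective M.subtype_injective]
          exact Nat.card_congr (MonoidHom.ofInjective hf).toEquiv
        rw [h1]; exact Subgroup.card_subgroup_dvd_card _
      have hn0 : n = 0 := by
        by_contra hn0
        have h2 : 2 ∣ Nat.card H := by rw [hn, hp2]; exact dvd_pow_self 2 hn0
        exact (Nat.not_even_iff_odd.mpr hG.1) (even_iff_two_dvd.mpr (h2.trans hdvd))
      rw [hn0, pow_zero] at hn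
      have hsub : Subsingleton H := (Nat.card_eq_one_iff_unique.mp hn).1
      exact ⟨⟨fun a b => Subsingleton.elim _ _⟩⟩
    · have hcyc : IsCyclic H := Cfsg.Agent.Helper49.isCyclic_of_pRankLE_one hp2 hH hrk
      exact IsCyclic.isMulCommutative
  · have hτ : p ∈ tau2 M := ⟨hp, hpσ, hr2, hr1⟩
    have hQp : IsPGroup p ↥(f.range) := by
      intro y
      obtain ⟨x, hx⟩ := y.2
      obtain ⟨k, hk⟩ := hH x
      refine ⟨k, Subtype.ext ?_⟩
      rw [Subgroup.coe_pow, ← hx, ← map_pow, hk, map_one]; rfl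
    obtain ⟨Q, hQ⟩ := hQp.exists_le_sylow
    have hc := h1417 p hτ Q
    refine ⟨⟨fun a b => hf ?_⟩⟩
    rw [map_mul, map_mul]
    have ha : f a ∈ (Q : Subgroup ↥M) := hQ ⟨a, rfl⟩
    have hb : f b ∈ (Q : Subgroup ↥M) := hQ ⟨b, rfl⟩
    exact congrArg Subtype.val (hc.is_comm.comm ⟨f a, ha⟩ ⟨f b, hb⟩)

/-- **S1358** with S1417(b) as a hypothesis. -/
theorem bg1358_main (hG : IsMinSimpleOddOrder G) (hU : BGUniq G) {M : Subgroup G}
    (hM : IsCoatom M)
    (h1417 : ∀ (p : ℕ) [Fact p.Prime], p ∈ tau2 M → ∀ P : Sylow p M,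
      IsMulCommutative (P : Subgroup M))
    {K U : Subgroup G} (hKU : IsSigmaDecomposition M K U) :
    ∀ (p : ℕ), p.Prime → ∀ P : Sylow p U,
      IsMulCommutative (P : Subgroup U) ∧ PRankLE p 2 (P : Subgroup U) := by
  intro p hp P
  have := Fact.mk hp
  have hUM : U ≤ M := hKU.compl.1
  have hUσ : U ⊓ sigmaCore M = ⊥ := by
    rw [eq_bot_iff, ← hKU.compl.2.2.1]
    exact inf_le_inf_left _ le_sup_right
  by_cases hpσ : p ∈ sigma M
  · -- the Sylow `p`-subgroup of `U` is trivial
    have hP' : (P : Subgroup ↥U).map U.subtype ≤ sigmaCore M :=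
      bg12_le_sigmaCore hG hU hM hp hpσ ((Subgroup.map_subtype_le _).trans hUM) (P.2.map _)
    have hbot : (P : Subgroup ↥U).map U.subtype = ⊥ := by
      rw [eq_bot_iff, ← hUσ]
      exact le_inf (Subgroup.map_subtype_le _) hP'
    have hPbot : (P : Subgroup ↥U) = ⊥ :=
      (Subgroup.map_eq_bot_iff_of_injective _ U.subtype_injective).mp hbot
    have hsub : Subsingleton ↥(P : Subgroup ↥U) := by
      rw [hPbot]; infer_instance
    refine ⟨⟨⟨fun a b => Subsingleton.elim _ _⟩⟩, ?_⟩
    intro A _ _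
    have h1 : Nat.card ↥A ≤ 1 := Finite.card_le_one_iff_subsingleton.mpr inferInstance
    exact h1.trans (Nat.one_le_pow _ _ hp.pos)
  · exact bg1358_pgroup hG hU hM h1417 hp hpσ P.isPGroup'
      ((Subgroup.inclusion hUM).comp (P : Subgroup ↥U).subtype)
      ((Subgroup.inclusion_injective hUM).comp (Subgroup.subtype_injective _))

end Cfsg.Agent.Helper34
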