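/-
helper34: Bender–Glauberman Lemma 11.7, Step 4b-ii in the shape requested by helper23
(insight 2163), on top of `Cfsg.Agent.Helper23.bg11_e4` and `Cfsg.Agent.Helper34.BG11N`.
-/
import Cfsg.Agent.Helper34.BG11N
import Cfsg.Agent.Helper23.BG11E4

set_option autoImplicit false

namespace Cfsg.Agent.Helper34

open Cfsg Subgroup Cfsg.Agent.Helper22 Cfsg.Agent.Helper23
open scoped Pointwise commutatorElement

universe u

variable {G : Type u} [Group G] [Finite G]

/-- **B&G 11.7, Step 4b-ii.**  `A` maximal elementary abelian of order `p ^ 2`, `r ≠ p` a prime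
dividing `|C_G(A)|`, `B'` an `A`-invariant maximal elementary abelian `r`-subgroup of order
`r ^ 2`.  Then `A` centralizes `B'`. -/
theorem bg11_narrow_centralizes (hG : IsMinSimpleOddOrder G) (hpl : BGPLen G) {p : ℕ}
    [Fact p.Prime] {A : Subgroup G} (hA : IsElementaryAbelian p A) (hAc : Nat.card A = p ^ 2)
    (hmax : ∀ B : Subgroup G, IsElementaryAbelian p B → A ≤ B → B = A) {r : ℕ} [Fact r.Prime]
    (hrp : r ≠ p) (hrC : r ∣ Nat.card (centralizer (A : Set G))) {B' : Subgroup G}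
    (hB' : IsElementaryAbelian r B') (hB'c : Nat.card B' = r ^ 2)
    (hB'max : ∀ B : Subgroup G, IsElementaryAbelian r B → B' ≤ B → B = B')
    (hAB' : A ≤ normalizer (B' : Set G)) : ∀ a ∈ A, ∀ x ∈ B', a * x = x * a := by
  have hp : p.Prime := Fact.out
  have hr : r.Prime := Fact.out
  have hr2 : r ≠ 2 := by
    rintro rfl
    have h1 : 2 ∣ Nat.card G := hrC.trans (Subgroup.card_subgroup_dvd_card _)
    exact (Nat.not_even_iff_odd.mpr hG.1) (even_iff_two_dvd.mpr h1)
  have hinv : B' ∈ invSubgroups ⊤ A {r} :=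
    ⟨le_top, primes_of_isPGroup hr (IsPGroup.of_card hB'c), hAB'⟩
  obtain ⟨R, hRmax, hBR⟩ := exists_maxInv_ge hinv
  obtain ⟨S, hS, hAS, -, hSN, -⟩ := bg11_e4 hG hpl hA hAc hmax hr hrp hrC hRmax
  have hSp : IsPGroup p S := hS.2.1
  have hRp : IsPGroup r R := isPGroup_of_primes hRmax.1.2.1
  have hScop : (Nat.card S).Coprime r := by
    obtain ⟨n, hn⟩ := IsPGroup.iff_card.mp hSp
    rw [hn]
    exact Nat.Coprime.pow_left n ((Nat.coprime_primes hp hr).mpr (Ne.symm hrp))
  have hSR := bg11n_narrow_comm_centralizes hG.1 r hr2 R B' hRp hBR hB' hB'c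
    (fun C _ hC hBC => hB'max C hC hBC) S hSN hScop
  intro a ha x hx
  exact (mem_centralizer_iff.mp (hSR (hAS ha)) x (hBR hx)).symm

end Cfsg.Agent.Helper34
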