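/-
helper34: CALL S1428 (helper2), PIECE NB7 (`bg13_nb_Kq`): in BLOCK NB the Sylow `q`-subgroup `Y`
of `K = M_σ ∩ H` cannot meet `T = [K, M ∩ H]`, have `N_G(Y) ≤ M`, and be cyclic or a Sylow
subgroup of `G` with `N_G(Y) ≤ H`.
-/
import Cfsg.Agent.Helper2.BG13Defs
import Cfsg.Agent.Helper23.Uniq
import Cfsg.Agent.Helper23.Trans
import Cfsg.Agent.Helper22.BG10b
import Cfsg.Agent.Helper49.BG107a
import Cfsg.Agent.S1403
import Cfsg.Agent.S1411
import Cfsg.Agent.S1423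

set_option autoImplicit false

namespace Cfsg.Agent.Helper34

open Cfsg Subgroup Cfsg.Agent.Helper2 Cfsg.Agent.Helper23

open scoped commutatorElement

universe u

/-- In a finite cyclic `q`-group two nontrivial subgroups meet nontrivially. -/
theorem bg13nb7_cyc {C : Type*} [Group C] [Finite C] [IsCyclic C] {q : ℕ} (hq : q.Prime)
    (hC : IsPGroup q C) {A B : Subgroup C} (hA : A ≠ ⊥) (hB : B ≠ ⊥) : A ⊓ B ≠ ⊥ := by
  classical
  have : Fact q.Prime := ⟨hq⟩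
  have : Fintype C := Fintype.ofFinite C
  have key : ∀ D : Subgroup C, D ≠ ⊥ → ∃ x ∈ D, orderOf x = q := by
    intro D hD
    have hDq : IsPGroup q D := hC.to_subgroup D
    obtain ⟨k, hk⟩ := IsPGroup.iff_card.mp hDq
    have hk0 : k ≠ 0 := by
      rintro rfl
      rw [pow_zero] at hk
      exact hD (Subgroup.card_eq_one.mp hk)
    have hdvd : q ∣ Nat.card D := by
      rw [hk]
      exact dvd_pow_self q hk0
    obtain ⟨x, hx⟩ := exists_prime_orderOf_dvd_card' q hdvd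
    exact ⟨x, x.2, by rw [← hx, Subgroup.orderOf_coe]⟩
  obtain ⟨x, hxA, hx⟩ := key A hA
  obtain ⟨y, hyB, hy⟩ := key B hB
  have hyx : y ∈ Subgroup.zpowers x := by
    have hS : (Finset.univ.filter (fun a : C => a ^ q = 1)).card ≤ q :=
      IsCyclic.card_pow_eq_one_le hq.pos
    have hsub : (Subgroup.zpowers x : Set C).toFinset ⊆
        Finset.univ.filter (fun a : C => a ^ q = 1) := by
      intro a ha
      rw [Set.mem_toFinset] at ha
      obtain ⟨k, rfl⟩ := ha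
      rw [Finset.mem_filter]
      refine ⟨Finset.mem_univ _, ?_⟩
      show (x ^ k) ^ q = 1
      rw [← zpow_natCast, ← zpow_mul, mul_comm, zpow_mul, zpow_natCast, ← hx,
        pow_orderOf_eq_one, one_zpow]
    have hcard : (Subgroup.zpowers x : Set C).toFinset.card = q := by
      rw [Set.toFinset_card, ← Nat.card_eq_fintype_card]
      show Nat.card ↥(Subgroup.zpowers x) = q
      rw [Nat.card_zpowers, hx]
    have heq := Finset.eq_of_subset_of_card_le hsub (by rw [hcard]; exact hS)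
    have hyS : y ∈ Finset.univ.filter (fun a : C => a ^ q = 1) := by
      rw [Finset.mem_filter]
      exact ⟨Finset.mem_univ _, by rw [← hy, pow_orderOf_eq_one]⟩
    rw [← heq, Set.mem_toFinset] at hyS
    exact hyS
  intro h
  have h1 : y ∈ A ⊓ B := ⟨(Subgroup.zpowers_le.mpr hxA) hyx, hyB⟩
  rw [h, Subgroup.mem_bot] at h1
  rw [h1, orderOf_one] at hy
  exact hq.one_lt.ne hy

variable {G : Type u} [Group G] [Finite G]

/-- PIECE NB7 (key): the Sylow `q`-subgroup `Y` of `M_σ ∩ H` cannot meet `T`, have `N_G(Y) ≤ M`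
and be cyclic or a Sylow subgroup of `G` with `N_G(Y) ≤ H`. -/
theorem bg13_nb_Kq (hG : IsMinSimpleOddOrder G) {M P H : Subgroup G} {p : ℕ} (n : NBCtx M P H p)
    (h5 : NBFive M H) {q : ℕ} {Y : Subgroup G} (hq : q.Prime)
    (hY : IsSylowOf q Y (sigmaCore M ⊓ H))
    (hYT : Y ⊓ ⁅sigmaCore M ⊓ H, M ⊓ H⁆ ≠ ⊥) (hNY : normalizer (Y : Set G) ≤ M)
    (hcase : IsCyclic Y ∨ (IsSylowOf q Y ⊤ ∧ normalizer (Y : Set G) ≤ H)) : False := by
  classical
  have : Fact q.Prime := ⟨hq⟩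
  have hM := n.hM
  have hU : Helper22.BGUniq G := fun K hK h1 h2 => Cfsg.Agent.S1403.result hG K hK h1 h2
  obtain ⟨hσhall, -, -⟩ := Helper22.bg10_sigma_hall hG hU hM
  have hσM : sigmaCore M ≤ M := hσhall.1
  have hYK : Y ≤ sigmaCore M ⊓ H := hY.1
  have hYq : IsPGroup q Y := hY.2.1
  have hY1 : Y ≠ ⊥ := by
    rintro rfl
    exact hYT (bot_inf_eq _)
  have hKN : sigmaCore M ⊓ H ≤ M ⊓ H := inf_le_inf_right H hσM
  -- it suffices to show `Y ≤ T`
  have hfin : Y ≤ ⁅sigmaCore M ⊓ H, M ⊓ H⁆ → False := fun hle =>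
    h5 q Y hq hYq hY1 hle ((Subgroup.centralizer_le_normalizer _).trans hNY)
  rcases hcase with hcyc | ⟨hS, hNH⟩
  swap
  · -- `Y` is a Sylow subgroup of `G`: `Y = [Y, V]` for a complement `V` in `N_G(Y)`
    obtain ⟨S₀, hS₀⟩ := hS.exists_sylow_top
    obtain ⟨V, hV, -⟩ := Helper49.bg107a_exists_compl S₀
    have h1 := (Cfsg.Agent.S1411.result hG q S₀ V hV).1
    rw [hS₀] at h1 hV
    have hVN : V ≤ M ⊓ H := fun v hv => ⟨hNY (hV.2.1 hv), hNH (hV.2.1 hv)⟩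
    apply hfin
    exact h1.le.trans (Subgroup.commutator_mono hYK hVN)
  -- `Y` is cyclic
  have hMn : M ≤ normalizer ((sigmaCore M : Subgroup G) : Set G) :=
    le_normalizer_piCoreOf (sigma M) M
  have hNK : ∀ g ∈ M ⊓ H, ∀ k ∈ sigmaCore M ⊓ H, g * k * g⁻¹ ∈ sigmaCore M ⊓ H := by
    intro g hg k hk
    exact ⟨(Subgroup.mem_normalizer_iff.mp (hMn hg.1) k).mp hk.1,
      H.mul_mem (H.mul_mem hg.2 hk.2) (H.inv_mem hg.2)⟩
  -- (C1) `K` is abelian
  have hKab : ∀ a ∈ sigmaCore M ⊓ H, ∀ b ∈ sigmaCore M ⊓ H, a * b = b * a := by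
    by_contra hcon
    push Not at hcon
    obtain ⟨a, ha, b, hb, hab⟩ := hcon
    have hc1 : ⁅a, b⁆ ≠ 1 := fun h => hab (commutatorElement_eq_one_iff_mul_comm.mp h)
    have hcKK : ⁅a, b⁆ ∈ ⁅sigmaCore M ⊓ H, sigmaCore M ⊓ H⁆ :=
      Subgroup.commutator_mem_commutator ha hb
    obtain ⟨K', hK'⟩ : ∃ K' : Subgroup G, K' = ⁅sigmaCore M ⊓ H, sigmaCore M ⊓ H⁆ := ⟨_, rfl⟩
    rw [← hK'] at hcKK
    have hK'1 : K' ≠ ⊥ := fun h => hc1 (by rw [h] at hcKK; exact Subgroup.mem_bot.mp hcKK)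
    have hcard : Nat.card K' ≠ 1 := fun h => hK'1 (Subgroup.card_eq_one.mp h)
    obtain ⟨s, hs, hsdvd⟩ := Nat.exists_prime_and_dvd hcard
    have : Fact s.Prime := ⟨hs⟩
    obtain ⟨x, hx⟩ := exists_prime_orderOf_dvd_card' s hsdvd
    have hxo : orderOf (x : G) = s := by rw [Subgroup.orderOf_coe]; exact hx
    have hXc : Nat.card (Subgroup.zpowers (x : G)) = s := by rw [Nat.card_zpowers, hxo]
    have hXK' : Subgroup.zpowers (x : G) ≤ K' := Subgroup.zpowers_le.mpr x.2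
    have hK'T : K' ≤ ⁅sigmaCore M ⊓ H, M ⊓ H⁆ := hK' ▸ Subgroup.commutator_mono le_rfl hKN
    have hK'σ : K' ≤ ⁅sigmaCore M, sigmaCore M⁆ :=
      hK' ▸ Subgroup.commutator_mono inf_le_left inf_le_left
    have hK'K : K' ≤ sigmaCore M ⊓ H := by
      rw [hK', Subgroup.commutator_le]
      intro a ha b hb
      rw [commutatorElement_def]
      exact Subgroup.mul_mem _ (Subgroup.mul_mem _ (Subgroup.mul_mem _ ha hb)
        (Subgroup.inv_mem _ ha)) (Subgroup.inv_mem _ hb)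
    have hK'Mσ : K' ≤ sigmaCore M := hK'K.trans inf_le_left
    have hsσ : s ∈ sigma M := by
      apply hσhall.2.1 s hs
      rw [← hXc]
      exact Subgroup.card_dvd_of_le (hXK'.trans hK'Mσ)
    obtain ⟨P₀⟩ := (inferInstance : Nonempty (Sylow s ↥(sigmaCore M)))
    have h1 := (Cfsg.Agent.S1423.result hG M hM s hsσ (Subgroup.zpowers (x : G))
      (hXK'.trans (hK'Mσ.trans hσM)) hXc P₀ (Or.inr (hXK'.trans hK'σ))).1.1
    refine h5 s _ hs (IsPGroup.of_card (n := 1) (by rw [hXc, pow_one])) ?_ (hXK'.trans hK'T) h1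
    intro h
    rw [h, Subgroup.card_bot] at hXc
    exact hs.one_lt.ne hXc
  -- (C2) `q ∈ σ(M)` and the index of `M_σ`
  have hqY : q ∣ Nat.card Y := by
    obtain ⟨k, hk⟩ := IsPGroup.iff_card.mp hYq
    have hk0 : k ≠ 0 := by
      rintro rfl
      rw [pow_zero] at hk
      exact hY1 (Subgroup.card_eq_one.mp hk)
    rw [hk]
    exact dvd_pow_self q hk0
  have hqσ : q ∈ sigma M :=
    hσhall.2.1 q hq (hqY.trans (Subgroup.card_dvd_of_le (hYK.trans inf_le_left)))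
  have hqj : ¬ q ∣ (sigmaCore M).relIndex M := hσhall.2.2 q hq hqσ
  have hnorm : ((sigmaCore M).subgroupOf M).Normal :=
    (Subgroup.normal_subgroupOf_iff_le_normalizer hσM).mpr hMn
  have hpowK : ∀ g ∈ M ⊓ H, g ^ (sigmaCore M).relIndex M ∈ sigmaCore M ⊓ H := by
    intro g hg
    refine ⟨?_, H.pow_mem hg.2 _⟩
    have h1 := Subgroup.pow_index_mem ((sigmaCore M).subgroupOf M) ⟨g, hg.1⟩
    rw [Subgroup.mem_subgroupOf] at h1
    exact h1
  have hqpow : ∀ y ∈ Y, ∃ i : ℕ, y ^ q ^ i = 1 := by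
    intro y hy
    obtain ⟨i, hi⟩ := hYq ⟨y, hy⟩
    exact ⟨i, congrArg Subtype.val hi⟩
  -- (C4) `Y` is the set of `q`-elements of `K`
  have hYmem : ∀ k ∈ sigmaCore M ⊓ H, (∃ i : ℕ, k ^ q ^ i = 1) → k ∈ Y := by
    let Q₀ : Subgroup G :=
      { carrier := {k | k ∈ sigmaCore M ⊓ H ∧ ∃ i : ℕ, k ^ q ^ i = 1}
        one_mem' := ⟨Subgroup.one_mem _, 0, one_pow _⟩
        mul_mem' := by
          rintro a b ⟨ha, i, hi⟩ ⟨hb, j, hj⟩
          refine ⟨Subgroup.mul_mem _ ha hb, i + j, ?_⟩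
          have hc : Commute a b := hKab a ha b hb
          have e1 : a ^ q ^ (i + j) = 1 := by rw [pow_add, pow_mul, hi, one_pow]
          have e2 : b ^ q ^ (i + j) = 1 := by rw [pow_add, mul_comm, pow_mul, hj, one_pow]
          rw [hc.mul_pow, e1, e2, one_mul]
        inv_mem' := by
          rintro a ⟨ha, i, hi⟩
          exact ⟨Subgroup.inv_mem _ ha, i, by rw [inv_pow, hi, inv_one]⟩ }
    have hQ₀K : Q₀ ≤ sigmaCore M ⊓ H := fun k hk => hk.1
    have hQ₀q : IsPGroup q Q₀ := by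
      rintro ⟨k, hk⟩
      obtain ⟨i, hi⟩ := hk.2
      exact ⟨i, Subtype.ext hi⟩
    have hYQ₀ : Y ≤ Q₀ := fun y hy => ⟨hYK hy, hqpow y hy⟩
    have hQ₀Y : Q₀ = Y := hY.2.2 Q₀ hQ₀K hQ₀q hYQ₀
    intro k hk hki
    rw [← hQ₀Y]
    exact ⟨hk, hki⟩
  -- `M ∩ H` normalizes `Y`
  have hNnormY : ∀ g ∈ M ⊓ H, ∀ y ∈ Y, g * y * g⁻¹ ∈ Y := by
    intro g hg y hy
    apply hYmem _ (hNK g hg y (hYK hy))
    obtain ⟨i, hi⟩ := hqpow y hy
    exact ⟨i, by rw [conj_pow, hi]; group⟩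
  -- (C5) some element of `M ∩ H` does not centralize `Y`
  have hex : ∃ g ∈ M ⊓ H, ∃ y ∈ Y, g * y ≠ y * g := by
    by_contra hcon
    push Not at hcon
    have hcK0 : Nat.card ↥(sigmaCore M ⊓ H) ≠ 0 := Nat.card_pos.ne'
    obtain ⟨b, m, hqm, hcm⟩ := Nat.exists_eq_pow_mul_and_not_dvd hcK0 q hq.ne_one
    have hb0 : b ≠ 0 := by
      rintro rfl
      rw [pow_zero, one_mul] at hcm
      exact hqm (hcm ▸ hqY.trans (Subgroup.card_dvd_of_le hYK))
    have hqb1 : 1 < q ^ b := Nat.one_lt_pow hb0 hq.one_lt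
    have hqm' : Nat.Coprime q m := (Nat.Prime.coprime_iff_not_dvd hq).mpr hqm
    have hcop : Nat.Coprime m (q ^ b) := (Nat.Coprime.pow_left b hqm').symm
    obtain ⟨m', -, hm'⟩ := Nat.exists_mul_mod_eq_one_of_coprime hcop hqb1
    obtain ⟨e, he⟩ : ∃ e : ℕ, e = m * m' := ⟨_, rfl⟩
    rw [← he] at hm'
    have hpowY : ∀ k ∈ sigmaCore M ⊓ H, k ^ e ∈ Y := by
      intro k hk
      apply hYmem _ (Subgroup.pow_mem _ hk _)
      refine ⟨b, ?_⟩
      rw [← pow_mul, he]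
      have h1 : m * m' * q ^ b = Nat.card ↥(sigmaCore M ⊓ H) * m' := by rw [hcm]; ring
      rw [h1, pow_mul]
      have h2 : k ^ Nat.card ↥(sigmaCore M ⊓ H) = 1 := by
        have h3 := pow_card_eq_one' (G := ↥(sigmaCore M ⊓ H)) (x := ⟨k, hk⟩)
        exact congrArg Subtype.val h3
      rw [h2, one_pow]
    have hpowid : ∀ y ∈ Y, y ^ e = y := by
      intro y hy
      have h1 : y ^ q ^ b = 1 := by
        obtain ⟨i, hi⟩ := hqpow y hy
        have hd1 : orderOf y ∣ q ^ i := orderOf_dvd_of_pow_eq_one hi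
        have hd2 : orderOf y ∣ q ^ b * m := by
          rw [← hcm]
          have h3 := orderOf_dvd_natCard (⟨y, hYK hy⟩ : ↥(sigmaCore M ⊓ H))
          rwa [Subgroup.orderOf_mk] at h3
        obtain ⟨i', -, hi'eq⟩ := (Nat.dvd_prime_pow hq).mp hd1
        have hcop' : Nat.Coprime (orderOf y) m := by
          rw [hi'eq]
          exact Nat.Coprime.pow_left i' hqm'
        exact orderOf_dvd_iff_pow_eq_one.mp (hcop'.dvd_of_dvd_mul_right hd2)
      have h2 : e = 1 + q ^ b * (e / q ^ b) := by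
        have h3 := Nat.mod_add_div e (q ^ b)
        rw [hm'] at h3
        exact h3.symm
      rw [h2, pow_add, pow_one, pow_mul, h1, one_pow, mul_one]
    let D : Subgroup G :=
      { carrier := {t | t ∈ sigmaCore M ⊓ H ∧ t ^ e = 1}
        one_mem' := ⟨Subgroup.one_mem _, one_pow _⟩
        mul_mem' := by
          rintro a b' ⟨ha, hae⟩ ⟨hb, hbe⟩
          refine ⟨Subgroup.mul_mem _ ha hb, ?_⟩
          have hc : Commute a b' := hKab a ha b' hb
          rw [hc.mul_pow, hae, hbe, one_mul]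
        inv_mem' := by
          rintro a ⟨ha, hae⟩
          exact ⟨Subgroup.inv_mem _ ha, by rw [inv_pow, hae, inv_one]⟩ }
    have hTD : ⁅sigmaCore M ⊓ H, M ⊓ H⁆ ≤ D := by
      rw [Subgroup.commutator_le]
      intro k hk g hg
      have hgk : g * k⁻¹ * g⁻¹ ∈ sigmaCore M ⊓ H := hNK g hg _ (Subgroup.inv_mem _ hk)
      have h1 : ⁅k, g⁆ = k * (g * k⁻¹ * g⁻¹) := by rw [commutatorElement_def]; group
      rw [h1]
      refine ⟨Subgroup.mul_mem _ hk hgk, ?_⟩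
      have hc : Commute k (g * k⁻¹ * g⁻¹) := hKab k hk _ hgk
      rw [hc.mul_pow, conj_pow, inv_pow]
      have h2 := hcon g hg ((k ^ e)⁻¹) (Y.inv_mem (hpowY k hk))
      rw [h2]
      group
    apply hYT
    rw [eq_bot_iff]
    intro t ht
    have h1 := hTD ht.2
    have h2 := hpowid t ht.1
    rw [Subgroup.mem_bot, ← h2]
    exact h1.2
  -- (C6) the commutator map of a non-centralizing element is onto `Y`
  obtain ⟨g, hg, y₀, hy₀, hgy⟩ := hex
  have hYab : ∀ a ∈ Y, ∀ b ∈ Y, a * b = b * a := fun a ha b hb => hKab a (hYK ha) b (hYK hb)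
  have hginv : ∀ y ∈ Y, g * y⁻¹ * g⁻¹ ∈ Y := fun y hy => hNnormY g hg _ (Y.inv_mem hy)
  let φ : ↥Y →* ↥Y := MonoidHom.mk' (fun y => ⟨(y : G) * g * (y : G)⁻¹ * g⁻¹, by
      have h1 : (y : G) * g * (y : G)⁻¹ * g⁻¹ = (y : G) * (g * (y : G)⁻¹ * g⁻¹) := by group
      rw [h1]
      exact Y.mul_mem y.2 (hginv y y.2)⟩) (by
    intro a b
    apply Subtype.ext
    show (a : G) * b * g * ((a : G) * b)⁻¹ * g⁻¹ =
      ((a : G) * g * (a : G)⁻¹ * g⁻¹) * ((b : G) * g * (b : G)⁻¹ * g⁻¹)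
    have h1 : (a : G) * b * g * ((a : G) * b)⁻¹ * g⁻¹ =
        (a : G) * ((b : G) * (g * (b : G)⁻¹ * g⁻¹)) * (g * (a : G)⁻¹ * g⁻¹) := by group
    have h2 : ((a : G) * g * (a : G)⁻¹ * g⁻¹) * ((b : G) * g * (b : G)⁻¹ * g⁻¹) =
        (a : G) * (g * (a : G)⁻¹ * g⁻¹) * ((b : G) * (g * (b : G)⁻¹ * g⁻¹)) := by group
    rw [h1, h2, mul_assoc, hYab _ (Y.mul_mem b.2 (hginv b b.2)) _ (hginv a a.2), ← mul_assoc])
  have hφ : ∀ y : ↥Y, ((φ y : ↥Y) : G) = (y : G) * g * (y : G)⁻¹ * g⁻¹ := fun y => rfl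
  have hj := hpowK g hg
  have hkr : φ.ker ⊓ φ.range = ⊥ := by
    rw [eq_bot_iff]
    rintro _ ⟨hzk, ⟨y, rfl⟩⟩
    rw [Subgroup.mem_bot]
    obtain ⟨z, hz⟩ : ∃ z : G, z = (y : G) * g * (y : G)⁻¹ * g⁻¹ := ⟨_, rfl⟩
    have hzφ : ((φ y : ↥Y) : G) = z := by rw [hφ, hz]
    have hzY : z ∈ Y := hzφ ▸ (φ y).2
    have hz1 : z * g * z⁻¹ * g⁻¹ = 1 := by
      have h1 : ((φ (φ y) : ↥Y) : G) = 1 := by
        rw [MonoidHom.mem_ker.mp hzk]
        rfl
      rw [hφ, hzφ] at h1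
      exact h1
    have hgz : g * z = z * g := by
      calc g * z = (z * g * z⁻¹ * g⁻¹)⁻¹ * (z * g) := by group
        _ = z * g := by rw [hz1, inv_one, one_mul]
    have hgy' : g * (y : G) * g⁻¹ = z⁻¹ * y := by rw [hz]; group
    have hconj : ∀ i : ℕ, g ^ i * (y : G) * (g ^ i)⁻¹ = (z⁻¹) ^ i * y := by
      intro i
      induction i with
      | zero => simp
      | succ i ih =>
        have h1 : g ^ (i + 1) * (y : G) * (g ^ (i + 1))⁻¹ =
            g * (g ^ i * (y : G) * (g ^ i)⁻¹) * g⁻¹ := by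
          rw [pow_succ']
          group
        have h2 : g * ((z⁻¹) ^ i * (y : G)) * g⁻¹ =
            (g * (z⁻¹) ^ i * g⁻¹) * (g * (y : G) * g⁻¹) := by group
        have h3 : g * (z⁻¹) ^ i * g⁻¹ = (z⁻¹) ^ i := by
          have hc : Commute g z := hgz
          have h4 := (hc.inv_right.pow_right i).eq
          rw [h4]
          group
        rw [h1, ih, h2, h3, hgy', pow_succ, mul_assoc]
    have h4 := hconj ((sigmaCore M).relIndex M)
    have h5' : g ^ (sigmaCore M).relIndex M * (y : G) = (y : G) * g ^ (sigmaCore M).relIndex M :=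
      hKab _ hj _ (hYK y.2)
    have h6 : (z⁻¹) ^ (sigmaCore M).relIndex M = 1 := by
      have h7 : g ^ (sigmaCore M).relIndex M * (y : G) * (g ^ (sigmaCore M).relIndex M)⁻¹ = y := by
        rw [h5']
        group
      rw [h7] at h4
      exact mul_eq_right.mp h4.symm
    have h7 : z ^ (sigmaCore M).relIndex M = 1 := by
      rw [inv_pow, inv_eq_one] at h6
      exact h6
    obtain ⟨i, hi⟩ := hqpow z hzY
    have hd1 : orderOf z ∣ (sigmaCore M).relIndex M := orderOf_dvd_of_pow_eq_one h7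
    have hd2 : orderOf z ∣ q ^ i := orderOf_dvd_of_pow_eq_one hi
    have hcop : Nat.Coprime (q ^ i) ((sigmaCore M).relIndex M) :=
      Nat.Coprime.pow_left i ((Nat.Prime.coprime_iff_not_dvd hq).mpr hqj)
    have h8 : orderOf z = 1 := Nat.eq_one_of_dvd_coprimes hcop hd2 hd1
    apply Subtype.ext
    rw [hzφ]
    exact orderOf_eq_one_iff.mp h8
  have hrange : φ.range ≠ ⊥ := by
    intro h
    have h1 : φ ⟨y₀, hy₀⟩ ∈ φ.range := ⟨_, rfl⟩
    rw [h, Subgroup.mem_bot] at h1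
    have h2 : y₀ * g * y₀⁻¹ * g⁻¹ = 1 := congrArg Subtype.val h1
    apply hgy
    calc g * y₀ = (y₀ * g * y₀⁻¹ * g⁻¹)⁻¹ * (y₀ * g) := by group
      _ = y₀ * g := by rw [h2, inv_one, one_mul]
  have hker : φ.ker = ⊥ := by
    by_contra hk
    exact (bg13nb7_cyc hq (show IsPGroup q ↥Y from hYq) hk hrange) hkr
  have hinj : Function.Injective φ := (MonoidHom.ker_eq_bot_iff φ).mp hker
  have hsurj : Function.Surjective φ := Finite.injective_iff_surjective.mp hinj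
  apply hfin
  intro y hy
  obtain ⟨y', hy'⟩ := hsurj ⟨y, hy⟩
  have h1 : (y' : G) * g * (y' : G)⁻¹ * g⁻¹ = y := congrArg Subtype.val hy'
  rw [← h1, ← commutatorElement_def]
  exact Subgroup.commutator_mem_commutator (hYK y'.2) hg

end Cfsg.Agent.Helper34
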