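/-
helper34: CALL S1366 piece KAP (bg147_mem_kappa).
-/
import Cfsg.Agent.Helper22.BG10b
import Cfsg.Agent.Helper22.BG10d
import Cfsg.Agent.Helper20.BG13P4
import Cfsg.Agent.Helper49.OddCyclic
import Cfsg.Agent.Helper23.Trans
import Cfsg.Agent.S1403
import Cfsg.Agent.S1420

set_option autoImplicit false

namespace Cfsg.Agent.Helper34

open Cfsg Subgroup
open scoped Pointwise

universe u

variable {G : Type u} [Group G] [Finite G]

/-- A2. A subgroup `Y ≤ L` of prime order `t ∉ σ(L)` with `C_{L_σ}(Y) ≠ 1` whose centralizer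
lies in a maximal subgroup other than `L` has `t ∈ κ(L)`. -/
theorem bg147_mem_kappa (hG : IsMinSimpleOddOrder G) {L Y : Subgroup G} {t : ℕ}
    (hL : IsCoatom L) (ht : t.Prime) (htσ : t ∉ sigma L) (hYL : Y ≤ L) (hY : Nat.card Y = t)
    (hne : sigmaCore L ⊓ centralizer (Y : Set G) ≠ ⊥)
    (hnu : ∃ H : Subgroup G, IsCoatom H ∧ centralizer (Y : Set G) ≤ H ∧ H ≠ L) :
    t ∈ kappa L := by
  have hU : Cfsg.Agent.Helper22.BGUniq G :=
    fun K hK h1 h2 => Cfsg.Agent.S1403.result hG K hK h1 h2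
  have := Fact.mk ht
  have ht2 : t ≠ 2 := by
    rintro rfl
    have hodd : Odd (Nat.card G) := hG.1
    have h2 : 2 ∣ Nat.card G := hY ▸ Subgroup.card_subgroup_dvd_card Y
    exact (Nat.not_even_iff_odd.mpr hodd) (even_iff_two_dvd.mpr h2)
  -- a generator `y` of `Y`
  have hY1 : Y ≠ ⊥ := by
    intro h
    rw [h, Subgroup.card_bot] at hY
    exact ht.one_lt.ne hY
  obtain ⟨⟨y, hyY⟩, hy1'⟩ := Subgroup.ne_bot_iff_exists_ne_one.mp hY1
  have hy1 : y ≠ 1 := fun h => hy1' (Subtype.ext h)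
  have hyo : orderOf y = t := by
    have h1 : orderOf y ∣ t := by
      have h := orderOf_dvd_natCard (⟨y, hyY⟩ : Y)
      rwa [Subgroup.orderOf_mk, hY] at h
    rcases (Nat.dvd_prime ht).mp h1 with h | h
    · exact absurd (orderOf_eq_one_iff.mp h) hy1
    · exact h
  have hYz : zpowers y = Y := by
    apply Subgroup.eq_of_le_of_card_ge
    · rw [Subgroup.zpowers_le]
      exact hyY
    · rw [Nat.card_zpowers, hyo, hY]
  have hcent : centralizer (Y : Set G) = centralizer ({y} : Set G) := by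
    rw [← hYz]
    exact Cfsg.Agent.Helper22.bg10_centralizer_zpowers y
  -- a fixed point `z`
  obtain ⟨⟨z, hz⟩, hz1'⟩ := Subgroup.ne_bot_iff_exists_ne_one.mp hne
  have hz1 : z ≠ 1 := fun h => hz1' (Subtype.ext h)
  have hzσ : z ∈ sigmaCore L := hz.1
  have hyz : y * z = z * y := Subgroup.mem_centralizer_iff.mp hz.2 y hyY
  -- ranks
  have h2 : PRankLE t 2 ↥L :=
    Cfsg.Agent.Helper22.bg10_pRank_of_not_alpha L t ht
      (fun h => htσ (Cfsg.Agent.Helper22.bg10_alpha_sub_sigma hG hU hL h))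
  have h1 : PRankLE t 1 ↥L := by
    by_contra hn1
    have hτ2 : t ∈ tau2 L := ⟨ht, htσ, h2, hn1⟩
    obtain ⟨E, hE, -⟩ := Cfsg.Agent.Helper20.bg13_exists_compl_ge hG hU hL
      (bot_le : (⊥ : Subgroup G) ≤ L) (by rw [Subgroup.card_bot]; exact Nat.coprime_one_left _)
    have h4 := (Cfsg.Agent.S1420.result hG L hL E hE).2.2.2 y (hYL hyY) hy1
      (fun p hp hpd => by
        rw [hyo] at hpd
        rw [(Nat.prime_dvd_prime_iff_eq hp ht).mp hpd]
        exact hτ2)
      ⟨hYL hyY, z, hzσ, hz1, hyz⟩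
    obtain ⟨H, hH, hCH, hHL⟩ := hnu
    exact hHL (h4.2 H hH (by rw [← hcent]; exact hCH))
  have hNL : L ≤ normalizer (sigmaCore L : Set G) :=
    Cfsg.Agent.Helper23.le_normalizer_piCoreOf (sigma L) L
  refine ⟨ht, hY ▸ Subgroup.card_dvd_of_le hYL, htσ, fun P => ⟨?_, ?_⟩⟩
  · exact Cfsg.Agent.Helper49.isCyclic_sylow_of_pRankLE_one ht2 h1 P
  · -- conjugate `Y` into `P`
    let yL : ↥L := ⟨y, hYL hyY⟩
    have hyLo : orderOf yL = t := by
      rw [Subgroup.orderOf_mk]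
      exact hyo
    have hpg : IsPGroup t ↥(zpowers yL) := by
      apply IsPGroup.of_card (n := 1)
      rw [Nat.card_zpowers, hyLo, pow_one]
    obtain ⟨Q, hQ⟩ := hpg.exists_le_sylow
    obtain ⟨g, hg⟩ := MulAction.exists_smul_eq ↥L Q P
    have hyQ : yL ∈ (Q : Subgroup ↥L) := hQ (Subgroup.mem_zpowers yL)
    have hxP : g * yL * g⁻¹ ∈ (P : Subgroup ↥L) := by
      rw [← hg]
      have h0 : ((g • Q : Sylow t ↥L) : Subgroup ↥L) = MulAut.conj g • (Q : Subgroup ↥L) := rfl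
      rw [h0]
      have h := Subgroup.smul_mem_pointwise_smul yL (MulAut.conj g) (Q : Subgroup ↥L) hyQ
      simpa [MulAut.smul_def, MulAut.conj_apply] using h
    refine ⟨g * yL * g⁻¹, hxP, ?_, (g : G) * z * (g : G)⁻¹, ?_, ?_, ?_⟩
    · intro h
      have h5 : yL = 1 := by
        have h6 : yL = g⁻¹ * (g * yL * g⁻¹) * g := by group
        rw [h6, h]
        group
      exact hy1 (congrArg Subtype.val h5)
    · exact (Subgroup.mem_normalizer_iff.mp (hNL g.2) z).mp hzσ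
    · intro h
      apply hz1
      have h6 : z = (g : G)⁻¹ * ((g : G) * z * (g : G)⁻¹) * (g : G) := by group
      rw [h6, h]
      group
    · show (g : G) * y * (g : G)⁻¹ * ((g : G) * z * (g : G)⁻¹) =
        (g : G) * z * (g : G)⁻¹ * ((g : G) * y * (g : G)⁻¹)
      calc (g : G) * y * (g : G)⁻¹ * ((g : G) * z * (g : G)⁻¹)
          = (g : G) * (y * z) * (g : G)⁻¹ := by group
        _ = (g : G) * (z * y) * (g : G)⁻¹ := by rw [hyz]
        _ = (g : G) * z * (g : G)⁻¹ * ((g : G) * y * (g : G)⁻¹) := by group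

end Cfsg.Agent.Helper34
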