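import Cfsg.Agent.Helper22.BG10b
import Cfsg.Agent.Helper23.Trans
import Cfsg.Agent.S1403

set_option autoImplicit false

namespace Cfsg.Agent.Helper34

open Cfsg Subgroup

universe u

variable {G : Type u} [Group G] [Finite G]

/-- AC. A normal Sylow subgroup of `M_σ` (normal in `M`) lies in `M_F`
(`M_σ` is a Hall `σ(M)`-subgroup of `M`). -/
theorem bg15_app_concl (hG : IsMinSimpleOddOrder G) (M : Subgroup G) (hM : IsCoatom M) {q : ℕ}
    (hq : q.Prime) (Q : Subgroup ↥M) (hQn : Q.Normal) (hQL : Q ≤ piCore (sigma M) ↥M)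
    (hQq : IsPGroup q Q) (hidx : ¬ q ∣ Q.relIndex (piCore (sigma M) ↥M)) :
    Q ≤ fittingHall ↥M := by
  classical
  have hU : Cfsg.Agent.Helper22.BGUniq G :=
    fun K hK h1 h2 => Cfsg.Agent.S1403.result hG K hK h1 h2
  obtain ⟨⟨hle, hpi, hidxσ⟩, -, -⟩ := Cfsg.Agent.Helper22.bg10_sigma_hall hG hU hM
  have hrel : (sigmaCore M).relIndex M = (piCore (sigma M) ↥M).index := by
    rw [Subgroup.relIndex]
    congr 1
    exact Subgroup.comap_map_eq_self_of_injective M.subtype_injective (piCore (sigma M) ↥M)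
  have hfq := Fact.mk hq
  apply le_sSup
  refine ⟨hQn, hQq.isNilpotent, ?_⟩
  obtain ⟨n, hn⟩ := IsPGroup.iff_card.mp hQq
  by_cases hn0 : n = 0
  · rw [hn, hn0, pow_zero]
    exact Nat.coprime_one_left _
  rw [hn]
  apply Nat.Coprime.pow_left
  rw [Nat.Prime.coprime_iff_not_dvd hq]
  intro hdvd
  have hmul : Q.relIndex (piCore (sigma M) ↥M) * (piCore (sigma M) ↥M).index = Q.index :=
    Subgroup.relIndex_mul_index hQL
  rw [← hmul] at hdvd
  rcases (Nat.Prime.dvd_mul hq).mp hdvd with h | h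
  · exact hidx h
  · have hqQ : q ∣ Nat.card Q := by
      rw [hn]
      exact dvd_pow_self q hn0
    have hqL : q ∣ Nat.card (piCore (sigma M) ↥M) := hqQ.trans (Subgroup.card_dvd_of_le hQL)
    have hqσ : q ∈ sigma M := Cfsg.Agent.Helper23.mem_of_dvd_card_piCore (sigma M) hq hqL
    exact hidxσ q hq hqσ (by rw [hrel]; exact h)

end Cfsg.Agent.Helper34
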