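import Cfsg.Agent.Helper24.BG1217
import Cfsg.Agent.S1403

set_option autoImplicit false

namespace Cfsg.Agent.Helper34

open Cfsg Subgroup

universe u

variable {G : Type u} [Group G] [Finite G]

/-- C1. `M_σ ≤ M'`. -/
theorem bg15_sigma_le_comm (hG : IsMinSimpleOddOrder G) (M : Subgroup G) (hM : IsCoatom M) :
    sigmaCore M ≤ ⁅M, M⁆ := by
  have hU : Cfsg.Agent.Helper22.BGUniq G :=
    fun K hK h1 h2 => Cfsg.Agent.S1403.result hG K hK h1 h2
  exact Cfsg.Agent.Helper24.bg1217_sigmaCore_le_comm hG hU hM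

end Cfsg.Agent.Helper34
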