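import Cfsg.Agent.Helper24.BG11b
import Cfsg.Agent.Helper23.Uniq

set_option autoImplicit false

namespace Cfsg.Agent.Helper34

open Cfsg Subgroup

universe u

variable {G : Type u} [Group G] [Finite G]

/-- C2. `M' < M` (`M` is solvable and `M ≠ 1`). -/
theorem bg15_comm_lt (hG : IsMinSimpleOddOrder G) (M : Subgroup G) (hM : IsCoatom M) :
    ⁅M, M⁆ < M := by
  have hsol : Group.IsSolvable ↥M := Cfsg.Agent.Helper23.uq_isSolvable hG hM.1
  have hne : M ≠ ⊥ := Cfsg.Agent.Helper24.bg11b_coatom_ne_bot hG hM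
  have hnt : Nontrivial ↥M := (Subgroup.nontrivial_iff_ne_bot M).mpr hne
  have hlt : commutator ↥M < ⊤ := Group.IsSolvable.commutator_lt_top_of_nontrivial ↥M
  have hmap : ⁅M, M⁆ = (commutator ↥M).map M.subtype := by
    rw [_root_.commutator_def, Subgroup.map_commutator, ← MonoidHom.range_eq_map,
      Subgroup.range_subtype]
  have hle : ⁅M, M⁆ ≤ M := by
    rw [hmap]
    exact Subgroup.map_subtype_le _
  refine lt_of_le_of_ne hle ?_
  intro heq
  apply hlt.ne
  apply Subgroup.map_injective M.subtype_injective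
  rw [← hmap, heq, ← MonoidHom.range_eq_map, Subgroup.range_subtype]

end Cfsg.Agent.Helper34
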