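import Cfsg.Agent.Helper31.BGCFHb
import Cfsg.Agent.Helper54.BG14T2
import Cfsg.Agent.Helper24.BG11b
import Cfsg.Agent.Helper22.BG12a
import Cfsg.Agent.Helper20.BG13P4
import Cfsg.Agent.S1403

set_option autoImplicit false

namespace Cfsg.Agent.Helper34

open Cfsg Subgroup

universe u

variable {G : Type u} [Group G] [Finite G]

/-- E1. If `M_σ` is nilpotent then `M_F = M_σ ≠ 1` and `M'/M_F ≅ E'` is nilpotent. -/
theorem bg15_chain_nil (hG : IsMinSimpleOddOrder G) (M : Subgroup G) (hM : IsCoatom M)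
    (hnil : Group.IsNilpotent ↥(sigmaCore M)) :
    fittingHallOf M ≠ ⊥ ∧
      Group.IsNilpotent ↥((commutator ↥M).map (QuotientGroup.mk' (fittingHall ↥M))) := by
  classical
  have hU : Cfsg.Agent.Helper22.BGUniq G :=
    fun K hK h1 h2 => Cfsg.Agent.S1403.result hG K hK h1 h2
  have h1 : sigmaCore M ≤ fittingHallOf M :=
    Cfsg.Agent.Helper31.bgc_sigmaCore_le_fittingHall hG hM hnil
  have h2 : fittingHallOf M ≤ sigmaCore M := Cfsg.Agent.Helper54.bg14t_fittingHall_le hG hM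
  have heq : fittingHallOf M = sigmaCore M := le_antisymm h2 h1
  have hne : sigmaCore M ≠ ⊥ := Cfsg.Agent.Helper24.bg11b_sigmaCore_ne_bot hG hU hM
  refine ⟨by rw [heq]; exact hne, ?_⟩
  obtain ⟨E, hE, -⟩ :=
    Cfsg.Agent.Helper20.bg13_exists_compl_ge hG hU hM (K := ⊥) bot_le (by simp)
  obtain ⟨hEnil, -, -⟩ := Cfsg.Agent.Helper22.bg12_E_structure hG hU hM hE
  obtain ⟨hEM, hSM, hdisj, hprod⟩ := hE
  have hmapE : (E.subgroupOf M).map (QuotientGroup.mk' (fittingHall ↥M)) = ⊤ := by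
    rw [eq_top_iff]
    rintro x -
    obtain ⟨m, rfl⟩ := QuotientGroup.mk'_surjective (fittingHall ↥M) x
    obtain ⟨a, ha, b, hb, hab⟩ := hprod m.1 m.2
    refine ⟨⟨a, hEM ha⟩, Subgroup.mem_subgroupOf.mpr ha, ?_⟩
    rw [QuotientGroup.mk'_apply, QuotientGroup.mk'_apply, QuotientGroup.eq]
    have hb' : b ∈ fittingHallOf M := heq ▸ hb
    obtain ⟨b', hb'F, hb'eq⟩ := hb'
    have hbb : (⟨a, hEM ha⟩ : ↥M)⁻¹ * m = b' := by
      apply Subtype.ext
      have hb2 : (b' : G) = b := hb'eq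
      simp [hab, hb2]
    rw [hbb]
    exact hb'F
  have hcomm : (commutator ↥M).map (QuotientGroup.mk' (fittingHall ↥M)) =
      (⁅E.subgroupOf M, E.subgroupOf M⁆).map (QuotientGroup.mk' (fittingHall ↥M)) := by
    rw [_root_.commutator_def, Subgroup.map_commutator, Subgroup.map_commutator, hmapE,
      ← MonoidHom.range_eq_map,
      MonoidHom.range_eq_top.mpr (QuotientGroup.mk'_surjective _)]
  rw [hcomm]
  have hnilEM : Group.IsNilpotent ↥⁅E.subgroupOf M, E.subgroupOf M⁆ := by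
    have hmapEM : (⁅E.subgroupOf M, E.subgroupOf M⁆).map M.subtype = ⁅E, E⁆ := by
      rw [Subgroup.map_commutator]
      have hE' : (E.subgroupOf M).map M.subtype = E := by
        rw [Subgroup.map_subgroupOf_eq_of_le hEM]
      rw [hE']
    have e : ↥⁅E.subgroupOf M, E.subgroupOf M⁆ ≃*
        ↥((⁅E.subgroupOf M, E.subgroupOf M⁆).map M.subtype) :=
      Subgroup.equivMapOfInjective _ M.subtype M.subtype_injective
    rw [hmapEM] at e
    exact Group.nilpotent_of_mulEquiv e.symm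
  exact Group.nilpotent_of_surjective
    ((QuotientGroup.mk' (fittingHall ↥M)).subgroupMap ⁅E.subgroupOf M, E.subgroupOf M⁆)
    ((QuotientGroup.mk' (fittingHall ↥M)).subgroupMap_surjective _)

end Cfsg.Agent.Helper34
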