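import Mathlib
import Cfsg.Prelude.Def_OddOrderLocal

set_option autoImplicit false

namespace Cfsg.Agent.Helper34

open Cfsg Subgroup

universe u

variable {G : Type u} [Group G] [Finite G]

/-- CORE1 (pure arithmetic). -/
theorem bg15b_core_card {Q Q₁ Ks K : Subgroup G} (hq : (Nat.card Ks).Prime) (hKsQ : Ks ≤ Q)
    (hQ₁Q : Q₁ ≤ Q) (hK1 : K ≠ ⊥) (hQ₁ne : Q₁ ≠ Q) (P : Subgroup G → Prop) (hPQ : P Q)
    (hcnt : ∀ Y K₀ : Subgroup G, Y ≤ Q → P Y → K₀ ≤ K → K₀ ≠ ⊥ →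
      Nat.card ↥(Y ⊓ Q₁ ⊓ Ks) ^ Nat.card K₀ * Nat.card Y =
        Nat.card ↥(Y ⊓ Ks) ^ Nat.card K₀ * Nat.card ↥(Y ⊓ Q₁)) :
    Ks ⊓ Q₁ = ⊥ ∧ Nat.card Q = Nat.card Q₁ * Nat.card Ks ^ Nat.card K ∧ (Nat.card K).Prime := by
  classical
  have hKs2 : 2 ≤ Nat.card Ks := hq.two_le
  have hQ₁pos : 0 < Nat.card Q₁ := Nat.card_pos
  have e2 : Q ⊓ Ks = Ks := inf_eq_right.mpr hKsQ
  have e3 : Q ⊓ Q₁ = Q₁ := inf_eq_right.mpr hQ₁Q
  have hdisj : Ks ⊓ Q₁ = ⊥ := by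
    by_contra hne
    have hle : Ks ≤ Q₁ := by
      have hdvd : Nat.card ↥(Ks ⊓ Q₁) ∣ Nat.card Ks := Subgroup.card_dvd_of_le inf_le_left
      rcases (Nat.dvd_prime hq).mp hdvd with h1 | h1
      · exact absurd ((Subgroup.eq_bot_iff_card _).mpr h1) hne
      · have h2 : Ks ⊓ Q₁ = Ks := Subgroup.eq_of_le_of_card_ge inf_le_left h1.ge
        exact inf_eq_left.mp h2
    have h := hcnt Q K le_rfl hPQ le_rfl hK1
    have e1 : Q ⊓ Q₁ ⊓ Ks = Ks := by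
      rw [e3, inf_eq_right.mpr hle]
    rw [e1, e2, e3] at h
    have h' : Nat.card Q = Nat.card Q₁ :=
      Nat.eq_of_mul_eq_mul_left (pow_pos (by omega) _) h
    exact hQ₁ne (Subgroup.eq_of_le_of_card_ge hQ₁Q h'.le)
  have hform : ∀ K₀ : Subgroup G, K₀ ≤ K → K₀ ≠ ⊥ →
      Nat.card Q = Nat.card Q₁ * Nat.card Ks ^ Nat.card K₀ := by
    intro K₀ hK₀ hK₀1
    have h := hcnt Q K₀ le_rfl hPQ hK₀ hK₀1
    have e1 : Q ⊓ Q₁ ⊓ Ks = ⊥ := by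
      rw [e3, inf_comm]; exact hdisj
    rw [e1, e2, e3, Subgroup.card_bot, one_pow, one_mul] at h
    rw [h, mul_comm]
  have hcard := hform K le_rfl hK1
  refine ⟨hdisj, hcard, ?_⟩
  have hall : ∀ K₀ : Subgroup G, K₀ ≤ K → K₀ ≠ ⊥ → Nat.card K₀ = Nat.card K := by
    intro K₀ hK₀ hK₀1
    have h := hform K₀ hK₀ hK₀1
    rw [hcard] at h
    have h2 : Nat.card Ks ^ Nat.card K = Nat.card Ks ^ Nat.card K₀ :=
      Nat.eq_of_mul_eq_mul_left hQ₁pos h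
    exact (Nat.pow_right_injective hKs2 h2).symm
  have hKcard : Nat.card K ≠ 1 := fun h => hK1 ((Subgroup.eq_bot_iff_card _).mpr h)
  obtain ⟨p, hp, hpK⟩ := Nat.exists_prime_and_dvd hKcard
  haveI := Fact.mk hp
  obtain ⟨x, hx⟩ := exists_prime_orderOf_dvd_card' p hpK
  have hz : Nat.card (zpowers (x : G)) = p := by
    rw [Nat.card_zpowers, Subgroup.orderOf_coe, hx]
  have hzK : zpowers (x : G) ≤ K := by
    rw [Subgroup.zpowers_le]; exact x.2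
  have hz1 : zpowers (x : G) ≠ ⊥ := by
    intro h
    rw [h, Subgroup.card_bot] at hz
    exact hp.one_lt.ne hz
  rw [← hall _ hzK hz1, hz]
  exact hp

end Cfsg.Agent.Helper34
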