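import Mathlib
import Cfsg.Prelude.Def_OddOrderLocal

set_option autoImplicit false

namespace Cfsg.Agent.Helper34

open Cfsg Subgroup

universe u

variable {G : Type u} [Group G] [Finite G]

/-- CORE2 (pure arithmetic). -/
theorem bg15b_core_dich {Q Q₁ Ks K : Subgroup G} (hq : (Nat.card Ks).Prime) (hKsQ : Ks ≤ Q)
    (hQ₁Q : Q₁ ≤ Q) (hK1 : K ≠ ⊥) (hQ₁ne : Q₁ ≠ Q) (P : Subgroup G → Prop) (hPQ : P Q)
    (hcnt : ∀ Y K₀ : Subgroup G, Y ≤ Q → P Y → K₀ ≤ K → K₀ ≠ ⊥ →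
      Nat.card ↥(Y ⊓ Q₁ ⊓ Ks) ^ Nat.card K₀ * Nat.card Y =
        Nat.card ↥(Y ⊓ Ks) ^ Nat.card K₀ * Nat.card ↥(Y ⊓ Q₁))
    (hdisj : Ks ⊓ Q₁ = ⊥) (hcard : Nat.card Q = Nat.card Q₁ * Nat.card Ks ^ Nat.card K) :
    ∀ N : Subgroup G, P N → Q₁ ≤ N → N ≤ Q → N = Q₁ ∨ N = Q := by
  classical
  intro N hPN hQ₁N hNQ
  have h := hcnt N K hNQ hPN le_rfl hK1
  have e3 : N ⊓ Q₁ = Q₁ := inf_eq_right.mpr hQ₁N
  have e1 : N ⊓ Q₁ ⊓ Ks = ⊥ := by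
    rw [e3, inf_comm]; exact hdisj
  rw [e1, e3, Subgroup.card_bot, one_pow, one_mul] at h
  have hdvd : Nat.card ↥(N ⊓ Ks) ∣ Nat.card Ks := Subgroup.card_dvd_of_le inf_le_right
  rcases (Nat.dvd_prime hq).mp hdvd with h1 | h1
  · left
    rw [h1, one_pow, one_mul] at h
    exact (Subgroup.eq_of_le_of_card_ge hQ₁N h.le).symm
  · right
    rw [h1] at h
    apply Subgroup.eq_of_le_of_card_ge hNQ
    rw [hcard, h, mul_comm]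

end Cfsg.Agent.Helper34
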