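import Mathlib
import Cfsg.Prelude.Def_OddOrderLocal

set_option autoImplicit false

namespace Cfsg.Agent.Helper34

open Cfsg Subgroup

universe u

variable {G : Type u} [Group G] [Finite G]

/-- FR (pure). -/
theorem bg15b_frat {Q Q₁ : Subgroup G} {q : ℕ} (hq : q.Prime) (hQq : IsPGroup q Q)
    (hQ₁Q : Q₁ ≤ Q) (hne : Q₁ ≠ Q)
    (hdich : ∀ N : Subgroup G, (∀ g : G, g ∈ normalizer (Q : Set G) →
      g ∈ normalizer (Q₁ : Set G) → g ∈ normalizer (N : Set G)) → Q₁ ≤ N → N ≤ Q →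
      N = Q₁ ∨ N = Q) :
    ∀ a ∈ Q, ∀ b ∈ Q, a ^ q ∈ Q₁ ∧ a * b * a⁻¹ * b⁻¹ ∈ Q₁ := by
  classical
  have hfq := Fact.mk hq
  obtain ⟨S, hS⟩ : ∃ S : Set G, S = {x | ∃ a ∈ Q, x = a ^ q} ∪
      {x | ∃ a ∈ Q, ∃ b ∈ Q, x = a * b * a⁻¹ * b⁻¹} := ⟨_, rfl⟩
  have hSQ : S ⊆ (Q : Set G) := by
    rw [hS]
    rintro x (⟨a, ha, rfl⟩ | ⟨a, ha, b, hb, rfl⟩)
    · exact Q.pow_mem ha q
    · exact Q.mul_mem (Q.mul_mem (Q.mul_mem ha hb) (Q.inv_mem ha)) (Q.inv_mem hb)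
  have hYQ : closure S ≤ Q := (closure_le Q).mpr hSQ
  have hconjQ : ∀ g : G, g ∈ normalizer (Q : Set G) → ∀ a ∈ Q, g * a * g⁻¹ ∈ Q := by
    intro g hg a ha
    exact (mem_normalizer_iff.mp hg a).mp ha
  have hSconj : ∀ g : G, g ∈ normalizer (Q : Set G) → ∀ x ∈ S, g * x * g⁻¹ ∈ S := by
    intro g hg x hx
    rw [hS] at hx ⊢
    rcases hx with ⟨a, ha, rfl⟩ | ⟨a, ha, b, hb, rfl⟩
    · left
      refine ⟨g * a * g⁻¹, hconjQ g hg a ha, ?_⟩
      rw [conj_pow]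
    · right
      refine ⟨g * a * g⁻¹, hconjQ g hg a ha, g * b * g⁻¹, hconjQ g hg b hb, ?_⟩
      group
  have hYconj : ∀ g : G, g ∈ normalizer (Q : Set G) → ∀ y ∈ closure S,
      g * y * g⁻¹ ∈ closure S := by
    intro g hg y hy
    have hle : closure S ≤ (closure S).comap (MulAut.conj g).toMonoidHom :=
      (closure_le _).mpr (fun x hx => show g * x * g⁻¹ ∈ closure S from
        subset_closure (hSconj g hg x hx))
    exact hle hy
  obtain ⟨N, hN⟩ : ∃ N : Subgroup G, N = Q₁ ⊔ closure S := ⟨_, rfl⟩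
  have hNQ : N ≤ Q := by rw [hN]; exact sup_le hQ₁Q hYQ
  have hQ₁N : Q₁ ≤ N := by rw [hN]; exact le_sup_left
  have hYN : closure S ≤ N := by rw [hN]; exact le_sup_right
  have hNconj : ∀ g : G, g ∈ normalizer (Q : Set G) → g ∈ normalizer (Q₁ : Set G) →
      ∀ y ∈ N, g * y * g⁻¹ ∈ N := by
    intro g hgQ hgQ₁ y hy
    have hle : N ≤ N.comap (MulAut.conj g).toMonoidHom := by
      conv_lhs => rw [hN]
      refine sup_le ?_ ?_
      · intro x hx
        show g * x * g⁻¹ ∈ N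
        exact hQ₁N ((mem_normalizer_iff.mp hgQ₁ x).mp hx)
      · intro x hx
        show g * x * g⁻¹ ∈ N
        exact hYN (hYconj g hgQ x hx)
    exact hle hy
  have hNnorm : ∀ g : G, g ∈ normalizer (Q : Set G) → g ∈ normalizer (Q₁ : Set G) →
      g ∈ normalizer (N : Set G) := by
    intro g hgQ hgQ₁
    rw [mem_normalizer_iff]
    intro h
    constructor
    · exact hNconj g hgQ hgQ₁ h
    · intro hh
      have h1 := hNconj g⁻¹ (inv_mem hgQ) (inv_mem hgQ₁) _ hh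
      have h2 : g⁻¹ * (g * h * g⁻¹) * g⁻¹⁻¹ = h := by group
      rw [h2] at h1
      exact h1
  rcases hdich N hNnorm hQ₁N hNQ with hN1 | hN2
  · have hYQ₁ : closure S ≤ Q₁ := by rw [← hN1]; exact hYN
    intro a ha b hb
    refine ⟨hYQ₁ (subset_closure ?_), hYQ₁ (subset_closure ?_)⟩
    · rw [hS]; exact Or.inl ⟨a, ha, rfl⟩
    · rw [hS]; exact Or.inr ⟨a, ha, b, hb, rfl⟩
  · exfalso
    obtain ⟨n, hn⟩ := IsPGroup.iff_card.mp hQq
    have hQ₁q : IsPGroup q (Q₁.subgroupOf Q) := hQq.to_subgroup _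
    obtain ⟨k, hk⟩ := IsPGroup.iff_card.mp hQ₁q
    have hQ₁top : Q₁.subgroupOf Q ≠ ⊤ := by
      intro h
      rw [Subgroup.subgroupOf_eq_top] at h
      exact hne (le_antisymm hQ₁Q h)
    have hlt : Nat.card (Q₁.subgroupOf Q) < Nat.card Q := by
      refine lt_of_le_of_ne (Subgroup.card_le_card_group _) ?_
      intro h
      exact hQ₁top ((Subgroup.card_eq_iff_eq_top _).mp h)
    rw [hk, hn] at hlt
    have hkn : k < n := (Nat.pow_lt_pow_iff_right hq.one_lt).mp hlt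
    obtain ⟨Q₂, hQ₂card, hQ₁Q₂⟩ := Sylow.exists_subgroup_card_pow_prime_le q (n := k)
      (m := n - 1) (by rw [hn]; exact pow_dvd_pow q (Nat.sub_le n 1)) (Q₁.subgroupOf Q) hk
      (by omega)
    have hidx : Q₂.index = q := by
      have h := Q₂.card_mul_index
      rw [hQ₂card, hn] at h
      have h' : q ^ (n - 1) * Q₂.index = q ^ (n - 1) * q := by
        rw [h, ← pow_succ]
        congr 1
        omega
      exact Nat.eq_of_mul_eq_mul_left (pow_pos hq.pos _) h'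
    have hQ₂n : Q₂.Normal := by
      apply Subgroup.normal_of_index_eq_minFac_card
      rw [hidx, hn, Nat.Prime.pow_minFac hq (by omega)]
    have hquot : Nat.card (↥Q ⧸ Q₂) = q := by
      rw [← Subgroup.index_eq_card]; exact hidx
    have hcyc : IsCyclic (↥Q ⧸ Q₂) := isCyclic_of_prime_card hquot
    have hcomm : ∀ x y : ↥Q ⧸ Q₂, x * y = y * x := by
      intro x y
      letI := IsCyclic.commGroup (α := ↥Q ⧸ Q₂)
      exact mul_comm x y
    have hSQ₂ : S ⊆ ((Q₂.map Q.subtype : Subgroup G) : Set G) := by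
      rw [hS]
      rintro x (⟨a, ha, rfl⟩ | ⟨a, ha, b, hb, rfl⟩)
      · refine ⟨(⟨a, ha⟩ : ↥Q) ^ q, ?_, rfl⟩
        rw [SetLike.mem_coe, ← QuotientGroup.eq_one_iff, QuotientGroup.mk_pow]
        conv_lhs => rw [← hquot]
        exact pow_card_eq_one'
      · refine ⟨(⟨a, ha⟩ : ↥Q) * ⟨b, hb⟩ * (⟨a, ha⟩ : ↥Q)⁻¹ * (⟨b, hb⟩ : ↥Q)⁻¹, ?_, rfl⟩
        rw [SetLike.mem_coe, ← QuotientGroup.eq_one_iff]
        simp only [QuotientGroup.mk_mul, QuotientGroup.mk_inv]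
        rw [hcomm (↑(⟨a, ha⟩ : ↥Q)) (↑(⟨b, hb⟩ : ↥Q))]
        group
    have hNQ₂ : N ≤ Q₂.map Q.subtype := by
      rw [hN]
      refine sup_le ?_ ((closure_le _).mpr hSQ₂)
      intro x hx
      exact ⟨⟨x, hQ₁Q hx⟩, hQ₁Q₂ (Subgroup.mem_subgroupOf.mpr hx), rfl⟩
    have hQ₂top : Q₂ = ⊤ := by
      rw [eq_top_iff]
      rintro x -
      have hx : (x : G) ∈ Q₂.map Q.subtype := hNQ₂ (hN2 ▸ x.2)
      obtain ⟨y, hy, hyx⟩ := hx
      have : y = x := Subtype.ext hyx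
      rw [← this]
      exact hy
    rw [hQ₂top, Subgroup.index_top] at hidx
    exact hq.one_lt.ne hidx

end Cfsg.Agent.Helper34
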