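import Mathlib
import Cfsg.Agent.S1372
import Cfsg.Agent.Helper1.BGUniqA

set_option autoImplicit false

namespace Cfsg.Agent.Helper34

open Cfsg Subgroup

universe u

variable {G : Type u} [Group G] [Finite G]

/-- TIA1. `M_σ` meets none of its conjugates by `g ∉ M` (for `K ≠ 1`, `U ≠ 1`). -/
theorem bg38_TI_sigma (hG : IsMinSimpleOddOrder G) {M K U : Subgroup G} (hM : IsCoatom M)
    (hKU : IsSigmaDecomposition M K U) (hK1 : K ≠ ⊥) (hU1 : U ≠ ⊥)
    (hnorm : ∀ {X : Set G}, X ⊆ (M : Set G) → (∀ m ∈ M, ∀ x ∈ X, m * x * m⁻¹ ∈ X) →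
      (∃ x ∈ X, x ≠ 1) → normalizer X = M)
    {g a : G} (hg : g ∉ M) (ha : a ∈ sigmaCore M) (ha1 : a ≠ 1)
    (hga : g * a * g⁻¹ ∈ sigmaCore M) : False := by
  obtain ⟨-, hTI, hσF⟩ := Cfsg.Agent.S1372.result hG M hM K U hKU hK1 hU1
  have hFM : fittingOf M ≤ M := Cfsg.Agent.Helper1.bgu_fittingOf_le M
  have hFn : M ≤ normalizer (fittingOf M : Set G) :=
    Cfsg.Agent.Helper1.bgu_le_normalizer_fittingOf M
  have hN : normalizer ((fittingOf M : Subgroup G) : Set G) = M := by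
    apply hnorm (X := (fittingOf M : Set G))
    · exact hFM
    · intro m hm x hx
      exact ((Subgroup.mem_normalizer_iff).mp (hFn hm) x).mp hx
    · exact ⟨a, hσF ha, ha1⟩
  have hgN : g ∉ normalizer ((fittingOf M : Subgroup G) : Set G) := by rw [hN]; exact hg
  exact ha1 (hTI g hgN a (hσF ha) (hσF hga))

end Cfsg.Agent.Helper34
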