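import Mathlib
import Cfsg.Agent.S1362
import Cfsg.Agent.S1365
import Cfsg.Agent.Helper23.Trans
import Cfsg.Agent.Helper51.BG56DNORM

set_option autoImplicit false

namespace Cfsg.Agent.Helper34

open Cfsg Subgroup

universe u

variable {G : Type u} [Group G] [Finite G]

/-- TIA2. Row S1362: `T := sigmaA M U \ M_σ` is a TI-subset. -/
theorem bg38_TI_off (hG : IsMinSimpleOddOrder G) {M K U : Subgroup G} (hM : IsCoatom M)
    (hKU : IsSigmaDecomposition M K U) (hK1 : K ≠ ⊥)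
    (hnorm : ∀ {X : Set G}, X ⊆ (M : Set G) → (∀ m ∈ M, ∀ x ∈ X, m * x * m⁻¹ ∈ X) →
      (∃ x ∈ X, x ≠ 1) → normalizer X = M)
    {g a : G} (hg : g ∉ M) (ha : a ∈ ⁅M, M⁆) (haσ : a ∉ sigmaCore M)
    (hax : ∃ x ∈ sigmaCore M, x ≠ 1 ∧ a * x = x * a) (hga : g * a * g⁻¹ ∈ ⁅M, M⁆)
    (hgaσ : g * a * g⁻¹ ∉ sigmaCore M)
    (hgax : ∃ x ∈ sigmaCore M, x ≠ 1 ∧ g * a * g⁻¹ * x = x * (g * a * g⁻¹)) : False := by
  have hTI := Cfsg.Agent.S1362.result hG M hM K U hKU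
  have hder : ⁅M, M⁆ = U ⊔ sigmaCore M := (Cfsg.Agent.S1365.result hG M hM K U hKU hK1).1
  obtain ⟨hDM, hDn, -, -⟩ := Cfsg.Agent.Helper51.bg56_der_norm M
  have hσn : M ≤ normalizer (sigmaCore M : Set G) :=
    Cfsg.Agent.Helper23.le_normalizer_piCoreOf (sigma M) M
  have hmemT : ∀ b : G, b ∈ ⁅M, M⁆ → b ∉ sigmaCore M →
      (∃ x ∈ sigmaCore M, x ≠ 1 ∧ b * x = x * b) →
      b ∈ sigmaA M U \ (sigmaCore M : Set G) := by
    intro b hb hbσ hbx
    refine ⟨⟨⟨hDM hb, hbx⟩, ?_⟩, hbσ⟩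
    rw [← hder]; exact hb
  have haT := hmemT a ha haσ hax
  have hgaT := hmemT _ hga hgaσ hgax
  have hN : normalizer (sigmaA M U \ (sigmaCore M : Set G)) = M := by
    apply hnorm
    · rintro b ⟨⟨⟨hbM, -⟩, -⟩, -⟩
      exact hbM
    · rintro m hm b ⟨⟨⟨hbM, y, hy, hy1, hby⟩, hbD⟩, hbσ⟩
      refine ⟨⟨⟨M.mul_mem (M.mul_mem hm hbM) (M.inv_mem hm), m * y * m⁻¹, ?_, ?_, ?_⟩, ?_⟩, ?_⟩
      · exact ((Subgroup.mem_normalizer_iff).mp (hσn hm) y).mp hy
      · intro h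
        apply hy1
        have h0 : y = m⁻¹ * (m * y * m⁻¹) * m := by group
        rw [h0, h]
        group
      · have h0 : m * b * m⁻¹ * (m * y * m⁻¹) = m * (b * y) * m⁻¹ := by group
        rw [h0, hby]
        group
      · have hb' : b ∈ ⁅M, M⁆ := by rw [hder]; exact hbD
        have h0 := ((Subgroup.mem_normalizer_iff).mp (hDn hm) b).mp hb'
        rw [hder] at h0
        exact h0
      · intro h
        apply hbσ
        exact ((Subgroup.mem_normalizer_iff).mp (hσn hm) b).mpr h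
    · refine ⟨a, haT, ?_⟩
      rintro rfl
      exact haσ (one_mem _)
  have hgN : g ∉ normalizer (sigmaA M U \ (sigmaCore M : Set G)) := by rw [hN]; exact hg
  have h1 := hTI g hgN a haT hgaT
  exact haσ (h1 ▸ one_mem _)

end Cfsg.Agent.Helper34
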