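import Mathlib
import Cfsg.Agent.Helper20.BG16cSZ
import Cfsg.Agent.Helper23.Uniq
import Cfsg.Agent.Helper35.Coprime
import Cfsg.Agent.Helper47.BG17WC
import Cfsg.Agent.Helper51.BG56DNORM
import Cfsg.Agent.Helper62.BG72B
import Cfsg.Agent.Helper74.BG17KH
import Cfsg.Agent.Helper91.BG17WZ

set_option autoImplicit false

namespace Cfsg.Agent.Helper34

open Cfsg Subgroup

universe u

variable {G : Type u} [Group G] [Finite G]

/-- WCONJ. Every type-P datum `(W₁, W₂)` of `M` is an `M`-conjugate of `(K, K*)`. -/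
theorem bg38_W_conj (hG : IsMinSimpleOddOrder G) {M K U : Subgroup G} (hM : IsCoatom M)
    (hKU : IsSigmaDecomposition M K U) (hK1 : K ≠ ⊥) {W₁ U' W₂ : Subgroup G}
    (hP : IsTypePWith M W₁ U' W₂)
    (hcc : ∀ {N : Subgroup G} {n k : G}, n ∈ normalizer (N : Set G) →
      N ⊓ centralizer ({n * k * n⁻¹} : Set G) =
        (N ⊓ centralizer ({k} : Set G)).map (MulAut.conj n).toMonoidHom) :
    ∃ n ∈ M, W₁ = K.map (MulAut.conj n).toMonoidHom ∧
      W₂ = (sigmaCore M ⊓ centralizer (K : Set G)).map (MulAut.conj n).toMonoidHom := by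
  have hA : IsComplIn ⁅M, M⁆ K M := Cfsg.Agent.Helper47.bg17_W1_compl hG hM hKU hK1
  have hB : IsComplIn ⁅M, M⁆ W₁ M := hP.W₁_compl
  obtain ⟨hDM, hDn, -, -⟩ := Cfsg.Agent.Helper51.bg56_der_norm M
  have hKM : K ≤ M := hKU.hall.1
  have hAN : K ≤ normalizer ((⁅M, M⁆ : Subgroup G) : Set G) := hKM.trans hDn
  have hcop : (Nat.card K).Coprime (Nat.card ↥⁅M, M⁆) := by
    have h1 := Cfsg.Agent.Helper74.bg17_K_hall hKU.hall
    have h2 := Cfsg.Agent.Helper62.bg72_card_compl hA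
    have h3 : K.relIndex M * Nat.card K = Nat.card M := by
      have h0 := Subgroup.card_mul_index (K.subgroupOf M)
      rw [Nat.card_congr (Subgroup.subgroupOfEquivOfLe hKM).toEquiv] at h0
      rw [mul_comm]
      exact h0
    have h4 : Nat.card ↥⁅M, M⁆ = K.relIndex M := by
      have hKpos : 0 < Nat.card K := Nat.card_pos
      have h0 : Nat.card ↥⁅M, M⁆ * Nat.card K = K.relIndex M * Nat.card K := by rw [← h2, h3]
      exact Nat.eq_of_mul_eq_mul_right hKpos h0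
    rw [h4]
    exact h1
  have hsolv : Group.IsSolvable ↥⁅M, M⁆ :=
    Cfsg.Agent.Helper35.isSolvable_of_le hDM (Cfsg.Agent.Helper23.uq_isSolvable hG hM.1)
  obtain ⟨n, hn, hW₁⟩ := Cfsg.Agent.Helper20.bg16c_compl_conj hA hB hAN hcop hsolv
  refine ⟨n, hDM hn, hW₁, ?_⟩
  obtain ⟨⟨k, hk⟩, hk1'⟩ := (Subgroup.ne_bot_iff_exists_ne_one).mp hK1
  have hk1 : k ≠ 1 := fun h => hk1' (Subtype.ext h)
  have hnk : n * k * n⁻¹ ∈ W₁ := by
    rw [hW₁]
    exact ⟨k, hk, rfl⟩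
  have hnk1 : n * k * n⁻¹ ≠ 1 := by
    intro h
    apply hk1
    have h0 : k = n⁻¹ * (n * k * n⁻¹) * n := by group
    rw [h0, h]
    group
  have h5 := hP.W₂_centralizer (n * k * n⁻¹) hnk hnk1
  have hnN : n ∈ normalizer ((⁅M, M⁆ : Subgroup G) : Set G) := hDn (hDM hn)
  rw [← h5, hcc hnN, Cfsg.Agent.Helper91.bg17_W2_cent hG hM hKU hK1 k hk hk1]

end Cfsg.Agent.Helper34
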