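/-
helper34: CALL S1351C piece MP (double).
-/
import Cfsg.Agent.Helper49.BGCDefs2
import Cfsg.Agent.S1426

set_option autoImplicit false

namespace Cfsg.Agent.Helper34

open Cfsg Subgroup Cfsg.Agent.Helper49

universe u

variable {G : Type u} [Group G] [Finite G]

/-- MP. `M_σ` is not contained in `W`. -/
theorem starc_proper_M (hG : IsMinSimpleOddOrder G) {M E P : Subgroup G} {p : ℕ}
    (c : StarCtx M E P p)
    (hmem : ∀ w : G, w ∈ starW M E ↔ ∃ z ∈ starZ M E, ∃ e ∈ E, w = z * e)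
    (hZne : starZ M E ≠ ⊥) : ¬ sigmaCore M ≤ starW M E := by
  intro hle
  have hZσ : starZ M E ≤ sigmaCore M := inf_le_left
  have hZC : starZ M E ≤ centralizer (E : Set G) := inf_le_right
  -- `M_σ ≤ Z`
  have h1 : sigmaCore M ≤ starZ M E := by
    intro d hd
    obtain ⟨z, hz, e, he, rfl⟩ := (hmem d).mp (hle hd)
    have he2 : e ∈ sigmaCore M := by
      have h : e = z⁻¹ * (z * e) := by group
      rw [h]
      exact Subgroup.mul_mem _ (Subgroup.inv_mem _ (hZσ hz)) hd
    have he1 : e = 1 := by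
      have h : e ∈ E ⊓ sigmaCore M := ⟨he, he2⟩
      rw [c.compl.2.2.1, Subgroup.mem_bot] at h
      exact h
    rw [he1, mul_one]
    exact hz
  -- so `[M_σ, E] = 1`
  have h2 : ⁅sigmaCore M, E⁆ = ⊥ := by
    rw [Subgroup.commutator_eq_bot_iff_le_centralizer]
    exact h1.trans hZC
  have h3 := (Cfsg.Agent.S1426.result hG M c.coatom E c.compl).2.1
  rw [h2] at h3
  apply hZne
  rw [eq_bot_iff, h3]
  exact hZσ

end Cfsg.Agent.Helper34
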