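/-
helper34: CALL S1351C piece MS (double).
-/
import Cfsg.Agent.Helper49.BGCDefs2
import Cfsg.Agent.Helper23.Trans

set_option autoImplicit false

namespace Cfsg.Agent.Helper34

open Cfsg Subgroup Cfsg.Agent.Helper49

universe u

variable {G : Type u} [Group G] [Finite G]

/-- MS. `M = M_σ W`. -/
theorem starc_sup_M {M E P : Subgroup G} {p : ℕ} (c : StarCtx M E P p) :
    ∀ m ∈ M, ∃ n ∈ sigmaCore M, ∃ w ∈ starW M E, m = n * w := by
  intro m hm
  obtain ⟨a, ha, b, hb, rfl⟩ := c.compl.2.2.2 m hm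
  have haM : a ∈ M := c.compl.1 ha
  have hN : M ≤ normalizer (sigmaCore M : Set G) :=
    Cfsg.Agent.Helper23.le_normalizer_piCoreOf (sigma M) M
  have h1 : a * b * a⁻¹ ∈ sigmaCore M := (Subgroup.mem_normalizer_iff.mp (hN haM) b).mp hb
  refine ⟨a * b * a⁻¹, h1, a, Subgroup.mem_sup_right ha, ?_⟩
  group

end Cfsg.Agent.Helper34
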