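/-
helper34: CALL S1351C piece PM (double).
-/
import Cfsg.Agent.Helper49.BGCDefs2
import Cfsg.Agent.Helper23.Trans

set_option autoImplicit false

namespace Cfsg.Agent.Helper34

open Cfsg Subgroup Cfsg.Agent.Helper49

universe u

variable {G : Type u} [Group G] [Finite G]

/-- PM. A prime of `|W|` is in `σ(M)` or is the order of a subgroup of `E`. -/
theorem starc_prime_mem {M E P : Subgroup G} {p : ℕ} (c : StarCtx M E P p)
    (hmem : ∀ w : G, w ∈ starW M E ↔ ∃ z ∈ starZ M E, ∃ e ∈ E, w = z * e) :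
    ∀ q : ℕ, q.Prime → q ∣ Nat.card (starW M E) →
      q ∈ sigma M ∨ ∃ Y : Subgroup G, Y ≤ E ∧ Nat.card Y = q := by
  intro q hq hdvd
  have hZσ : starZ M E ≤ sigmaCore M := inf_le_left
  have hZC : starZ M E ≤ centralizer (E : Set G) := inf_le_right
  -- the multiplication map `Z × E → W` is a surjective homomorphism
  have hcomm : ∀ z ∈ starZ M E, ∀ e ∈ E, e * z = z * e := fun z hz e he =>
    Subgroup.mem_centralizer_iff.mp (hZC hz) e he
  let f : ↥(starZ M E) × ↥E →* ↥(starW M E) :=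
    { toFun := fun x => ⟨x.1.1 * x.2.1, (hmem _).mpr ⟨x.1.1, x.1.2, x.2.1, x.2.2, rfl⟩⟩
      map_one' := by
        apply Subtype.ext
        simp
      map_mul' := by
        rintro ⟨⟨z, hz⟩, ⟨e, he⟩⟩ ⟨⟨z', hz'⟩, ⟨e', he'⟩⟩
        apply Subtype.ext
        show z * z' * (e * e') = z * e * (z' * e')
        have h := hcomm z' hz' e he
        calc z * z' * (e * e') = z * (z' * e) * e' := by group
          _ = z * (e * z') * e' := by rw [h]
          _ = z * e * (z' * e') := by group }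
  have hf : Function.Surjective f := by
    rintro ⟨w, hw⟩
    obtain ⟨z, hz, e, he, rfl⟩ := (hmem w).mp hw
    exact ⟨(⟨z, hz⟩, ⟨e, he⟩), rfl⟩
  have hd : Nat.card ↥(starW M E) ∣ Nat.card (↥(starZ M E) × ↥E) :=
    Subgroup.card_dvd_of_surjective f hf
  rw [Nat.card_prod] at hd
  rcases (hq.dvd_mul).mp (hdvd.trans hd) with h | h
  · left
    have h1 : q ∣ Nat.card (sigmaCore M) := h.trans (Subgroup.card_dvd_of_le hZσ)
    exact Cfsg.Agent.Helper23.mem_of_dvd_card_piCoreOf (sigma M) M hq h1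
  · right
    have := Fact.mk hq
    obtain ⟨x, hx⟩ := exists_prime_orderOf_dvd_card' q h
    refine ⟨(Subgroup.zpowers x).map E.subtype, Subgroup.map_subtype_le _, ?_⟩
    rw [Subgroup.card_map_of_injective E.subtype_injective, Nat.card_zpowers, hx]

end Cfsg.Agent.Helper34
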