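/-
helper34: CALL BGP piece CE.
-/
import Cfsg.Agent.Helper23.BG14U1
import Cfsg.Agent.Helper35.Coprime

set_option autoImplicit false

namespace Cfsg.Agent.Helper34

open Cfsg Subgroup

universe u

variable {G : Type u} [Group G] [Finite G]

/-- CE. Centralizers of elements of `Ks` in a complement `E ⊇ Ks` of `M*_σ` lie in `Ks`. -/
theorem bgp_cent_compl {M Mstar K Ks E : Subgroup G} (hinter : M ⊓ Mstar = K ⊔ Ks)
    (hKsC : Ks ≤ centralizer (K : Set G)) (hKσ : K ≤ sigmaCore Mstar)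
    (hE : IsComplIn E (sigmaCore Mstar) Mstar) (hKsE : Ks ≤ E)
    (hu : ∀ y ∈ Ks, y ≠ 1 → centralizer ({y} : Set G) ≤ M) :
    ∀ y ∈ Ks, y ≠ 1 → E ⊓ centralizer ({y} : Set G) ≤ Ks := by
  intro y hy hy1 c hc
  obtain ⟨hcE, hcC⟩ := hc
  have hcM : c ∈ M := hu y hy hy1 hcC
  have hcMs : c ∈ Mstar := hE.1 hcE
  have hc2 : c ∈ K ⊔ Ks := by
    rw [← hinter]
    exact ⟨hcM, hcMs⟩
  have hKsN : Ks ≤ normalizer (K : Set G) := hKsC.trans (Subgroup.centralizer_le_normalizer _)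
  obtain ⟨k, hk, s, hs, rfl⟩ :=
    Cfsg.Agent.Helper35.exists_mul_of_mem_sup_of_le_normalizer hKsN hc2
  have hkE : k ∈ E := by
    have h : k = k * s * s⁻¹ := by group
    rw [h]
    exact E.mul_mem hcE (E.inv_mem (hKsE hs))
  have hk1 : k = 1 := by
    have h : k ∈ E ⊓ sigmaCore Mstar := ⟨hkE, hKσ hk⟩
    rw [hE.2.2.1, Subgroup.mem_bot] at h
    exact h
  rw [hk1, one_mul]
  exact hs

end Cfsg.Agent.Helper34
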