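/-
helper34: CALL BGP piece K1.
-/
import Cfsg.Agent.Helper23.BG14U1
import Cfsg.Agent.Helper22.BG14Main
import Cfsg.Agent.Helper47.BG14RK

set_option autoImplicit false

namespace Cfsg.Agent.Helper34

open Cfsg Subgroup

universe u

variable {G : Type u} [Group G] [Finite G]

/-- K1. `κ(M) = τ₁(M)` for a standard factorisation with `K ≠ 1`. -/
theorem bgp_kappa_eq_tau1 (hG : IsMinSimpleOddOrder G) {M K U : Subgroup G} (hM : IsCoatom M)
    (hKU : IsSigmaDecomposition M K U) (hK1 : K ≠ ⊥) : kappa M = tau1 M := by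
  obtain ⟨-, hcop, hprod, -, -, -⟩ := Cfsg.Agent.Helper23.bg14_pkg hG hM hKU hK1
  have hσp := Cfsg.Agent.Helper23.bg14_sigmaPart hG
  have hKM : K ≤ M := hKU.hall.1
  have hM'M : ⁅M, M⁆ ≤ M := by
    rw [Subgroup.commutator_le]
    intro a ha b hb
    rw [commutatorElement_def]
    exact M.mul_mem (M.mul_mem (M.mul_mem ha hb) (M.inv_mem ha)) (M.inv_mem hb)
  have hinf : ⁅M, M⁆ ⊓ K = ⊥ := (Subgroup.disjoint_of_coprime_natCard hcop.symm).eq_bot
  let f : ↥⁅M, M⁆ × ↥K → ↥M := fun x => ⟨x.1.1 * x.2.1, M.mul_mem (hM'M x.1.2) (hKM x.2.2)⟩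
  have hf : Function.Bijective f := by
    constructor
    · rintro ⟨⟨w, hw⟩, ⟨k, hk⟩⟩ ⟨⟨w', hw'⟩, ⟨k', hk'⟩⟩ h
      have h0 : w * k = w' * k' := congrArg Subtype.val h
      have h1 : w'⁻¹ * w = k' * k⁻¹ := by
        rw [inv_mul_eq_iff_eq_mul, ← mul_assoc, ← h0]
        group
      have h2 : w'⁻¹ * w ∈ ⁅M, M⁆ ⊓ K :=
        ⟨Subgroup.mul_mem _ (Subgroup.inv_mem _ hw') hw,
          h1 ▸ K.mul_mem hk' (K.inv_mem hk)⟩
      rw [hinf, Subgroup.mem_bot] at h2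
      have h3 : w = w' := by
        rw [inv_mul_eq_one] at h2
        exact h2.symm
      subst h3
      have h4 : k = k' := mul_left_cancel h0
      subst h4
      rfl
    · rintro ⟨m, hm⟩
      obtain ⟨w, hw, k, hk, rfl⟩ := hprod m hm
      exact ⟨(⟨w, hw⟩, ⟨k, hk⟩), rfl⟩
  have hcard : Nat.card M = Nat.card ↥⁅M, M⁆ * Nat.card K := by
    rw [← Nat.card_prod]
    exact (Nat.card_congr (Equiv.ofBijective f hf)).symm
  ext p
  constructor
  · intro hp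
    refine ⟨hp.1, hp.2.2.1, hp.2.1, ?_, Cfsg.Agent.Helper47.bg14_rank_of_kappa hp⟩
    intro hdvd
    exact Cfsg.Agent.Helper22.bg14_kappa_not_tau3 hG hσp hM hKU.cyclic hKU.hall hp
      ⟨hp.1, hp.2.2.1, hdvd, Cfsg.Agent.Helper47.bg14_rank_of_kappa hp⟩
  · rintro ⟨hpp, hns, hdM, hndM', hrk⟩
    have hpK : p ∣ Nat.card K := by
      rw [hcard] at hdM
      exact (hpp.dvd_mul.mp hdM).resolve_left hndM'
    exact hKU.hall.2.1 p hpp hpK

end Cfsg.Agent.Helper34
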