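/-
Helper library of seat helper34: Bender's theorem for primitive pairs.
If `M ≠ N` are subgroups of a finite group with `F*(M) ≤ N`, `F*(N) ≤ M` such that
`N_N(A) ≤ M` for every nontrivial `A ≤ M ∩ N` normal in `M`, and symmetrically, then for one
prime `p` both `F*(M) ≤ O_p(M)` and `F*(N) ≤ O_p(N)` (`bender_pair`).
-/
import Mathlib
import Cfsg.Agent.Helper34.Bender1

set_option autoImplicit false

namespace Cfsg.Agent.Helper34

open Cfsg Subgroup
open scoped commutatorElement

section BenderPair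

variable {G : Type*} [Group G]

theorem eq_bot_of_generalizedFittingSubgroup_eq_bot [Finite G] {M : Subgroup G}
    (h : generalizedFittingSubgroup ↥M = ⊥) : M = ⊥ := by
  have hc := Helper22.centralizer_generalizedFittingSubgroup_le ↥M
  rw [h] at hc
  rw [eq_bot_iff]
  intro n hn
  have h0 : (⟨n, hn⟩ : ↥M) ∈ centralizer (((⊥ : Subgroup ↥M) : Subgroup ↥M) : Set ↥M) := by
    rw [mem_centralizer_iff]
    intro z hz
    have hz1 : z = 1 := Subgroup.mem_bot.mp hz
    rw [hz1, one_mul, mul_one]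
  have h3 := hc h0
  rw [Subgroup.mem_bot] at h3 ⊢
  exact congrArg Subtype.val h3

/-- Variant of `pRegCentGen_le_of` where only the elements of `M` centralizing `O_p(N)` are
required to lie in `N`. -/
theorem pRegCentGen_le_of' [Finite G] (p : ℕ) [Fact p.Prime] {M N : Subgroup G}
    (hFM : (fittingSubgroup ↥M).map M.subtype ≤ N) (hFN : (fittingSubgroup ↥N).map N.subtype ≤ M)
    (hE : layer ↥M = ⊥)
    (hNN : ∀ g ∈ M, (∀ y ∈ (pCore p ↥N).map N.subtype, g * y = y * g) → g ∈ N) :
    pRegCentGen p M ≤ pRegCentGen p N := by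
  unfold pRegCentGen
  rw [Subgroup.map_le_iff_le_comap, closure_le]
  rintro g ⟨hgc, hgo⟩
  rw [SetLike.mem_coe, mem_comap]
  have hcomm : ∀ y ∈ (pCore p ↥N).map N.subtype, (g : G) * y = y * (g : G) := by
    intro y hy
    have hyM : y ∈ M := hFN (Subgroup.map_mono (pCore_le_fittingSubgroup p ↥N) hy)
    obtain ⟨z, hz, hzy⟩ := hy
    obtain ⟨k, hk⟩ := (Helper22.pCore_isPGroup p ↥N) ⟨z, hz⟩
    have hzk : (z : ↥N) ^ p ^ k = 1 := by
      have := congrArg Subtype.val hk
      simpa using this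
    have hyk : y ^ p ^ k = 1 := by
      rw [← hzy]
      have := congrArg Subtype.val hzk
      simpa using this
    have h := commute_of_pElement_of_centralizes p hE ⟨y, hyM⟩ k (Subtype.ext (by simpa using hyk))
      (centralizes_pPrime_of_mem_pCore p hFM ⟨y, hyM⟩ ⟨z, hz, hzy⟩) g hgc hgo
    exact (congrArg Subtype.val h).symm
  have hgN : (g : G) ∈ N := hNN _ g.2 hcomm
  refine ⟨⟨(g : G), hgN⟩, Subgroup.subset_closure ⟨?_, ?_⟩, rfl⟩
  · rw [mem_centralizer_iff]
    intro z hz
    apply Subtype.ext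
    exact (hcomm _ ⟨z, hz, rfl⟩).symm
  · rw [Subgroup.orderOf_mk, Subgroup.orderOf_coe]; exact hgo

theorem fstar_le_pCore_of_pRegCentGen_eq_bot [Finite G] (p : ℕ) [Fact p.Prime] {M : Subgroup G}
    (hE : layer ↥M = ⊥) (hX : pRegCentGen p M = ⊥) :
    generalizedFittingSubgroup ↥M ≤ pCore p ↥M := by
  have hcl : closure {g : ↥M | g ∈ centralizer (pCore p ↥M : Set ↥M) ∧ (orderOf g).Coprime p} = ⊥ :=
    (map_eq_bot_iff_of_injective _ M.subtype_injective).mp hX
  have hR : pPrimeCore p ↥M ⊓ fittingSubgroup ↥M = ⊥ := by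
    rw [eq_bot_iff]
    intro r hr
    rw [← hcl]
    apply Subgroup.subset_closure
    refine ⟨?_, ?_⟩
    · rw [mem_centralizer_iff]
      intro a ha
      exact (Helper54.commute_of_normal_coprime (Cfsg.pPrimeCore_normal p ↥M)
        (Cfsg.pCore_normal p ↥M) (Helper22.pCore_isPGroup p ↥M)
        (Helper22.card_pPrimeCore_coprime p ↥M) hr.1 ha).eq.symm
    · exact Nat.Coprime.coprime_dvd_left (Subgroup.orderOf_dvd_natCard _ hr.1)
        (Helper22.card_pPrimeCore_coprime p ↥M)
  have hF : fittingSubgroup ↥M ≤ pCore p ↥M := by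
    have := fittingSubgroup_le_pCore_sup p ↥M
    rwa [hR, sup_bot_eq] at this
  unfold generalizedFittingSubgroup
  rw [hE, bot_sup_eq]; exact hF

/-- **Bender's theorem for pairs of subgroups.** -/
theorem bender_pair [Finite G] (M N : Subgroup G) (hne : M ≠ N)
    (hcM : ∀ A : Subgroup G, A ≠ ⊥ → A ≤ M ⊓ N → M ≤ normalizer (A : Set G) →
      N ⊓ normalizer (A : Set G) ≤ M)
    (hcN : ∀ A : Subgroup G, A ≠ ⊥ → A ≤ M ⊓ N → N ≤ normalizer (A : Set G) →
      M ⊓ normalizer (A : Set G) ≤ N)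
    (h1 : (generalizedFittingSubgroup ↥M).map M.subtype ≤ N)
    (h2 : (generalizedFittingSubgroup ↥N).map N.subtype ≤ M) :
    ∃ p : ℕ, p.Prime ∧ generalizedFittingSubgroup ↥M ≤ pCore p ↥M ∧
      generalizedFittingSubgroup ↥N ≤ pCore p ↥N := by
  classical
  have key : ∀ X : Subgroup G, X ≤ M ⊓ N → M ≤ normalizer (X : Set G) →
      N ≤ normalizer (X : Set G) → X = ⊥ := by
    intro X hX hn1 hn2
    by_contra hX0
    have e1 : N ≤ M := by
      have := hcM X hX0 hX hn1
      rwa [inf_eq_left.mpr hn2] at this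
    have e2 : M ≤ N := by
      have := hcN X hX0 hX hn2
      rwa [inf_eq_left.mpr hn1] at this
    exact hne (le_antisymm e2 e1)
  -- the layers are trivial
  have hEeq : (layer ↥M).map M.subtype = (layer ↥N).map N.subtype :=
    le_antisymm (layer_map_le_of_fstar_le h1 h2) (layer_map_le_of_fstar_le h2 h1)
  have hcharM := Helper22.layer_characteristic ↥M
  have hcharN := Helper22.layer_characteristic ↥N
  have hEM : layer ↥M = ⊥ := by
    have h := key _ (le_inf (map_subtype_le _) (by rw [hEeq]; exact map_subtype_le _))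
      (le_normalizer.trans (Helper22.normalizer_le_normalizer_map_subtype M (layer ↥M)))
      (by
        rw [hEeq]
        exact le_normalizer.trans (Helper22.normalizer_le_normalizer_map_subtype N (layer ↥N)))
    exact (map_eq_bot_iff_of_injective _ M.subtype_injective).mp h
  have hEN : layer ↥N = ⊥ := by
    rw [hEM, Subgroup.map_bot] at hEeq
    exact (map_eq_bot_iff_of_injective _ N.subtype_injective).mp hEeq.symm
  have hFsM : generalizedFittingSubgroup ↥M = fittingSubgroup ↥M := by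
    unfold generalizedFittingSubgroup; rw [hEM, bot_sup_eq]
  have hFsN : generalizedFittingSubgroup ↥N = fittingSubgroup ↥N := by
    unfold generalizedFittingSubgroup; rw [hEN, bot_sup_eq]
  have hFM : (fittingSubgroup ↥M).map M.subtype ≤ N := by rw [← hFsM]; exact h1
  have hFN : (fittingSubgroup ↥N).map N.subtype ≤ M := by rw [← hFsN]; exact h2
  -- a prime `p` with `O_p(N) ≠ 1`
  obtain ⟨p, hpN⟩ : ∃ p : Nat.Primes, pCore (p : ℕ) ↥N ≠ ⊥ := by
    by_contra hno
    push Not at hno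
    have hF0 : fittingSubgroup ↥N = ⊥ := by
      rw [Helper22.fittingSubgroup_eq_iSup_pCore]
      simp [hno]
    have hNbot : N = ⊥ := eq_bot_of_generalizedFittingSubgroup_eq_bot (hFsN.trans hF0)
    have hMbot : M = ⊥ := by
      apply eq_bot_of_generalizedFittingSubgroup_eq_bot
      rw [hNbot] at h1
      exact (map_eq_bot_iff_of_injective _ M.subtype_injective).mp (le_bot_iff.mp h1)
    exact hne (hMbot.trans hNbot.symm)
  have hpF : Fact (p : ℕ).Prime := ⟨p.2⟩
  have hPN_le : (pCore (p : ℕ) ↥N).map N.subtype ≤ M ⊓ N :=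
    le_inf ((Subgroup.map_mono (pCore_le_fittingSubgroup (p : ℕ) ↥N)).trans hFN) (map_subtype_le _)
  have hPM_le : (pCore (p : ℕ) ↥M).map M.subtype ≤ M ⊓ N :=
    le_inf (map_subtype_le _) ((Subgroup.map_mono (pCore_le_fittingSubgroup (p : ℕ) ↥M)).trans hFM)
  have hPNn : (pCore (p : ℕ) ↥N).Normal := Cfsg.pCore_normal _ _
  have hPMn : (pCore (p : ℕ) ↥M).Normal := Cfsg.pCore_normal _ _
  have hcentN : ∀ g ∈ M, (∀ y ∈ (pCore (p : ℕ) ↥N).map N.subtype, g * y = y * g) → g ∈ N := by
    intro g hgM hg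
    have hPne : (pCore (p : ℕ) ↥N).map N.subtype ≠ ⊥ := fun h =>
      hpN ((map_eq_bot_iff_of_injective _ N.subtype_injective).mp h)
    apply hcN _ hPne hPN_le (le_normalizer_map_subtype_of_normal N _)
    refine ⟨hgM, ?_⟩
    apply Subgroup.centralizer_le_normalizer
    rw [mem_centralizer_iff]
    intro y hy
    exact (hg y hy).symm
  -- `O_p(M) ≠ 1`
  have hpM : pCore (p : ℕ) ↥M ≠ ⊥ := by
    intro hPM
    apply hpN
    rw [eq_bot_iff]
    intro z hz
    have hy : ((z : ↥N) : G) ∈ (pCore (p : ℕ) ↥N).map N.subtype := ⟨z, hz, rfl⟩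
    have hyM : ((z : ↥N) : G) ∈ M := (hPN_le hy).1
    have hcen := centralizes_pPrime_of_mem_pCore (p : ℕ) hFM ⟨_, hyM⟩ hy
    have hF : fittingSubgroup ↥M ≤ pPrimeCore (p : ℕ) ↥M ⊓ fittingSubgroup ↥M := by
      have h0 := fittingSubgroup_le_pCore_sup (p : ℕ) ↥M
      rwa [hPM, bot_sup_eq] at h0
    have hmem : (⟨_, hyM⟩ : ↥M) ∈ centralizer (fittingSubgroup ↥M : Set ↥M) := by
      rw [mem_centralizer_iff]
      intro r hr
      exact (hcen r (hF hr)).symm
    have hc := Helper22.centralizer_generalizedFittingSubgroup_le ↥M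
    rw [hFsM] at hc
    have h3 := (hF (hc hmem)).1
    obtain ⟨k, hk⟩ := (Helper22.pCore_isPGroup (p : ℕ) ↥N) ⟨z, hz⟩
    have hzk : ((z : ↥N) : G) ^ (p : ℕ) ^ k = 1 := by
      have h4 := congrArg Subtype.val (congrArg Subtype.val hk)
      simpa using h4
    have hyk : (⟨_, hyM⟩ : ↥M) ^ (p : ℕ) ^ k = 1 := Subtype.ext (by simpa using hzk)
    have ho : (orderOf (⟨_, hyM⟩ : ↥M)).Coprime p :=
      Nat.Coprime.coprime_dvd_left (Subgroup.orderOf_dvd_natCard _ h3)
        (Helper22.card_pPrimeCore_coprime _ _)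
    have h5 := Helper54.eq_one_of_pow_of_coprime hyk ho
    have h6 : ((z : ↥N) : G) = 1 := congrArg Subtype.val h5
    rw [Subgroup.mem_bot]
    exact Subtype.ext h6
  have hcentM : ∀ g ∈ N, (∀ y ∈ (pCore (p : ℕ) ↥M).map M.subtype, g * y = y * g) → g ∈ M := by
    intro g hgN hg
    have hPne : (pCore (p : ℕ) ↥M).map M.subtype ≠ ⊥ := fun h =>
      hpM ((map_eq_bot_iff_of_injective _ M.subtype_injective).mp h)
    apply hcM _ hPne hPM_le (le_normalizer_map_subtype_of_normal M _)
    refine ⟨hgN, ?_⟩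
    apply Subgroup.centralizer_le_normalizer
    rw [mem_centralizer_iff]
    intro y hy
    exact (hg y hy).symm
  have hX1 := pRegCentGen_le_of' (p : ℕ) hFM hFN hEM hcentN
  have hX2 := pRegCentGen_le_of' (p : ℕ) hFN hFM hEN hcentM
  have hXeq := le_antisymm hX1 hX2
  have hX0 : pRegCentGen (p : ℕ) M = ⊥ :=
    key _ (le_inf (pRegCentGen_le (p : ℕ) M) (by rw [hXeq]; exact pRegCentGen_le (p : ℕ) N))
      (le_normalizer_pRegCentGen (p : ℕ) M)
      (by rw [hXeq]; exact le_normalizer_pRegCentGen (p : ℕ) N)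
  have hX0N : pRegCentGen (p : ℕ) N = ⊥ := by rw [← hXeq]; exact hX0
  exact ⟨p, p.2, fstar_le_pCore_of_pRegCentGen_eq_bot (p : ℕ) hEM hX0,
    fstar_le_pCore_of_pRegCentGen_eq_bot (p : ℕ) hEN hX0N⟩

/-- If `F*(H) ≤ O_p(H)` then `C_H(O_p(H)) ≤ O_p(H)`. -/
theorem centralizer_pCore_le_of_fstar_le {H : Type*} [Group H] [Finite H] (p : ℕ)
    (h : generalizedFittingSubgroup H ≤ pCore p H) :
    centralizer (pCore p H : Set H) ≤ pCore p H :=
  (centralizer_le (SetLike.coe_subset_coe.mpr h)).trans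
    ((Helper22.centralizer_generalizedFittingSubgroup_le H).trans h)

end BenderPair

end Cfsg.Agent.Helper34
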