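/-
Helper library of seat helper34: finite groups with a cyclic Sylow `p`-subgroup and `O_{p'} = 1`.
-/
import Mathlib
import Cfsg.Agent.Helper34.Bender1
import Cfsg.Agent.Helper34.PComp1
import Cfsg.Agent.Helper69.CyclicSylow
import Cfsg.Agent.Helper2.Transfer
import Cfsg.Agent.Helper10.PCore

set_option autoImplicit false

namespace Cfsg.Agent.Helper34

open Cfsg Subgroup
open scoped commutatorElement

section CycSyl

/-- A `p`-element lies in every normal subgroup of index prime to `p`. -/
theorem mem_of_normal_of_not_dvd_index {G : Type*} [Group G] [Finite G] {p : ℕ} [Fact p.Prime]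
    (N : Subgroup G) [N.Normal] (h : ¬ p ∣ N.index) (x : G) (k : ℕ) (hx : x ^ p ^ k = 1) :
    x ∈ N := by
  have h1 : orderOf (QuotientGroup.mk' N x) ∣ p ^ k :=
    (orderOf_map_dvd (QuotientGroup.mk' N) x).trans (orderOf_dvd_of_pow_eq_one hx)
  have h2 : orderOf (QuotientGroup.mk' N x) ∣ N.index := by
    rw [Subgroup.index_eq_card]; exact orderOf_dvd_natCard _
  have hcop : (p ^ k).Coprime N.index :=
    Nat.Coprime.pow_left k ((Nat.Prime.coprime_iff_not_dvd Fact.out).mpr h)
  have h3 : orderOf (QuotientGroup.mk' N x) = 1 := Nat.eq_one_of_dvd_coprimes hcop h1 h2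
  rw [orderOf_eq_one_iff] at h3
  exact (QuotientGroup.eq_one_iff x).mp h3

variable {K : Type*} [Group K] [Finite K] {p : ℕ} [Fact p.Prime]

/-- In a group with cyclic Sylow `p`-subgroups and `O_{p'} = 1`, a normal subgroup of index
divisible by `p` is a `p`-group. -/
theorem isPGroup_of_normal_of_dvd_index_of_cyclic (hO : pPrimeCore p K = ⊥) (P : Sylow p K)
    (hP : IsCyclic ↥(P : Subgroup K)) (H : Subgroup K) [H.Normal] (h2 : p ∣ H.index) :
    IsPGroup p H := by
  obtain ⟨S⟩ : Nonempty (Sylow p H) := inferInstance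
  obtain ⟨N, hN, hc⟩ := Helper69.exists_normal_complement_of_cyclic_sylow P hP H S h2
  have hNn : (N.map H.subtype).Normal := Helper69.normal_map_of_isComplement' H N S hc
  have hcard : (Nat.card (N.map H.subtype)).Coprime p := by
    rw [Subgroup.card_map_of_injective H.subtype_injective, ← hc.index_eq_card]
    exact Nat.coprime_comm.mp ((Nat.Prime.coprime_iff_not_dvd Fact.out).mpr S.not_dvd_index)
  have hbot : N.map H.subtype = ⊥ := by
    have := le_pPrimeCore hNn hcard
    rw [hO] at this
    exact le_bot_iff.mp this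
  have hN0 : N = ⊥ := (map_eq_bot_iff_of_injective _ H.subtype_injective).mp hbot
  have hS : (S : Subgroup H) = ⊤ := by
    rw [hN0] at hc
    exact Subgroup.isComplement'_bot_left.mp hc
  intro g
  obtain ⟨k, hk⟩ := S.isPGroup' ⟨g, by rw [hS]; exact mem_top g⟩
  exact ⟨k, by simpa using congrArg Subtype.val hk⟩

/-- A finite quasisimple group with a normal `p`-complement has order prime to `p`. -/
theorem card_coprime_of_quasisimple_of_complement {X : Type*} [Group X] [Finite X]
    (hX : IsQuasisimple X) (S : Sylow p X) (N : Subgroup X) [hN : N.Normal]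
    (hc : N.IsComplement' (S : Subgroup X)) : (Nat.card X).Coprime p := by
  have hpp : p.Prime := Fact.out
  rcases Helper22.quasisimple_normal hX N hN with h | h
  · have h1 : N.index = 1 := by rw [h]; exact Subgroup.index_top
    have h2 : Nat.card (S : Subgroup X) = 1 := by rw [← hc.symm.index_eq_card]; exact h1
    have h3 : Nat.card X = (S : Subgroup X).index := by
      rw [← Subgroup.card_mul_index (S : Subgroup X), h2, one_mul]
    rw [h3]
    exact Nat.coprime_comm.mp ((Nat.Prime.coprime_iff_not_dvd hpp).mpr S.not_dvd_index)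
  · exfalso
    have hperf := hX.1
    have hnt := Helper22.quasisimple_nontrivial hX
    have hNs : Group.IsSolvable ↥N := by
      apply Group.isSolvable_of_comm
      intro a b
      have ha := Subgroup.mem_center_iff.mp (h a.2)
      exact Subtype.ext (ha b).symm
    have hQp : IsPGroup p (X ⧸ N) := by
      obtain ⟨a, ha⟩ := IsPGroup.iff_card.mp S.isPGroup'
      apply IsPGroup.of_card (n := a)
      rw [← Subgroup.index_eq_card, hc.symm.index_eq_card, ha]
    have hQs : Group.IsSolvable (X ⧸ N) := by
      have := hQp.isNilpotent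
      infer_instance
    have hsolv : Group.IsSolvable X :=
      Group.isSolvable_of_ker_le_range N.subtype (QuotientGroup.mk' N)
        (by rw [QuotientGroup.ker_mk', Subgroup.range_subtype])
    exact Group.IsPerfect.not_isSolvable (G := X) hsolv

/-- With `O_{p'}(K) = 1`, the Fitting subgroup is `O_p(K)`. -/
theorem fittingSubgroup_eq_pCore_of_pPrimeCore_eq_bot (hO : pPrimeCore p K = ⊥) :
    fittingSubgroup K = pCore p K := by
  apply le_antisymm
  · have h := fittingSubgroup_le_pCore_sup p K
    rwa [hO, bot_inf_eq, sup_bot_eq] at h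
  · exact pCore_le_fittingSubgroup p K

/-- Case `E(K) = 1` of the structure theorem for groups with cyclic Sylow `p`-subgroups. -/
theorem cyclic_sylow_of_layer_eq_bot (hp : p ∣ Nat.card K) (hO : pPrimeCore p K = ⊥)
    (P : Sylow p K) (hP : IsCyclic ↥(P : Subgroup K)) (hE : layer K = ⊥) :
    (P : Subgroup K).Normal ∧ centralizer ((P : Subgroup K) : Set K) = (P : Subgroup K) ∧
      (∀ (_ : (P : Subgroup K).Normal), IsCyclic (K ⧸ (P : Subgroup K))) ∧
      (P : Subgroup K).index ∣ p - 1 := by
  have hpp : p.Prime := Fact.out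
  have hF : fittingSubgroup K = pCore p K := fittingSubgroup_eq_pCore_of_pPrimeCore_eq_bot hO
  have hFs : generalizedFittingSubgroup K = pCore p K := by
    unfold generalizedFittingSubgroup; rw [hE, bot_sup_eq, hF]
  have hQP : pCore p K ≤ P := Helper10.pCore_le_sylow P
  have hcomm : ∀ a ∈ (P : Subgroup K), ∀ b ∈ (P : Subgroup K), a * b = b * a :=
    fun a ha b hb => (Helper69.commute_of_mem_cyclic hP ha hb).eq
  have hcF := Helper22.centralizer_generalizedFittingSubgroup_le K
  rw [hFs] at hcF
  have hPQ : (P : Subgroup K) ≤ pCore p K := by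
    intro x hx
    apply hcF
    rw [mem_centralizer_iff]
    intro y hy
    exact hcomm y (hQP hy) x hx
  have hPeq : (P : Subgroup K) = pCore p K := le_antisymm hPQ hQP
  have hPn : (P : Subgroup K).Normal := by rw [hPeq]; exact Cfsg.pCore_normal p K
  have hcent : centralizer ((P : Subgroup K) : Set K) = (P : Subgroup K) := by
    apply le_antisymm
    · rw [hPeq]; exact hcF
    · intro x hx; rw [mem_centralizer_iff]; intro y hy; exact hcomm y hy x hx
  -- an element of order `p` in `P`
  have hpP : p ∣ Nat.card ↥(P : Subgroup K) := by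
    rw [P.card_eq_multiplicity]
    have h1 : (Nat.card K).factorization p ≠ 0 := by
      have hK : Nat.card K ≠ 0 := Nat.card_pos.ne'
      exact (Nat.Prime.factorization_pos_of_dvd hpp hK hp).ne'
    exact dvd_pow_self p h1
  obtain ⟨z, hz⟩ := exists_prime_orderOf_dvd_card' p hpP
  have hzo : orderOf (z : K) = p := by rw [Subgroup.orderOf_coe]; exact hz
  have hz1 : (z : K) ≠ 1 := by
    intro h
    rw [h, orderOf_one] at hzo
    exact hpp.one_lt.ne hzo
  set Z : Subgroup K := zpowers (z : K) with hZdef
  have hZP : Z ≤ (P : Subgroup K) := by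
    rw [hZdef, zpowers_le]; exact z.2
  have hZcard : Nat.card ↥Z = p := by rw [hZdef, Nat.card_zpowers]; exact hzo
  have hZn : Z.Normal := by
    refine ⟨fun n hn g => ?_⟩
    apply Helper69.mem_of_pow_card_eq_one hP Z hZP _ (hPn.conj_mem n (hZP hn) g)
    rw [conj_pow]
    have h1 : (⟨n, hn⟩ : ↥Z) ^ Nat.card ↥Z = 1 := pow_card_eq_one'
    have h2 : n ^ Nat.card ↥Z = 1 := congrArg Subtype.val h1
    rw [h2, mul_one, mul_inv_cancel]
  let φ : K →* MulAut ↥Z := MulAut.conjNormal
  have hφker : ∀ k : K, φ k = 1 → k ∈ (P : Subgroup K) := by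
    intro k hk
    have h1 : ((φ k ⟨(z : K), mem_zpowers _⟩ : ↥Z) : K) = (z : K) := by rw [hk]; rfl
    have h2 : k * (z : K) * k⁻¹ = (z : K) := h1
    have h3 : Commute k (z : K) := by
      show k * (z : K) = (z : K) * k
      calc k * (z : K) = k * (z : K) * k⁻¹ * k := by group
        _ = (z : K) * k := by rw [h2]
    have hkN : k ∈ normalizer ((P : Subgroup K) : Set K) := by
      rw [normalizer_eq_top_iff.mpr hPn]; exact mem_top k
    have h4 := Helper69.commute_of_mem_normalizer_cyclic_sylow P hP k hkN (z : K) z.2 hz1 h3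
    rw [← hcent, mem_centralizer_iff]
    intro u hu
    exact (h4 u hu).eq.symm
  have hφP : ∀ x ∈ (P : Subgroup K), φ x = 1 := by
    intro x hx
    ext y
    show x * (y : K) * x⁻¹ = (y : K)
    rw [hcomm x hx y (hZP y.2), mul_assoc, mul_inv_cancel, mul_one]
  let ψ : K ⧸ (P : Subgroup K) →* MulAut ↥Z := QuotientGroup.lift (P : Subgroup K) φ hφP
  have hψ : Function.Injective ψ := by
    rw [injective_iff_map_eq_one]
    intro q hq
    induction q using QuotientGroup.induction_on with
    | H k =>
      have : φ k = 1 := hq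
      exact (QuotientGroup.eq_one_iff k).mpr (hφker k this)
  have hZc : IsCyclic ↥Z := by rw [hZdef]; infer_instance
  have hAutC : IsCyclic (MulAut ↥Z) := by
    have hprime : Fact (Nat.card ↥Z).Prime := ⟨by rw [hZcard]; exact hpp⟩
    exact isCyclic_of_injective (IsCyclic.mulAutMulEquiv ↥Z).toMonoidHom
      (IsCyclic.mulAutMulEquiv ↥Z).injective
  have hAutCard : Nat.card (MulAut ↥Z) = p - 1 := by
    rw [IsCyclic.card_mulAut, hZcard, Nat.totient_prime hpp]
  refine ⟨hPn, hcent, fun _ => isCyclic_of_injective ψ hψ, ?_⟩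
  rw [Subgroup.index_eq_card, ← hAutCard]
  exact Subgroup.card_dvd_of_injective ψ hψ

/-- Case `E(K) ≠ 1` of the structure theorem for groups with cyclic Sylow `p`-subgroups. -/
theorem cyclic_sylow_of_layer_ne_bot (hp : p ∣ Nat.card K) (hO : pPrimeCore p K = ⊥)
    (P : Sylow p K) (hP : IsCyclic ↥(P : Subgroup K)) (hE : layer K ≠ ⊥) :
    IsSimpleGroup ↥(generalizedFittingSubgroup K) ∧
      ¬ IsMulCommutative ↥(generalizedFittingSubgroup K) ∧
      ¬ p ∣ (generalizedFittingSubgroup K).index := by
  have hpp : p.Prime := Fact.out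
  have hEn : (layer K).Normal := Helper22.layer_normal K
  -- a component exists
  obtain ⟨L, hL⟩ : ∃ L : Subgroup K, IsComponent L := by
    by_contra hno
    push Not at hno
    apply hE
    unfold layer
    rw [eq_bot_iff]
    apply sSup_le
    intro L hL
    exact absurd hL (hno L)
  have hLE : L ≤ layer K := Helper22.component_le_layer hL
  -- `p ∤ [K : E]`
  have hidx : ¬ p ∣ (layer K).index := by
    intro h
    have hpg := isPGroup_of_normal_of_dvd_index_of_cyclic hO P hP (layer K) h
    exact Helper22.component_not_le_of_isNilpotent hL.2 hpg.isNilpotent hLE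
  -- `P ≤ E`
  have hPE : (P : Subgroup K) ≤ layer K := by
    intro x hx
    obtain ⟨k, hk⟩ := P.isPGroup' ⟨x, hx⟩
    exact mem_of_normal_of_not_dvd_index (layer K) hidx x k
      (by simpa using congrArg Subtype.val hk)
  have hcomm : ∀ a ∈ (P : Subgroup K), ∀ b ∈ (P : Subgroup K), a * b = b * a :=
    fun a ha b hb => (Helper69.commute_of_mem_cyclic hP ha hb).eq
  -- `Z(E) ∩ P = 1` by transfer
  have hZP : ∀ x ∈ (P : Subgroup K), (∀ y ∈ layer K, y * x = x * y) → x = 1 := by
    intro x hx hxc
    set PE : Subgroup ↥(layer K) := (P : Subgroup K).subgroupOf (layer K) with hPEdef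
    have hPEc : IsMulCommutative ↥PE := by
      refine ⟨⟨fun a b => ?_⟩⟩
      apply Subtype.ext
      apply Subtype.ext
      exact hcomm _ a.2 _ b.2
    have hPEpg : IsPGroup p ↥PE := by
      intro g
      obtain ⟨k, hk⟩ := P.isPGroup' ⟨((g : ↥(layer K)) : K), g.2⟩
      exact ⟨k, Subtype.ext (Subtype.ext (by simpa using congrArg Subtype.val hk))⟩
    have hnd : ¬ p ∣ PE.index := fun h =>
      P.not_dvd_index (h.trans (Dvd.intro _ (Subgroup.relIndex_mul_index hPE)))
    have hHall : (Nat.card ↥PE).Coprime PE.index := by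
      obtain ⟨n, hn⟩ := IsPGroup.iff_card.mp hPEpg
      rw [hn]
      exact Nat.Coprime.pow_left n ((Nat.Prime.coprime_iff_not_dvd hpp).mpr hnd)
    have hperf : Group.IsPerfect ↥(layer K) :=
      Subgroup.isPerfect_iff.mpr (Helper22.layer_commutator_eq K)
    have h1 := Helper2.eq_one_of_mem_hall_of_mem_center_of_mem_commutator PE hHall
      ⟨x, hPE hx⟩ (mem_subgroupOf.mpr hx)
      (by rw [mem_center_iff]; intro g; exact Subtype.ext (hxc g g.2))
      Group.IsPerfect.mem_commutator
    exact congrArg Subtype.val h1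
  -- `F(K) = 1`
  have hF : fittingSubgroup K = pCore p K := fittingSubgroup_eq_pCore_of_pPrimeCore_eq_bot hO
  have hF0 : fittingSubgroup K = ⊥ := by
    rw [eq_bot_iff]
    intro x hx
    have hxP : x ∈ (P : Subgroup K) := Helper10.pCore_le_sylow P (hF ▸ hx)
    have h1 := Helper22.layer_commutator_fitting K
    rw [commutator_eq_bot_iff_le_centralizer] at h1
    refine Subgroup.mem_bot.mpr (hZP x hxP ?_)
    intro y hy
    exact (mem_centralizer_iff.mp (h1 hy) x hx).symm
  have hFs : generalizedFittingSubgroup K = layer K := by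
    unfold generalizedFittingSubgroup; rw [hF0, sup_bot_eq]
  -- `Z(E) = 1`
  have hZE : ∀ x ∈ layer K, (∀ y ∈ layer K, y * x = x * y) → x = 1 := by
    intro x hx hxc
    have hmem : x ∈ (center ↥(layer K)).map (layer K).subtype :=
      ⟨⟨x, hx⟩, by rw [SetLike.mem_coe, mem_center_iff]; intro g; exact Subtype.ext (hxc g g.2), rfl⟩
    have hn : ((center ↥(layer K)).map (layer K).subtype).Normal := inferInstance
    have hnil0 : Group.IsNilpotent ↥(center ↥(layer K)) :=
      ⟨⟨1, Subgroup.upperCentralSeries_one_eq_top_iff.mpr inferInstance⟩⟩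
    have hnil : Group.IsNilpotent ↥((center ↥(layer K)).map (layer K).subtype) :=
      (Group.isNilpotent_congr ((center ↥(layer K)).equivMapOfInjective (layer K).subtype
        (layer K).subtype_injective)).mp hnil0
    have hle : (center ↥(layer K)).map (layer K).subtype ≤ fittingSubgroup K :=
      le_sSup ⟨hn, hnil⟩
    rw [hF0] at hle
    exact Subgroup.mem_bot.mp (hle hmem)
  have hcompE : ∀ L' : Subgroup K, IsComponent L' → L' ≤ layer K :=
    fun L' h => Helper22.component_le_layer h
  -- the centre of a component is trivial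
  have hZL : ∀ L' : Subgroup K, IsComponent L' → ∀ x ∈ L', (∀ y ∈ L', y * x = x * y) → x = 1 := by
    intro L' hL' x hx hxc
    apply hZE x (hcompE L' hL' hx)
    have hle : layer K ≤ centralizer ({x} : Set K) := by
      apply sSup_le
      intro L'' hL''
      by_cases heq : L'' = L'
      · intro y hy
        rw [mem_centralizer_iff]
        intro h hh
        rw [Set.mem_singleton_iff] at hh
        rw [hh]
        exact (hxc y (heq ▸ hy)).symm
      · have hcm := Helper22.components_commute hL'' hL' heq
        rw [commutator_eq_bot_iff_le_centralizer] at hcm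
        intro y hy
        rw [mem_centralizer_iff]
        intro h hh
        rw [Set.mem_singleton_iff] at hh
        rw [hh]
        exact mem_centralizer_iff.mp (hcm hy) x hx
    intro y hy
    exact (mem_centralizer_iff.mp (hle hy) x (Set.mem_singleton x)).symm
  -- components are normal in the layer
  have hnormL : ∀ L' : Subgroup K, IsComponent L' → layer K ≤ normalizer (L' : Set K) := by
    intro L' hL'
    apply sSup_le
    intro L'' hL''
    by_cases heq : L'' = L'
    · rw [heq]; exact le_normalizer
    · have hcm := Helper22.components_commute hL'' hL' heq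
      rw [commutator_eq_bot_iff_le_centralizer] at hcm
      exact hcm.trans (Subgroup.centralizer_le_normalizer _)
  -- every component contains `P`
  have hPL : ∀ L' : Subgroup K, IsComponent L' → (P : Subgroup K) ≤ L' := by
    intro L' hL'
    have hL'E := hcompE L' hL'
    let PE : Sylow p ↥(layer K) := P.subtype hPE
    have hPEc : IsCyclic ↥(PE : Subgroup ↥(layer K)) := by
      show IsCyclic ↥((P : Subgroup K).subgroupOf (layer K))
      exact isCyclic_of_surjective (subgroupOfEquivOfLe hPE).symm
        (subgroupOfEquivOfLe hPE).symm.surjective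
    have hLn : (L'.subgroupOf (layer K)).Normal :=
      (normal_subgroupOf_iff_le_normalizer hL'E).mpr (hnormL L' hL')
    have hq : IsQuasisimple ↥(L'.subgroupOf (layer K)) :=
      (Helper22.isComponent_subgroupOf hL' hL'E).2
    have hnd : ¬ p ∣ (L'.subgroupOf (layer K)).index := by
      intro h
      obtain ⟨S⟩ : Nonempty (Sylow p ↥(L'.subgroupOf (layer K))) := inferInstance
      obtain ⟨N, hN, hc⟩ := Helper69.exists_normal_complement_of_cyclic_sylow PE hPEc
        (L'.subgroupOf (layer K)) S h
      have hcop := card_coprime_of_quasisimple_of_complement hq S N hc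
      have hcop' : (Nat.card ↥L').Coprime p := by
        rwa [Nat.card_congr (subgroupOfEquivOfLe hL'E).toEquiv] at hcop
      have hle := le_pPrimeCore_of_subnormal hL'.1 hcop'
      rw [hO] at hle
      exact Helper22.quasisimple_ne_bot hL'.2 (le_bot_iff.mp hle)
    intro x hx
    obtain ⟨k, hk⟩ := P.isPGroup' ⟨x, hx⟩
    have hxk : x ^ p ^ k = 1 := by simpa using congrArg Subtype.val hk
    have hmem := mem_of_normal_of_not_dvd_index (L'.subgroupOf (layer K)) hnd
      (⟨x, hPE hx⟩ : ↥(layer K)) k (Subtype.ext (by simpa using hxk))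
    exact hmem
  have hPne : (P : Subgroup K) ≠ ⊥ := P.ne_bot_of_dvd_card hp
  -- the component is unique
  have huniq : ∀ L' : Subgroup K, IsComponent L' → L' = L := by
    intro L' hL'
    by_contra hne
    apply hPne
    rw [eq_bot_iff]
    intro x hx
    have hcm := Helper22.components_commute hL' hL hne
    rw [commutator_eq_bot_iff_le_centralizer] at hcm
    have hxL : x ∈ L := hPL L hL hx
    have hxL' : x ∈ L' := hPL L' hL' hx
    refine Subgroup.mem_bot.mpr (hZL L hL x hxL ?_)
    intro y hy
    exact mem_centralizer_iff.mp (hcm hxL') y hy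
  have hEL : layer K = L := by
    apply le_antisymm
    · apply sSup_le
      intro L' hL'
      rw [huniq L' hL']
    · exact hLE
  rw [hFs]
  rw [hEL] at hidx
  rw [hEL]
  refine ⟨?_, ?_, hidx⟩
  · have hnt := Helper22.quasisimple_nontrivial hL.2
    refine { exists_pair_ne := hnt.exists_pair_ne, eq_bot_or_eq_top_of_normal := ?_ }
    intro N hN
    rcases Helper22.quasisimple_normal hL.2 N hN with h | h
    · exact Or.inr h
    · left
      rw [eq_bot_iff]
      intro n hn
      have hc := Subgroup.mem_center_iff.mp (h hn)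
      have h1 := hZL L hL (n : K) n.2 (fun y hy => congrArg Subtype.val (hc ⟨y, hy⟩))
      exact Subgroup.mem_bot.mpr (Subtype.ext h1)
  · intro hc
    have hperf := hL.2.1
    have hnt := Helper22.quasisimple_nontrivial hL.2
    exact Group.IsPerfect.not_isMulCommutative (G := ↥L) hc

/-- Structure of a finite group with a cyclic Sylow `p`-subgroup and `O_{p'} = 1`. -/
theorem cyclic_sylow_structure (hp : p ∣ Nat.card K) (hO : pPrimeCore p K = ⊥)
    (P : Sylow p K) (hP : IsCyclic ↥(P : Subgroup K)) :
    ((P : Subgroup K).Normal ∧ centralizer ((P : Subgroup K) : Set K) = (P : Subgroup K) ∧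
      (∀ (_ : (P : Subgroup K).Normal), IsCyclic (K ⧸ (P : Subgroup K))) ∧
      (P : Subgroup K).index ∣ p - 1) ∨
    (IsSimpleGroup ↥(generalizedFittingSubgroup K) ∧
      ¬ IsMulCommutative ↥(generalizedFittingSubgroup K) ∧
      ¬ p ∣ (generalizedFittingSubgroup K).index) := by
  by_cases hE : layer K = ⊥
  · exact Or.inl (cyclic_sylow_of_layer_eq_bot hp hO P hP hE)
  · exact Or.inr (cyclic_sylow_of_layer_ne_bot hp hO P hP hE)

end CycSyl

end Cfsg.Agent.Helper34
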