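/-
Helper library of seat helper34: commutators of `p`-groups with subnormal subgroups of `F*(H)`
when `O_p(H) = 1` (after Meierfrankenfeld–Stellmacher–Stroth).
-/
import Mathlib
import Cfsg.Agent.Helper34.Bender1
import Cfsg.Agent.Helper34.PComp1
import Cfsg.Agent.Helper35.Coprime
import Cfsg.Agent.Helper35.CoprimeAbelian
import Cfsg.Agent.Helper35.CoprimeGen
import Cfsg.Agent.Helper22.FStar
import Cfsg.Agent.Helper22.Transport

set_option autoImplicit false

namespace Cfsg.Agent.Helper34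

open Cfsg Subgroup
open scoped commutatorElement

section FStarComm

variable {G : Type*} [Group G]

/-- `A` normalizes `⁅A, B⁆`. -/
theorem le_normalizer_commutator_left (A B : Subgroup G) :
    A ≤ normalizer ((⁅A, B⁆ : Subgroup G) : Set G) := by
  apply Helper35.le_normalizer_of_forall_conj_mem
  intro k hk c hc
  induction hc using Subgroup.closure_induction with
  | mem x hx =>
    obtain ⟨a, ha, b, hb, rfl⟩ := hx
    have h1 : k * ⁅a, b⁆ * k⁻¹ = ⁅k * a, b⁆ * ⁅k, b⁆⁻¹ := by
      simp only [commutatorElement_def]; group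
    rw [h1]
    exact Subgroup.mul_mem _ (Subgroup.commutator_mem_commutator (A.mul_mem hk ha) hb)
      (Subgroup.inv_mem _ (Subgroup.commutator_mem_commutator hk hb))
  | one => simp
  | mul x y _ _ ihx ihy =>
    have h1 : k * (x * y) * k⁻¹ = (k * x * k⁻¹) * (k * y * k⁻¹) := by group
    rw [h1]; exact Subgroup.mul_mem _ ihx ihy
  | inv x _ ihx =>
    have h1 : k * x⁻¹ * k⁻¹ = (k * x * k⁻¹)⁻¹ := by group
    rw [h1]; exact Subgroup.inv_mem _ ihx

/-- The layer normalizes every component. -/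
theorem layer_le_normalizer_component {X : Type*} [Group X] {K : Subgroup X}
    (hK : IsComponent K) : layer X ≤ normalizer (K : Set X) := by
  apply sSup_le
  intro K'' hK''
  by_cases heq : K'' = K
  · rw [heq]; exact le_normalizer
  · have hcm := Helper22.components_commute hK'' hK heq
    rw [commutator_eq_bot_iff_le_centralizer] at hcm
    exact hcm.trans (Subgroup.centralizer_le_normalizer _)

/-- The image of the layer of a subgroup `L` lies in `T` as soon as all components do. -/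
theorem map_layer_le {L T : Subgroup G}
    (h : ∀ K' : Subgroup ↥L, IsComponent K' → K'.map L.subtype ≤ T) :
    (layer ↥L).map L.subtype ≤ T := by
  rw [Subgroup.map_le_iff_le_comap]
  apply sSup_le
  intro K' hK'
  rw [← Subgroup.map_le_iff_le_comap]
  exact h K' hK'

/-- A quasisimple subgroup `K`, a subgroup `Y`, and a subgroup `D ≥ ⁅K, Y⁆` normalized by `K`,
with `⁅K, Y⁆` normalizing `K`: then `K ≤ D` or `Y` centralizes `K`. -/
theorem quasisimple_le_or_centralized {K Y D : Subgroup G} (hK : IsQuasisimple ↥K)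
    (hD : ⁅K, Y⁆ ≤ D) (hKD : K ≤ normalizer (D : Set G))
    (hYK : ⁅K, Y⁆ ≤ normalizer (K : Set G)) : K ≤ D ∨ ⁅K, Y⁆ = ⊥ := by
  have hn : K ≤ normalizer ((D ⊓ K : Subgroup G) : Set G) := by
    apply Helper35.le_normalizer_of_forall_conj_mem
    intro k hk x hx
    exact ⟨(mem_normalizer_iff.mp (hKD hk) x).mp hx.1, K.mul_mem (K.mul_mem hk hx.2) (K.inv_mem hk)⟩
  rcases Helper22.quasisimple_le_or_commutator_eq_bot hK (inf_le_right : D ⊓ K ≤ K) hn with h | h
  · exact Or.inl (h.trans inf_le_left)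
  · right
    have hXK : ⁅⁅K, Y⁆, K⁆ ≤ D ⊓ K := by
      refine le_inf ?_ ?_
      · exact (commutator_mono hD le_rfl).trans (Helper35.commutator_le_of_le_normalizer hKD)
      · rw [commutator_comm]
        exact Helper35.commutator_le_of_le_normalizer hYK
    have h1 : ⁅⁅⁅K, Y⁆, K⁆, K⁆ = ⊥ := by
      rw [eq_bot_iff, ← h, commutator_comm]
      exact commutator_mono le_rfl hXK
    have h2 : ⁅⁅K, K⁆, ⁅K, Y⁆⁆ = ⊥ :=
      commutator_commutator_eq_bot_of_rotate (by rw [commutator_comm K ⁅K, Y⁆]; exact h1) h1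
    rw [Helper22.quasisimple_commutator_eq hK] at h2
    have h3 : ⁅⁅K, Y⁆, K⁆ = ⊥ := by rw [commutator_comm]; exact h2
    have h4 : ⁅⁅K, K⁆, Y⁆ = ⊥ :=
      commutator_commutator_eq_bot_of_rotate h3 (by rw [commutator_comm Y K]; exact h3)
    rw [Helper22.quasisimple_commutator_eq hK] at h4
    exact h4

/-- The elements `g` of `N(D)` with `⁅g, y⁆ ∈ D` form a subgroup. -/
def commSub (D : Subgroup G) (y : G) : Subgroup G where
  carrier := {g | g ∈ normalizer (D : Set G) ∧ ⁅g, y⁆ ∈ D}
  one_mem' := ⟨one_mem _, by simp [commutatorElement_def]⟩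
  mul_mem' := by
    rintro a b ⟨ha, hay⟩ ⟨hb, hby⟩
    refine ⟨mul_mem ha hb, ?_⟩
    have h1 : ⁅a * b, y⁆ = a * ⁅b, y⁆ * a⁻¹ * ⁅a, y⁆ := by
      simp only [commutatorElement_def]; group
    rw [h1]
    exact D.mul_mem ((mem_normalizer_iff.mp ha _).mp hby) hay
  inv_mem' := by
    rintro a ⟨ha, hay⟩
    refine ⟨inv_mem ha, ?_⟩
    have h1 : ⁅a⁻¹, y⁆ = a⁻¹ * ⁅a, y⁆⁻¹ * a⁻¹⁻¹ := by
      simp only [commutatorElement_def]; group
    rw [h1]
    exact (mem_normalizer_iff.mp (inv_mem ha) _).mp (D.inv_mem hay)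

theorem commutator_le_of_forall_le_commSub {A Y D : Subgroup G}
    (h : ∀ y ∈ Y, A ≤ commSub D y) : ⁅A, Y⁆ ≤ D := by
  rw [commutator_le]
  intro a ha y hy
  exact (h y hy ha).2

/-- Core statement: `L` with `F*(L) = L` and `O_p(L) = 1`, `Y` a `p`-group normalizing `L`. -/
theorem fstar_commutator_core [Finite G] {p : ℕ} [Fact p.Prime] (L Y : Subgroup G)
    (hFs : generalizedFittingSubgroup ↥L = ⊤) (hO : pCore p ↥L = ⊥)
    (hY : IsPGroup p ↥Y) (hYL : Y ≤ normalizer (L : Set G)) :
    ⁅L, Y⁆ ⊔ (L ⊓ centralizer (Y : Set G)) = L ∧ ⁅L, Y⁆ = ⁅⁅L, Y⁆, Y⁆ := by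
  have hpp : p.Prime := Fact.out
  set E₁ : Subgroup G := (layer ↥L).map L.subtype with hE₁
  set F₁ : Subgroup G := (fittingSubgroup ↥L).map L.subtype with hF₁
  have hLEF : L = E₁ ⊔ F₁ := by
    rw [hE₁, hF₁, ← Subgroup.map_sup]
    have h0 : layer ↥L ⊔ fittingSubgroup ↥L = ⊤ := hFs
    rw [h0, ← MonoidHom.range_eq_map, Subgroup.range_subtype]
  have hE₁L : E₁ ≤ L := map_subtype_le _
  have hF₁L : F₁ ≤ L := map_subtype_le _
  have hYE : Y ≤ normalizer (E₁ : Set G) := by
    have := Helper22.layer_characteristic ↥L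
    exact hYL.trans (Helper22.normalizer_le_normalizer_map_subtype L (layer ↥L))
  have hYF : Y ≤ normalizer (F₁ : Set G) := by
    have := Helper22.fittingSubgroup_characteristic ↥L
    exact hYL.trans (Helper22.normalizer_le_normalizer_map_subtype L (fittingSubgroup ↥L))
  have hEF : ⁅E₁, F₁⁆ = ⊥ := by
    rw [hE₁, hF₁, ← Subgroup.map_commutator, Helper22.layer_commutator_fitting, Subgroup.map_bot]
  have hEcF : E₁ ≤ centralizer (F₁ : Set G) := commutator_eq_bot_iff_le_centralizer.mp hEF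
  have hFcE : F₁ ≤ centralizer (E₁ : Set G) := by
    rw [commutator_comm] at hEF
    exact commutator_eq_bot_iff_le_centralizer.mp hEF
  -- the Fitting part: coprime action
  have hFcop : (Nat.card ↥Y).Coprime (Nat.card ↥F₁) := by
    have h1 : fittingSubgroup ↥L ≤ pPrimeCore p ↥L := by
      have h := fittingSubgroup_le_pCore_sup p ↥L
      rw [hO, bot_sup_eq] at h
      exact h.trans inf_le_left
    have h2 : (Nat.card ↥(fittingSubgroup ↥L)).Coprime p :=
      Nat.Coprime.coprime_dvd_left (Subgroup.card_dvd_of_le h1)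
        (Helper22.card_pPrimeCore_coprime p ↥L)
    obtain ⟨n, hn⟩ := IsPGroup.iff_card.mp hY
    rw [hn, hF₁, Subgroup.card_map_of_injective L.subtype_injective]
    exact Nat.Coprime.pow_left n (Nat.coprime_comm.mp h2)
  have hYsolv : Group.IsSolvable ↥Y := by
    have := hY.isNilpotent
    infer_instance
  have hF_a : F₁ ≤ ⁅F₁, Y⁆ ⊔ (F₁ ⊓ centralizer (Y : Set G)) := by
    intro k hk
    obtain ⟨n, hn, c, hc, rfl⟩ :=
      Helper35.exists_commutator_mul_fixed hYF hFcop (Or.inl hYsolv) hk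
    exact Subgroup.mul_mem _ (Subgroup.mem_sup_left hn) (Subgroup.mem_sup_right hc)
  have hF_b : ⁅⁅F₁, Y⁆, Y⁆ = ⁅F₁, Y⁆ :=
    Helper35.commutator_commutator_eq_of_coprime hYF hFcop (Or.inl hYsolv)
  have hFY : ⁅F₁, Y⁆ ≤ F₁ := Helper35.commutator_le_of_le_normalizer hYF
  -- the layer part
  set D₁ : Subgroup G := ⁅E₁, Y⁆ with hD₁
  set D₂ : Subgroup G := ⁅D₁, Y⁆ with hD₂
  have hD₁E : D₁ ≤ E₁ := Helper35.commutator_le_of_le_normalizer hYE
  have hE_D₁ : E₁ ≤ normalizer (D₁ : Set G) := le_normalizer_commutator_left E₁ Y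
  have hY_D₁ : Y ≤ normalizer (D₁ : Set G) := Helper35.le_normalizer_commutator hYE
  have hD₂D₁ : D₂ ≤ D₁ := Helper35.commutator_le_of_le_normalizer hY_D₁
  have hD₁_D₂ : D₁ ≤ normalizer (D₂ : Set G) := le_normalizer_commutator_left D₁ Y
  have hY_D₂ : Y ≤ normalizer (D₂ : Set G) := Helper35.le_normalizer_commutator hY_D₁
  have hcomp : ∀ K' : Subgroup ↥L, IsComponent K' →
      K'.map L.subtype ≤ D₂ ∨ ⁅K'.map L.subtype, Y⁆ = ⊥ := by
    intro K' hK'
    have hKq : IsQuasisimple ↥(K'.map L.subtype) :=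
      Helper22.isQuasisimple_of_equiv (K'.equivMapOfInjective L.subtype L.subtype_injective) hK'.2
    have hKE : K'.map L.subtype ≤ E₁ := Subgroup.map_mono (Helper22.component_le_layer hK')
    have hEK : E₁ ≤ normalizer ((K'.map L.subtype : Subgroup G) : Set G) :=
      (Subgroup.map_mono (layer_le_normalizer_component hK')).trans (Subgroup.le_normalizer_map _)
    have hKY : ⁅K'.map L.subtype, Y⁆ ≤ D₁ := commutator_mono hKE le_rfl
    have hKYn : ⁅K'.map L.subtype, Y⁆ ≤ normalizer ((K'.map L.subtype : Subgroup G) : Set G) :=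
      (hKY.trans hD₁E).trans hEK
    rcases quasisimple_le_or_centralized hKq hKY (hKE.trans hE_D₁) hKYn with h | h
    · have hKY2 : ⁅K'.map L.subtype, Y⁆ ≤ D₂ := commutator_mono h le_rfl
      exact quasisimple_le_or_centralized hKq hKY2 (h.trans hD₁_D₂) hKYn
    · exact Or.inr h
  have hE_D₂ : E₁ ≤ normalizer (D₂ : Set G) := by
    apply map_layer_le
    intro K' hK'
    rcases hcomp K' hK' with h | h
    · exact h.trans le_normalizer
    · have hKE : K'.map L.subtype ≤ E₁ := Subgroup.map_mono (Helper22.component_le_layer hK')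
      have hKc : K'.map L.subtype ≤ centralizer (Y : Set G) :=
        commutator_eq_bot_iff_le_centralizer.mp h
      exact Helper35.le_normalizer_commutator' (hKE.trans hE_D₁)
        (hKc.trans (Subgroup.centralizer_le_normalizer _))
  have hED : D₁ ≤ D₂ := by
    apply commutator_le_of_forall_le_commSub
    intro y hy
    apply map_layer_le
    intro K' hK' k hk
    have hKE : K'.map L.subtype ≤ E₁ := Subgroup.map_mono (Helper22.component_le_layer hK')
    refine ⟨hE_D₂ (hKE hk), ?_⟩
    rcases hcomp K' hK' with h | h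
    · have h1 : ⁅k, y⁆ = k * (y * k⁻¹ * y⁻¹) := by rw [commutatorElement_def]; group
      rw [h1]
      exact D₂.mul_mem (h hk) ((mem_normalizer_iff.mp (hY_D₂ hy) _).mp (D₂.inv_mem (h hk)))
    · have h2 : ⁅k, y⁆ ∈ ⁅K'.map L.subtype, Y⁆ := commutator_mem_commutator hk hy
      rw [h, mem_bot] at h2
      rw [h2]; exact one_mem _
  have hE_a : E₁ ≤ D₁ ⊔ (E₁ ⊓ centralizer (Y : Set G)) := by
    apply map_layer_le
    intro K' hK'
    have hKE : K'.map L.subtype ≤ E₁ := Subgroup.map_mono (Helper22.component_le_layer hK')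
    rcases hcomp K' hK' with h | h
    · exact (h.trans hD₂D₁).trans le_sup_left
    · exact (le_inf hKE (commutator_eq_bot_iff_le_centralizer.mp h)).trans le_sup_right
  have hLY : ⁅L, Y⁆ ≤ L := Helper35.commutator_le_of_le_normalizer hYL
  constructor
  · apply le_antisymm
    · exact sup_le hLY inf_le_left
    · have h1 : E₁ ⊔ F₁ ≤ ⁅L, Y⁆ ⊔ (L ⊓ centralizer (Y : Set G)) :=
        sup_le
          (hE_a.trans (sup_le_sup (commutator_mono hE₁L le_rfl) (inf_le_inf_right _ hE₁L)))
          (hF_a.trans (sup_le_sup (commutator_mono hF₁L le_rfl) (inf_le_inf_right _ hF₁L)))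
      calc L = E₁ ⊔ F₁ := hLEF
        _ ≤ _ := h1
  · apply le_antisymm
    · have hEn : E₁ ≤ normalizer ((D₁ ⊔ ⁅F₁, Y⁆ : Subgroup G) : Set G) :=
        Helper35.le_normalizer_sup hE_D₁
          ((hEcF.trans (centralizer_le (SetLike.coe_subset_coe.mpr hFY))).trans
            (Subgroup.centralizer_le_normalizer _))
      have hFn : F₁ ≤ normalizer ((D₁ ⊔ ⁅F₁, Y⁆ : Subgroup G) : Set G) :=
        Helper35.le_normalizer_sup
          ((hFcE.trans (centralizer_le (SetLike.coe_subset_coe.mpr hD₁E))).trans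
            (Subgroup.centralizer_le_normalizer _))
          (le_normalizer_commutator_left F₁ Y)
      have hT1 : ⁅L, Y⁆ ≤ D₁ ⊔ ⁅F₁, Y⁆ := by
        apply commutator_le_of_forall_le_commSub
        intro y hy
        calc L = E₁ ⊔ F₁ := hLEF
          _ ≤ commSub (D₁ ⊔ ⁅F₁, Y⁆) y :=
            sup_le (fun e he => ⟨hEn he, mem_sup_left (commutator_mem_commutator he hy)⟩)
              (fun f hf => ⟨hFn hf, mem_sup_right (commutator_mem_commutator hf hy)⟩)
      have hT2 : D₁ ⊔ ⁅F₁, Y⁆ ≤ ⁅⁅L, Y⁆, Y⁆ := by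
        refine sup_le ?_ ?_
        · exact hED.trans (commutator_mono (commutator_mono hE₁L le_rfl) le_rfl)
        · rw [← hF_b]
          exact commutator_mono (commutator_mono hF₁L le_rfl) le_rfl
      exact hT1.trans hT2
    · exact Helper35.commutator_le_of_le_normalizer (Helper35.le_normalizer_commutator hYL)

/-- `L ≤ F*(H)` subnormal in `H`, `O_p(H) = 1`, `Y` a `p`-group normalizing `L`:
`L = [L, Y] C_L(Y)` and `[L, Y] = [L, Y, Y]`. -/
theorem fstar_commutator_of_subnormal [Finite G] {p : ℕ} [Fact p.Prime] (H : Subgroup G)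
    (hO : pCore p ↥H = ⊥) (Y : Subgroup G) (hY : IsPGroup p ↥Y)
    (L : Subgroup G) (hLF : L ≤ (generalizedFittingSubgroup ↥H).map H.subtype)
    (hLsn : (L.subgroupOf H).IsSubnormal) (hYL : Y ≤ normalizer (L : Set G)) :
    ⁅L, Y⁆ ⊔ (L ⊓ centralizer (Y : Set G)) = L ∧ ⁅L, Y⁆ = ⁅⁅L, Y⁆, Y⁆ := by
  have hLH : L ≤ H := hLF.trans (map_subtype_le _)
  have hSle : L.subgroupOf H ≤ generalizedFittingSubgroup ↥H := by
    intro x hx
    obtain ⟨z, hz, hzx⟩ := hLF (mem_subgroupOf.mp hx)
    have hzx' : z = x := Subtype.ext hzx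
    rw [← hzx']; exact hz
  have h1 : generalizedFittingSubgroup ↥(L.subgroupOf H) = ⊤ :=
    Helper22.generalizedFittingSubgroup_eq_top_of_le hLsn hSle
  have h2 : pCore p ↥(L.subgroupOf H) = ⊥ := by
    have hsub : ((pCore p ↥(L.subgroupOf H)).map (L.subgroupOf H).subtype).IsSubnormal :=
      (Cfsg.pCore_normal p ↥(L.subgroupOf H)).isSubnormal.trans' hLsn
    have hpg : IsPGroup p ↥((pCore p ↥(L.subgroupOf H)).map (L.subgroupOf H).subtype) :=
      (Helper22.pCore_isPGroup p ↥(L.subgroupOf H)).map _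
    have hle := Helper22.le_pCore_of_isSubnormal p hsub hpg
    rw [hO] at hle
    exact (map_eq_bot_iff_of_injective _ (L.subgroupOf H).subtype_injective).mp
      (le_bot_iff.mp hle)
  let e : ↥(L.subgroupOf H) ≃* ↥L := subgroupOfEquivOfLe hLH
  have h3 : generalizedFittingSubgroup ↥L = ⊤ := by
    unfold generalizedFittingSubgroup
    rw [← Helper22.layer_map_equiv e, ← Helper22.fittingSubgroup_map_equiv e, ← Subgroup.map_sup]
    have h0 : layer ↥(L.subgroupOf H) ⊔ fittingSubgroup ↥(L.subgroupOf H) = ⊤ := h1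
    rw [h0]
    exact Subgroup.map_top_of_surjective _ e.surjective
  have h4 : pCore p ↥L = ⊥ := by
    rw [← Helper22.pCore_map_equiv p e, h2, Subgroup.map_bot]
  exact fstar_commutator_core L Y h3 h4 hY hYL

/-- Type-level version of `fstar_commutator_of_subnormal`. -/
theorem fstar_commutator_of_subnormal' {H : Type*} [Group H] [Finite H] {p : ℕ} [Fact p.Prime]
    (hO : pCore p H = ⊥) (Y : Subgroup H) (hY : IsPGroup p ↥Y)
    (L : Subgroup H) (hLF : L ≤ generalizedFittingSubgroup H)
    (hLsn : L.IsSubnormal) (hYL : Y ≤ normalizer (L : Set H)) :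
    ⁅L, Y⁆ ⊔ (L ⊓ centralizer (Y : Set H)) = L ∧ ⁅L, Y⁆ = ⁅⁅L, Y⁆, Y⁆ := by
  have h3 : generalizedFittingSubgroup ↥L = ⊤ :=
    Helper22.generalizedFittingSubgroup_eq_top_of_le hLsn hLF
  have h4 : pCore p ↥L = ⊥ := by
    have hsub : ((pCore p ↥L).map L.subtype).IsSubnormal :=
      (Cfsg.pCore_normal p ↥L).isSubnormal.trans' hLsn
    have hpg : IsPGroup p ↥((pCore p ↥L).map L.subtype) := (Helper22.pCore_isPGroup p ↥L).map _
    have hle := Helper22.le_pCore_of_isSubnormal p hsub hpg
    rw [hO] at hle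
    exact (map_eq_bot_iff_of_injective _ L.subtype_injective).mp (le_bot_iff.mp hle)
  exact fstar_commutator_core L Y h3 h4 hY hYL

/-- If `X = ⁅X, Y⁆` and `Y` lies in the subnormal subgroup `K`, then `X ≤ K`. -/
theorem le_of_isSubnormal_of_commutator_eq {H : Type*} [Group H] {X Y : Subgroup H}
    (hX : X = ⁅X, Y⁆) {K : Subgroup H} (hK : K.IsSubnormal) : Y ≤ K → X ≤ K := by
  induction hK with
  | top => intro _; exact le_top
  | step K' K₁ hle _ hN ih =>
    intro hY
    have h1 : X ≤ K₁ := ih (hY.trans hle)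
    have hn : K₁ ≤ normalizer (K' : Set H) := (normal_subgroupOf_iff_le_normalizer hle).mp hN
    have h2 : ⁅K₁, K'⁆ ≤ K' := by
      rw [commutator_comm]
      exact Helper35.commutator_le_of_le_normalizer hn
    calc X = ⁅X, Y⁆ := hX
      _ ≤ ⁅K₁, K'⁆ := commutator_mono h1 hY
      _ ≤ K' := h2

/-- `O_p(H) = 1`, `Y` a `p`-subgroup: for subnormal `K ≥ Y`,
`[F*(H), Y] = [F*(K), Y] = [F*(K), Y, Y]`; and `[F*(H), Y, Y₀] = 1` with `Y₀ ≤ Y` forces
`Y₀ = 1`. -/
theorem fstar_commutator_subnormal_eq {H : Type*} [Group H] [Finite H] {p : ℕ} [Fact p.Prime]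
    (hO : pCore p H = ⊥) (Y : Subgroup H) (hY : IsPGroup p ↥Y) :
    (∀ K : Subgroup H, K.IsSubnormal → Y ≤ K →
      ⁅generalizedFittingSubgroup H, Y⁆ = ⁅(generalizedFittingSubgroup ↥K).map K.subtype, Y⁆ ∧
      ⁅(generalizedFittingSubgroup ↥K).map K.subtype, Y⁆ =
        ⁅⁅(generalizedFittingSubgroup ↥K).map K.subtype, Y⁆, Y⁆) ∧
    (∀ Y₀ : Subgroup H, Y₀ ≤ Y → ⁅⁅generalizedFittingSubgroup H, Y⁆, Y₀⁆ = ⊥ → Y₀ = ⊥) := by
  have hFn : (generalizedFittingSubgroup H).Normal := Helper22.generalizedFittingSubgroup_normal H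
  have hYF : ∀ Y' : Subgroup H, Y' ≤ normalizer ((generalizedFittingSubgroup H : Subgroup H) : Set H) := by
    intro Y'
    rw [normalizer_eq_top_iff.mpr hFn]
    exact le_top
  constructor
  · intro K hK hYK
    have hFK : generalizedFittingSubgroup H ⊓ K = (generalizedFittingSubgroup ↥K).map K.subtype :=
      Helper22.generalizedFittingSubgroup_inf_eq hK
    have hFKsn : ((generalizedFittingSubgroup ↥K).map K.subtype).IsSubnormal := by
      rw [← hFK]; exact hFn.isSubnormal.inf hK
    have hFKle : (generalizedFittingSubgroup ↥K).map K.subtype ≤ generalizedFittingSubgroup H := by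
      rw [← hFK]; exact inf_le_left
    have hYn : Y ≤ normalizer (((generalizedFittingSubgroup ↥K).map K.subtype : Subgroup H) : Set H) := by
      have := Helper22.generalizedFittingSubgroup_characteristic ↥K
      exact (hYK.trans le_normalizer).trans
        (Helper22.normalizer_le_normalizer_map_subtype K (generalizedFittingSubgroup ↥K))
    have h1 := fstar_commutator_of_subnormal' hO Y hY _ hFKle hFKsn hYn
    have h2 := fstar_commutator_of_subnormal' hO Y hY (generalizedFittingSubgroup H) le_rfl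
      hFn.isSubnormal (hYF Y)
    refine ⟨?_, h1.2⟩
    apply le_antisymm
    · have h3 : ⁅generalizedFittingSubgroup H, Y⁆ ≤ K :=
        le_of_isSubnormal_of_commutator_eq h2.2 hK hYK
      have h4 : ⁅generalizedFittingSubgroup H, Y⁆ ≤ generalizedFittingSubgroup H :=
        Helper35.commutator_le_of_le_normalizer (hYF Y)
      have h5 : ⁅generalizedFittingSubgroup H, Y⁆ ≤ (generalizedFittingSubgroup ↥K).map K.subtype := by
        rw [← hFK]; exact le_inf h4 h3
      calc ⁅generalizedFittingSubgroup H, Y⁆ = ⁅⁅generalizedFittingSubgroup H, Y⁆, Y⁆ := h2.2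
        _ ≤ _ := commutator_mono h5 le_rfl
    · exact commutator_mono hFKle le_rfl
  · intro Y₀ hY₀ hc
    have hY₀p : IsPGroup p ↥Y₀ := hY.to_le hY₀
    have h2 := fstar_commutator_of_subnormal' hO Y₀ hY₀p (generalizedFittingSubgroup H) le_rfl
      hFn.isSubnormal (hYF Y₀)
    have h3 : ⁅generalizedFittingSubgroup H, Y₀⁆ = ⊥ := by
      rw [eq_bot_iff, h2.2, ← hc]
      exact commutator_mono (commutator_mono le_rfl hY₀) le_rfl
    have h4 : Y₀ ≤ centralizer ((generalizedFittingSubgroup H : Subgroup H) : Set H) := by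
      rw [commutator_comm] at h3
      exact commutator_eq_bot_iff_le_centralizer.mp h3
    have h5 : Y₀ ≤ generalizedFittingSubgroup H :=
      h4.trans (Helper22.centralizer_generalizedFittingSubgroup_le H)
    have hsub : Y₀.IsSubnormal := by
      refine IsSubnormal.step Y₀ (generalizedFittingSubgroup H) h5 hFn.isSubnormal ?_
      rw [normal_subgroupOf_iff_le_normalizer h5]
      intro x hx
      rw [mem_normalizer_iff]
      intro y
      constructor
      · intro hy
        have hxy : x * y = y * x := (mem_centralizer_iff.mp (h4 hy) x hx)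
        rw [hxy, mul_assoc, mul_inv_cancel, mul_one]; exact hy
      · intro hy
        have hc' := mem_centralizer_iff.mp (h4 hy) x hx
        have hxy : x * y * x⁻¹ = y := by
          have h6 : x * (x * y * x⁻¹) = (x * y * x⁻¹) * x := hc'
          have h7 : x * y = y * x := by
            have h8 : x * (x * y * x⁻¹) * x⁻¹ * x = x * (x * y) * x⁻¹ := by group
            have h9 : (x * y * x⁻¹) * x * x⁻¹ * x = x * y := by group
            have h10 : x * (x * y) * x⁻¹ = x * y := by rw [← h8, h6, h9]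
            calc x * y = x⁻¹ * (x * (x * y) * x⁻¹) * x := by group
              _ = x⁻¹ * (x * y) * x := by rw [h10]
              _ = y * x := by group
          rw [h7, mul_assoc, mul_inv_cancel, mul_one]
        rw [← hxy]; exact hy
    have hle := Helper22.le_pCore_of_isSubnormal p hsub hY₀p
    rw [hO] at hle
    exact le_bot_iff.mp hle

end FStarComm

end Cfsg.Agent.Helper34
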