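/-
Helper library of seat helper34: averaging homomorphisms over a finite group of automorphisms,
and consequences for `[F*(H), Q]` (after Meierfrankenfeld–Stellmacher–Stroth).
-/
import Mathlib
import Cfsg.Agent.Helper34.FStarComm

set_option autoImplicit false

namespace Cfsg.Agent.Helper34

open Cfsg Subgroup
open scoped commutatorElement

section Averaging

/-- Averaging a homomorphism into an abelian group over a finite group `Q` of automorphisms:
if `L` is generated by the elements `l * (φ q l)⁻¹`, then `f z ^ |Q| = 1` for every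
`Q`-fixed `z`. -/
theorem avg_hom_pow_card_eq_one {L A Q : Type*} [Group L] [CommGroup A] [Group Q] [Finite Q]
    (φ : Q →* MulAut L) (f : L →* A)
    (hgen : Subgroup.closure {x : L | ∃ (l : L) (q : Q), x = l * (φ q l)⁻¹} = ⊤)
    (z : L) (hz : ∀ q, φ q z = z) : f z ^ Nat.card Q = 1 := by
  classical
  have := Fintype.ofFinite Q
  let Λ : L →* A := ∏ q : Q, f.comp (φ q).toMonoidHom
  have hΛ : ∀ x, Λ x = ∏ q : Q, f (φ q x) := by
    intro x
    simp [Λ]
  have hinv : ∀ q' x, Λ (φ q' x) = Λ x := by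
    intro q' x
    rw [hΛ, hΛ]
    refine Fintype.prod_equiv (Equiv.mulRight q') _ _ ?_
    intro q
    simp [map_mul]
  have hker : (⊤ : Subgroup L) ≤ Λ.ker := by
    rw [← hgen, Subgroup.closure_le]
    rintro x ⟨l, q, rfl⟩
    change l * (φ q l)⁻¹ ∈ Λ.ker
    rw [MonoidHom.mem_ker, map_mul, map_inv, hinv, mul_inv_cancel]
  have h1 : Λ z = 1 := MonoidHom.mem_ker.mp (hker (Subgroup.mem_top z))
  rw [hΛ] at h1
  simpa [hz, Finset.prod_const, Nat.card_eq_fintype_card] using h1

variable {G : Type*} [Group G]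

/-- If `L = [L, Q]` for a finite subgroup `Q` normalizing `L`, then every `Q`-centralized element
`z` of `L` satisfies `z ^ |Q| ∈ L'`. -/
theorem pow_card_mem_commutator_of_le_commutator {L Q : Subgroup G} [Finite ↥Q]
    (hQL : Q ≤ normalizer (L : Set G)) (hL : L ≤ ⁅L, Q⁆) {z : G} (hzL : z ∈ L)
    (hzQ : z ∈ centralizer (Q : Set G)) :
    (⟨z, hzL⟩ : ↥L) ^ Nat.card ↥Q ∈ commutator ↥L := by
  let φ : ↥Q →* MulAut ↥L := (L.normalizerMonoidHom).comp (Subgroup.inclusion hQL)
  have hφ : ∀ (q : ↥Q) (l : ↥L), ((φ q l : ↥L) : G) = (q : G) * (l : G) * (q : G)⁻¹ := by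
    intro q l
    rfl
  have hgen : Subgroup.closure {x : ↥L | ∃ (l : ↥L) (q : ↥Q), x = l * (φ q l)⁻¹} = ⊤ := by
    rw [eq_top_iff]
    have h1 : ⁅L, Q⁆ ≤
        (Subgroup.closure {x : ↥L | ∃ (l : ↥L) (q : ↥Q), x = l * (φ q l)⁻¹}).map L.subtype := by
      rw [Subgroup.commutator_le]
      intro l hl q hq
      refine ⟨(⟨l, hl⟩ : ↥L) * (φ ⟨q, hq⟩ ⟨l, hl⟩)⁻¹,
        Subgroup.subset_closure ⟨⟨l, hl⟩, ⟨q, hq⟩, rfl⟩, ?_⟩
      simp only [Subgroup.coe_subtype, Subgroup.coe_mul, Subgroup.coe_inv, hφ]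
      rw [commutatorElement_def]
      group
    intro x _
    obtain ⟨y, hy, hyx⟩ := h1 (hL x.2)
    have : y = x := Subtype.ext hyx
    rw [← this]
    exact hy
  have hz : ∀ q : ↥Q, φ q ⟨z, hzL⟩ = ⟨z, hzL⟩ := by
    intro q
    apply Subtype.ext
    rw [hφ]
    have h2 : (q : G) * z = z * (q : G) := mem_centralizer_iff.mp hzQ q q.2
    show (q : G) * z * (q : G)⁻¹ = z
    rw [h2, mul_assoc, mul_inv_cancel, mul_one]
  have h3 := avg_hom_pow_card_eq_one φ (Abelianization.of : ↥L →* Abelianization ↥L) hgen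
    ⟨z, hzL⟩ hz
  rw [← map_pow] at h3
  have h4 : (⟨z, hzL⟩ : ↥L) ^ Nat.card ↥Q ∈ (Abelianization.of : ↥L →* Abelianization ↥L).ker :=
    MonoidHom.mem_ker.mpr h3
  rwa [Abelianization.ker_of] at h4

end Averaging

section Largest

variable {H : Type*} [Group H]

/-- `⁅a * w, b⁆ = ⁅a, b⁆` for central `w`. -/
theorem commutatorElement_mul_central_left {a b w : H} (hw : ∀ x : H, w * x = x * w) :
    ⁅a * w, b⁆ = ⁅a, b⁆ := by
  rw [commutatorElement_def, commutatorElement_def]
  have h1 : a * w * b * (a * w)⁻¹ * b⁻¹ = a * (w * b) * w⁻¹ * a⁻¹ * b⁻¹ := by group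
  rw [h1, hw b]
  group

/-- `⁅a, b * w⁆ = ⁅a, b⁆` for central `w`. -/
theorem commutatorElement_mul_central_right {a b w : H} (hw : ∀ x : H, w * x = x * w) :
    ⁅a, b * w⁆ = ⁅a, b⁆ := by
  rw [commutatorElement_def, commutatorElement_def]
  have h1 : a * (b * w) * a⁻¹ * (b * w)⁻¹ = a * b * (w * a⁻¹) * w⁻¹ * b⁻¹ := by group
  rw [h1, hw a⁻¹]
  group

/-- A central element outside a maximal subgroup forces the maximal subgroup to contain the
derived subgroup. -/
theorem commutator_le_coatom_of_central_not_mem {M : Subgroup H} (hM : IsCoatom M) {z : H}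
    (hz : ∀ x : H, z * x = x * z) (hzM : z ∉ M) : commutator H ≤ M := by
  have htop : M ⊔ zpowers z = ⊤ :=
    hM.2 _ (lt_of_le_not_ge le_sup_left (fun h => hzM (h (mem_sup_right (mem_zpowers z)))))
  have hzp : ∀ w ∈ zpowers z, ∀ x : H, w * x = x * w := by
    intro w hw x
    have h1 : zpowers z ≤ centralizer ({x} : Set H) := by
      rw [zpowers_le]
      rw [mem_centralizer_iff]
      intro y hy
      rw [Set.mem_singleton_iff] at hy
      rw [hy]; exact (hz x).symm
    exact (mem_centralizer_iff.mp (h1 hw) x rfl).symm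
  rw [commutator_def, Subgroup.commutator_le]
  intro g₁ _ g₂ _
  have h1 : g₁ ∈ M ⊔ zpowers z := by rw [htop]; exact mem_top _
  have h2 : g₂ ∈ M ⊔ zpowers z := by rw [htop]; exact mem_top _
  have hzn : zpowers z ≤ normalizer (M : Set H) := by
    intro w hw
    rw [mem_normalizer_iff]
    intro h
    rw [hzp w hw h, mul_assoc, mul_inv_cancel, mul_one]
  obtain ⟨m₁, hm₁, w₁, hw₁, rfl⟩ := Helper35.exists_mul_of_mem_sup_of_le_normalizer hzn h1
  obtain ⟨m₂, hm₂, w₂, hw₂, rfl⟩ := Helper35.exists_mul_of_mem_sup_of_le_normalizer hzn h2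
  rw [commutatorElement_mul_central_left (hzp w₁ hw₁),
    commutatorElement_mul_central_right (hzp w₂ hw₂)]
  exact Subgroup.commutator_mem_commutator hm₁ hm₂ |> fun h =>
    (Subgroup.commutator_le.mpr (fun a ha b hb => by
      rw [commutatorElement_def]
      exact M.mul_mem (M.mul_mem (M.mul_mem ha hb) (M.inv_mem ha)) (M.inv_mem hb)) : ⁅M, M⁆ ≤ M) h

/-- A `p`-subgroup central in a subnormal subgroup lies in `O_p`. -/
theorem central_pgroup_of_subnormal_le_pCore {p : ℕ} [Fact p.Prime] {L W : Subgroup H}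
    (hL : L.IsSubnormal) (hWL : W ≤ L) (hWc : W ≤ centralizer (L : Set H))
    (hW : IsPGroup p ↥W) : W ≤ pCore p H := by
  have hsub : W.IsSubnormal := by
    refine IsSubnormal.step W L hWL hL ?_
    rw [normal_subgroupOf_iff_le_normalizer hWL]
    exact (le_centralizer_iff.mp hWc).trans (Subgroup.centralizer_le_normalizer _)
  exact Helper22.le_pCore_of_isSubnormal p hsub hW

variable [Finite H]

/-- Central elements of a subnormal subgroup have order prime to `p` when `O_p(H) = 1`. -/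
theorem orderOf_coprime_of_central_of_subnormal {p : ℕ} [Fact p.Prime] (hO : pCore p H = ⊥)
    {L : Subgroup H} (hL : L.IsSubnormal) {z : H} (hzL : z ∈ L)
    (hzc : z ∈ centralizer (L : Set H)) : (orderOf z).Coprime p := by
  have hpp : p.Prime := Fact.out
  rw [Nat.coprime_comm, Nat.Prime.coprime_iff_not_dvd hpp]
  intro hdvd
  have hn : orderOf z ≠ 0 := (orderOf_pos z).ne'
  set w : H := z ^ (orderOf z / p) with hw
  have hwo : orderOf w = p := orderOf_pow_orderOf_div hn hdvd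
  have hWp : IsPGroup p ↥(zpowers w) := by
    apply IsPGroup.of_card (n := 1)
    rw [Nat.card_zpowers, hwo, pow_one]
  have hWL : zpowers w ≤ L := by
    rw [zpowers_le]; exact L.pow_mem hzL _
  have hWc : zpowers w ≤ centralizer (L : Set H) := by
    rw [zpowers_le]; exact (centralizer (L : Set H)).pow_mem hzc _
  have h1 := central_pgroup_of_subnormal_le_pCore hL hWL hWc hWp
  rw [hO] at h1
  have h2 : w = 1 := by
    have := h1 (mem_zpowers w)
    rwa [mem_bot] at this
  rw [h2, orderOf_one] at hwo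
  exact hpp.one_lt.ne hwo

omit [Finite H] in
/-- `A` normalizes `X ⊓ Y` when it normalizes both. -/
theorem le_normalizer_inf {A X Y : Subgroup H} (hX : A ≤ normalizer (X : Set H))
    (hY : A ≤ normalizer (Y : Set H)) : A ≤ normalizer ((X ⊓ Y : Subgroup H) : Set H) := by
  intro a ha
  have h1 := hX ha
  have h2 := hY ha
  rw [mem_normalizer_iff] at h1 h2 ⊢
  intro y
  constructor
  · rintro ⟨hy1, hy2⟩; exact ⟨(h1 y).mp hy1, (h2 y).mp hy2⟩
  · rintro ⟨hy1, hy2⟩; exact ⟨(h1 y).mpr hy1, (h2 y).mpr hy2⟩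

/-- Meierfrankenfeld–Stellmacher–Stroth: `O_p(H) = 1`, `Q` a `p`-subgroup, `L = [F*(H), Q]`,
`F` the largest normal subgroup of `F*(H)` centralized by `Q`. Then `F = C_{F*(H)}(LQ)`,
`L = [L, Q]`, `L ∩ F ≤ Φ(L)`, every `p`-subgroup `B` of `N_H(Q)` with `[L, B] ≤ F` centralizes
`L`, and `C_H(FL)` is a `p'`-group. -/
theorem fstar_commutator_largest {p : ℕ} [Fact p.Prime] (hO : pCore p H = ⊥)
    (Q : Subgroup H) (hQ : IsPGroup p ↥Q) (L : Subgroup H)
    (hL : L = ⁅generalizedFittingSubgroup H, Q⁆) (F : Subgroup H)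
    (hF : F ≤ generalizedFittingSubgroup H ∧
      generalizedFittingSubgroup H ≤ normalizer (F : Set H) ∧
      Q ≤ centralizer (F : Set H) ∧
      ∀ N : Subgroup H, N ≤ generalizedFittingSubgroup H →
        generalizedFittingSubgroup H ≤ normalizer (N : Set H) →
        Q ≤ centralizer (N : Set H) → N ≤ F) :
    F = generalizedFittingSubgroup H ⊓ centralizer ((L ⊔ Q : Subgroup H) : Set H) ∧
    ⁅L, Q⁆ = L ∧ L ⊓ F ≤ (frattini ↥L).map L.subtype ∧
    (∀ B : Subgroup H, IsPGroup p ↥B → B ≤ normalizer (Q : Set H) → ⁅L, B⁆ ≤ F →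
      ⁅L, B⁆ = ⊥) ∧
    (Nat.card ↥(centralizer ((F ⊔ L : Subgroup H) : Set H))).Coprime p := by
  have hpp : p.Prime := Fact.out
  obtain ⟨hF1, hF2, hF3, hF4⟩ := hF
  set Fs : Subgroup H := generalizedFittingSubgroup H with hFs
  have hFn : Fs.Normal := Helper22.generalizedFittingSubgroup_normal H
  have hXF : ∀ X : Subgroup H, X ≤ normalizer (Fs : Set H) := by
    intro X; rw [normalizer_eq_top_iff.mpr hFn]; exact le_top
  have hcore := fstar_commutator_of_subnormal' hO Q hQ Fs le_rfl hFn.isSubnormal (hXF Q)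
  rw [← hL] at hcore
  obtain ⟨hc1, hc2⟩ := hcore
  have hLFs : L ≤ Fs := by rw [hL]; exact Helper35.commutator_le_of_le_normalizer (hXF Q)
  have hFsL : Fs ≤ normalizer (L : Set H) := by
    rw [hL]; exact le_normalizer_commutator_left Fs Q
  have hQL : Q ≤ normalizer (L : Set H) := by
    rw [hL]; exact Helper35.le_normalizer_commutator (hXF Q)
  have hLsn : L.IsSubnormal :=
    IsSubnormal.step L Fs hLFs hFn.isSubnormal ((normal_subgroupOf_iff_le_normalizer hLFs).mpr hFsL)
  have hQF : ⁅Q, F⁆ = ⊥ := commutator_eq_bot_iff_le_centralizer.mpr hF3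
  have hFQ : ⁅F, Q⁆ = ⊥ := by rw [commutator_comm]; exact hQF
  have hLF : ⁅L, F⁆ = ⊥ := by
    rw [hL]
    apply commutator_commutator_eq_bot_of_rotate
    · rw [hQF, commutator_bot_left]
    · rw [eq_bot_iff, ← hFQ]
      exact commutator_mono (Helper35.commutator_le_of_le_normalizer hF2) le_rfl
  have hLcF : L ≤ centralizer (F : Set H) := commutator_eq_bot_iff_le_centralizer.mp hLF
  have hFcL : F ≤ centralizer (L : Set H) := le_centralizer_iff.mp hLcF
  have hFcQ : F ≤ centralizer (Q : Set H) := le_centralizer_iff.mp hF3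
  have hcLQ : ∀ X : Subgroup H, X ≤ centralizer (L : Set H) → X ≤ centralizer (Q : Set H) →
      X ≤ centralizer ((L ⊔ Q : Subgroup H) : Set H) := by
    intro X h1 h2
    rw [le_centralizer_iff]
    exact sup_le (le_centralizer_iff.mp h1) (le_centralizer_iff.mp h2)
  have hpart1 : F = Fs ⊓ centralizer ((L ⊔ Q : Subgroup H) : Set H) := by
    apply le_antisymm
    · exact le_inf hF1 (hcLQ F hFcL hFcQ)
    · have hCL : Fs ⊓ centralizer ((L ⊔ Q : Subgroup H) : Set H) ≤ centralizer (L : Set H) :=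
        inf_le_right.trans (centralizer_le (SetLike.coe_subset_coe.mpr le_sup_left))
      have hCQ : Fs ⊓ centralizer ((L ⊔ Q : Subgroup H) : Set H) ≤ centralizer (Q : Set H) :=
        inf_le_right.trans (centralizer_le (SetLike.coe_subset_coe.mpr le_sup_right))
      refine hF4 _ inf_le_left ?_ (le_centralizer_iff.mp hCQ)
      have hsplit : Fs ≤ L ⊔ (Fs ⊓ centralizer (Q : Set H)) := hc1.ge
      refine hsplit.trans (sup_le ?_ ?_)
      · exact (le_centralizer_iff.mp hCL).trans (Subgroup.centralizer_le_normalizer _)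
      · apply le_normalizer_inf (hXF _)
        have h1 : Fs ⊓ centralizer (Q : Set H) ≤ normalizer ((L ⊔ Q : Subgroup H) : Set H) :=
          Helper35.le_normalizer_sup (inf_le_left.trans hFsL)
            (inf_le_right.trans (Subgroup.centralizer_le_normalizer _))
        exact h1.trans (Helper22.normalizer_le_normalizer_centralizer _)
  have hpart3 : L ⊓ F ≤ (frattini ↥L).map L.subtype := by
    intro z hz
    obtain ⟨hzL, hzF⟩ := hz
    refine ⟨⟨z, hzL⟩, ?_, rfl⟩
    have hzcL : z ∈ centralizer (L : Set H) := hFcL hzF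
    have hzcQ : z ∈ centralizer (Q : Set H) := hFcQ hzF
    have hord : (orderOf z).Coprime p :=
      orderOf_coprime_of_central_of_subnormal hO hLsn hzL hzcL
    have hpow := pow_card_mem_commutator_of_le_commutator hQL hc2.le hzL hzcQ
    obtain ⟨k, hk⟩ := IsPGroup.iff_card.mp hQ
    have hcop : (Nat.card ↥Q).Coprime (orderOf (⟨z, hzL⟩ : ↥L)) := by
      rw [hk, Subgroup.orderOf_mk]
      exact Nat.Coprime.pow_left k hord.symm
    obtain ⟨m, hm⟩ := exists_pow_eq_self_of_coprime hcop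
    have hcent : ∀ x : ↥L, (⟨z, hzL⟩ : ↥L) * x = x * ⟨z, hzL⟩ := by
      intro x
      apply Subtype.ext
      exact (mem_centralizer_iff.mp hzcL x x.2).symm
    show (⟨z, hzL⟩ : ↥L) ∈ frattini ↥L
    rw [frattini, Order.radical]
    simp only [Subgroup.mem_iInf]
    intro M hM
    by_contra hzM
    have h1 := commutator_le_coatom_of_central_not_mem hM hcent hzM
    apply hzM
    rw [← hm]
    exact M.pow_mem (h1 hpow) m
  have hpart4 : ∀ B : Subgroup H, IsPGroup p ↥B → B ≤ normalizer (Q : Set H) → ⁅L, B⁆ ≤ F →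
      ⁅L, B⁆ = ⊥ := by
    intro B hB hBQ hW
    have hBL : B ≤ normalizer (L : Set H) := by
      rw [hL]; exact Helper35.le_normalizer_commutator' (hXF B) hBQ
    have hBW : B ≤ normalizer ((⁅L, B⁆ : Subgroup H) : Set H) :=
      Helper35.le_normalizer_commutator hBL
    have hWcQ : ⁅L, B⁆ ≤ centralizer (Q : Set H) := hW.trans hFcQ
    have hQW : Q ≤ normalizer ((⁅L, B⁆ : Subgroup H) : Set H) :=
      (le_centralizer_iff.mp hWcQ).trans (Subgroup.centralizer_le_normalizer _)
    have hQ₀Q : ⁅B, Q⁆ ≤ Q := by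
      rw [commutator_comm]; exact Helper35.commutator_le_of_le_normalizer hBQ
    have hQ₀p : IsPGroup p ↥(⁅B, Q⁆ : Subgroup H) := hQ.to_le hQ₀Q
    have h1 : ⁅⁅B, Q⁆, L⁆ ≤ ⁅L, B⁆ := by
      apply commutator_le_of_forall_le_commSub
      intro l hl
      rw [Subgroup.commutator_le]
      intro b hb q hq
      refine ⟨?_, ?_⟩
      · rw [commutatorElement_def]
        exact mul_mem (mul_mem (mul_mem (hBW hb) (hQW hq)) (inv_mem (hBW hb))) (inv_mem (hQW hq))
      · have hid : ⁅⁅b, q⁆, l⁆ = b * (q * ⁅b⁻¹, q⁻¹ * l * q⁆ * q⁻¹) * b⁻¹ * ⁅b, l⁆ := by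
          simp only [commutatorElement_def]; group
        rw [hid]
        have hl₁ : q⁻¹ * l * q ∈ L := by
          have := (mem_normalizer_iff.mp (hQL (Q.inv_mem hq)) l).mp hl
          simpa using this
        have hw₁ : ⁅b⁻¹, q⁻¹ * l * q⁆ ∈ ⁅L, B⁆ := by
          have h := commutator_mem_commutator hl₁ (B.inv_mem hb)
          have h' := (⁅L, B⁆).inv_mem h
          rwa [commutatorElement_inv] at h'
        have hw₂ : q * ⁅b⁻¹, q⁻¹ * l * q⁆ * q⁻¹ ∈ ⁅L, B⁆ :=
          (mem_normalizer_iff.mp (hQW hq) _).mp hw₁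
        have hw₃ : b * (q * ⁅b⁻¹, q⁻¹ * l * q⁆ * q⁻¹) * b⁻¹ ∈ ⁅L, B⁆ :=
          (mem_normalizer_iff.mp (hBW hb) _).mp hw₂
        have hw₄ : ⁅b, l⁆ ∈ ⁅L, B⁆ := by
          have h := commutator_mem_commutator hl hb
          have h' := (⁅L, B⁆).inv_mem h
          rwa [commutatorElement_inv] at h'
        exact (⁅L, B⁆).mul_mem hw₃ hw₄
    have hLQ₀ : ⁅L, ⁅B, Q⁆⁆ ≤ ⁅L, B⁆ := by rw [commutator_comm]; exact h1
    have hQ₀L : ⁅B, Q⁆ ≤ normalizer (L : Set H) := hQ₀Q.trans hQL
    have hcore2 := (fstar_commutator_of_subnormal' hO ⁅B, Q⁆ hQ₀p L hLFs hLsn hQ₀L).2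
    have hLQ₀bot : ⁅L, ⁅B, Q⁆⁆ = ⊥ := by
      rw [eq_bot_iff, hcore2]
      calc ⁅⁅L, ⁅B, Q⁆⁆, ⁅B, Q⁆⁆ ≤ ⁅F, Q⁆ := commutator_mono (hLQ₀.trans hW) hQ₀Q
        _ = ⊥ := hFQ
    have hLcQ₀ : L ≤ centralizer ((⁅B, Q⁆ : Subgroup H) : Set H) :=
      commutator_eq_bot_iff_le_centralizer.mp hLQ₀bot
    have key : ∀ b ∈ B, ∀ x ∈ L, ∀ q ∈ Q, ⁅q * x * q⁻¹, b⁆ = ⁅x, b⁆ := by
      intro b hb x hx q hq
      have hid : ⁅q * x * q⁻¹, b⁆ = q * (⁅x, b⁆ * (b * ⁅x, ⁅b⁻¹, q⁻¹⁆⁆ * b⁻¹)) * q⁻¹ := by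
        simp only [commutatorElement_def]; group
      have hq₀ : ⁅b⁻¹, q⁻¹⁆ ∈ ⁅B, Q⁆ := commutator_mem_commutator (B.inv_mem hb) (Q.inv_mem hq)
      have h2 : ⁅x, ⁅b⁻¹, q⁻¹⁆⁆ = 1 := by
        rw [commutatorElement_eq_one_iff_mul_comm]
        exact (mem_centralizer_iff.mp (hLcQ₀ hx) _ hq₀).symm
      have h3 : ⁅x, b⁆ ∈ ⁅L, B⁆ := commutator_mem_commutator hx hb
      have h4 := mem_centralizer_iff.mp (hWcQ h3) q hq
      rw [hid, h2, mul_one, mul_inv_cancel, mul_one, h4, mul_assoc, mul_inv_cancel, mul_one]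
    have hLcB : L ≤ centralizer (B : Set H) := by
      refine hc2.le.trans ?_
      rw [Subgroup.commutator_le]
      intro l hl q hq
      rw [mem_centralizer_iff]
      intro b hb
      have hid : ⁅⁅l, q⁆, b⁆ = l * ⁅q * l⁻¹ * q⁻¹, b⁆ * l⁻¹ * ⁅l, b⁆ := by
        simp only [commutatorElement_def]; group
      have h5 : ⁅⁅l, q⁆, b⁆ = 1 := by
        rw [hid, key b hb l⁻¹ (L.inv_mem hl) q hq]
        simp only [commutatorElement_def]; group
      exact (commutatorElement_eq_one_iff_mul_comm.mp h5).symm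
    exact commutator_eq_bot_iff_le_centralizer.mpr hLcB
  have hpart5 : (Nat.card ↥(centralizer ((F ⊔ L : Subgroup H) : Set H))).Coprime p := by
    have hP : ∀ P : Subgroup H, IsPGroup p ↥P →
        P ≤ centralizer ((F ⊔ L : Subgroup H) : Set H) → P = ⊥ := by
      intro P hPp hPc
      have hNFs : Fs ⊓ centralizer (L : Set H) ≤ Fs := inf_le_left
      have hFsN : Fs ≤ normalizer ((Fs ⊓ centralizer (L : Set H) : Subgroup H) : Set H) :=
        le_normalizer_inf (hXF _) (hFsL.trans (Helper22.normalizer_le_normalizer_centralizer _))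
      have hQN : Q ≤ normalizer ((Fs ⊓ centralizer (L : Set H) : Subgroup H) : Set H) :=
        le_normalizer_inf (hXF _) (hQL.trans (Helper22.normalizer_le_normalizer_centralizer _))
      have hNsn : (Fs ⊓ centralizer (L : Set H)).IsSubnormal :=
        IsSubnormal.step _ Fs hNFs hFn.isSubnormal
          ((normal_subgroupOf_iff_le_normalizer hNFs).mpr hFsN)
      have hN1 := (fstar_commutator_of_subnormal' hO Q hQ _ hNFs hNsn hQN).1
      have hNle : Fs ⊓ centralizer (L : Set H) ≤ F ⊔ L := by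
        refine hN1.ge.trans (sup_le ?_ ?_)
        · refine (commutator_mono hNFs le_rfl).trans ?_
          rw [← hL]; exact le_sup_right
        · refine le_trans ?_ le_sup_left
          have h1 : Fs ⊓ centralizer (L : Set H) ⊓ centralizer (Q : Set H) ≤
              Fs ⊓ centralizer ((L ⊔ Q : Subgroup H) : Set H) :=
            le_inf (inf_le_left.trans hNFs) (hcLQ _ (inf_le_left.trans inf_le_right) inf_le_right)
          exact h1.trans hpart1.ge
      have hNP : Fs ⊓ centralizer (L : Set H) ≤ centralizer (P : Set H) :=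
        hNle.trans (le_centralizer_iff.mp hPc)
      have hMFs : ⁅Fs, P⁆ ≤ Fs := Helper35.commutator_le_of_le_normalizer (hXF P)
      have hPL : ⁅P, L⁆ = ⊥ :=
        commutator_eq_bot_iff_le_centralizer.mpr
          (hPc.trans (centralizer_le (SetLike.coe_subset_coe.mpr le_sup_right)))
      have hML : ⁅⁅Fs, P⁆, L⁆ = ⊥ := by
        apply commutator_commutator_eq_bot_of_rotate
        · rw [hPL, commutator_bot_left]
        · rw [eq_bot_iff]
          calc ⁅⁅L, Fs⁆, P⁆ ≤ ⁅L, P⁆ :=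
                commutator_mono (Helper35.commutator_le_of_le_normalizer hFsL) le_rfl
            _ = ⊥ := by rw [commutator_comm]; exact hPL
      have hMN : ⁅Fs, P⁆ ≤ Fs ⊓ centralizer (L : Set H) :=
        le_inf hMFs (commutator_eq_bot_iff_le_centralizer.mp hML)
      have hMP : ⁅⁅Fs, P⁆, P⁆ = ⊥ :=
        commutator_eq_bot_iff_le_centralizer.mpr (hMN.trans hNP)
      exact (fstar_commutator_subnormal_eq hO P hPp).2 P le_rfl hMP
    rw [Nat.coprime_comm, Nat.Prime.coprime_iff_not_dvd hpp]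
    intro hdvd
    let S : Sylow p ↥(centralizer ((F ⊔ L : Subgroup H) : Set H)) := default
    have h1 : (S : Subgroup ↥(centralizer ((F ⊔ L : Subgroup H) : Set H))) ≠ ⊥ :=
      S.ne_bot_of_dvd_card hdvd
    have h2 : ((S : Subgroup ↥(centralizer ((F ⊔ L : Subgroup H) : Set H))).map
        (centralizer ((F ⊔ L : Subgroup H) : Set H)).subtype) = ⊥ :=
      hP _ (S.isPGroup'.map _) (map_subtype_le _)
    exact h1 ((map_eq_bot_iff_of_injective _ (subtype_injective _)).mp h2)
  exact ⟨hpart1, hc2.symm, hpart3, hpart4, hpart5⟩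

end Largest

end Cfsg.Agent.Helper34
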