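import Mathlib
import Cfsg.Agent.Helper90.HTDefs

set_option autoImplicit false

/-! CALL S5953 piece HORTH (helper34). -/

namespace Cfsg.Agent.Helper34.HT5953

open Module Polynomial Cfsg.Agent.Helper90.HT

section geom

variable {F : Type*} [Field F] {V : Type*} [AddCommGroup V] [Module F V] [FiniteDimensional F V]
  (σ : F →+* F) (h : V → V → F)

/-- HORTH: the perp of `W` inside a nondegenerate `D`. -/
theorem ht_orth (hh : IsHerm σ h) (D W : Submodule F V) (hD : HNondegOn h D) (hW : W ≤ D) :
    ∃ P : Submodule F V, (∀ v, v ∈ P ↔ v ∈ D ∧ ∀ w ∈ W, h v w = 0) ∧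
      finrank F P + finrank F W = finrank F D := by
  classical
  let b : Basis (Fin (finrank F W)) F W := Module.finBasis F W
  let ψ : D →ₗ[F] (Fin (finrank F W) → F) :=
    { toFun := fun v i => h (v : V) (b i : V)
      map_add' := fun u v => by
        funext i
        simp only [Submodule.coe_add, Pi.add_apply]
        exact hh.add_left _ _ _
      map_smul' := fun a v => by
        funext i
        simp only [Submodule.coe_smul, Pi.smul_apply, RingHom.id_apply, smul_eq_mul]
        exact hh.smul_left _ _ _ }
  have hψ : ∀ (v : D) i, ψ v i = h (v : V) (b i : V) := fun v i => rfl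
  have hσinj : Function.Injective σ := RingHom.injective σ
  have hexp : ∀ (v : V) (w : W), h v (w : V) = ∑ i, σ (b.repr w i) * h v (b i : V) := by
    intro v w
    have h0 : (w : V) = ∑ i, b.repr w i • (b i : V) := by
      have h00 := congrArg Subtype.val (b.sum_repr w).symm
      rw [h00, Submodule.coe_sum]
      refine Finset.sum_congr rfl fun i _ => ?_
      rw [Submodule.coe_smul]
    rw [h0, hh.sum_right]
    refine Finset.sum_congr rfl fun i _ => ?_
    rw [hh.smul_right]
  have hsurj : LinearMap.range ψ = ⊤ := by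
    by_contra hne
    obtain ⟨f, hf0, hfle⟩ :=
      Submodule.exists_le_ker_of_lt_top _ (lt_top_iff_ne_top.mpr hne)
    let c : Fin (finrank F W) → F := fun i => f (Pi.single i 1)
    have hf : ∀ x : Fin (finrank F W) → F, f x = ∑ i, x i * c i := by
      intro x
      have h1 : x = ∑ i, x i • (Pi.single i 1 : Fin (finrank F W) → F) := by
        funext j
        simp [Finset.sum_apply, Pi.single_apply]
      conv_lhs => rw [h1]
      rw [map_sum]
      refine Finset.sum_congr rfl fun i _ => ?_
      rw [map_smul, smul_eq_mul]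
    let w : W := ∑ i, σ (c i) • b i
    have hr : ∀ i, b.repr w i = σ (c i) := by
      intro i
      simp only [w]
      rw [b.repr_sum_self]
    have hw : ∀ v ∈ D, h v (w : V) = 0 := by
      intro v hv
      rw [hexp]
      have h1 := hfle (LinearMap.mem_range_self ψ ⟨v, hv⟩)
      rw [LinearMap.mem_ker, hf] at h1
      rw [← h1]
      refine Finset.sum_congr rfl fun i _ => ?_
      rw [hr, hh.invol, hψ, mul_comm]
    have hw0 : (w : V) = 0 := hD _ (hW w.2) (fun v hv => hh.eq_zero_symm (hw v hv))
    have hw0' : w = 0 := Subtype.ext hw0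
    have hc : ∀ i, c i = 0 := by
      intro i
      have h1 : b.repr w i = 0 := by rw [hw0']; simp
      rw [hr i] at h1
      apply hσinj
      rw [h1, map_zero]
    apply hf0
    apply LinearMap.ext
    intro x
    rw [hf]
    simp [hc]
  refine ⟨(LinearMap.ker ψ).map D.subtype, ?_, ?_⟩
  · intro v
    constructor
    · rintro ⟨⟨v', hv'D⟩, hv'k, rfl⟩
      refine ⟨hv'D, fun w hw => ?_⟩
      show h v' w = 0
      rw [hexp v' ⟨w, hw⟩]
      apply Finset.sum_eq_zero
      intro i _
      have h1 : ψ ⟨v', hv'D⟩ i = 0 := by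
        rw [LinearMap.mem_ker.mp hv'k]
        rfl
      rw [hψ] at h1
      rw [h1, mul_zero]
    · rintro ⟨hvD, hvW⟩
      refine ⟨⟨v, hvD⟩, ?_, rfl⟩
      show (⟨v, hvD⟩ : D) ∈ LinearMap.ker ψ
      rw [LinearMap.mem_ker]
      funext i
      exact hvW _ (b i).2
  · have h1 := LinearMap.finrank_range_add_finrank_ker ψ
    rw [hsurj, finrank_top, Module.finrank_fin_fun] at h1
    have h2 : finrank F ((LinearMap.ker ψ).map D.subtype) = finrank F (LinearMap.ker ψ) :=
      LinearEquiv.finrank_eq
        (Submodule.equivMapOfInjective _ D.injective_subtype _).symm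
    rw [h2]
    omega

end geom

end Cfsg.Agent.Helper34.HT5953
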