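/-
Helper library of seat helper34: isolated elements of odd prime order in groups of `p`-rank at
most 2 with `O_{p'}(G) = 1`: the generalized Fitting subgroup is simple.
-/
import Mathlib
import Cfsg.Prelude.Def_IsolatedElements
import Cfsg.Prelude.Def_CaseTheorems
import Cfsg.Agent.Helper34.CycSyl
import Cfsg.Agent.Helper22.Bender
import Cfsg.Agent.Helper50.SubnSylow
import Cfsg.Agent.Helper70.FrobComp
import Cfsg.Agent.Helper33.Frobenius
import Cfsg.Agent.Helper35.Coprime
import Cfsg.Agent.Helper68.Nilp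
import Cfsg.Agent.S1946
import Cfsg.Agent.S0126

set_option autoImplicit false

namespace Cfsg.Agent.Helper34

open Cfsg Subgroup
open scoped commutatorElement

section Isolated

variable {G : Type*} [Group G]

/-- `g * a * g⁻¹ = a` from `g * a = a * g`. -/
theorem iso_conj_eq_of_comm {g a : G} (h : g * a = a * g) : g * a * g⁻¹ = a := by
  rw [h, mul_assoc, mul_inv_cancel, mul_one]

/-- `g * a = a * g` from `g * a * g⁻¹ = a`. -/
theorem iso_comm_of_conj_eq {g a : G} (h : g * a * g⁻¹ = a) : g * a = a * g := by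
  calc g * a = g * a * g⁻¹ * g := by group
    _ = a * g := by rw [h]

/-- If `g` commutes with `b` then it commutes with every element of `⟨b⟩`. -/
theorem iso_comm_of_mem_zpowers {g b a : G} (h : g * b = b * g) (ha : a ∈ zpowers b) :
    g * a = a * g := by
  have h1 : zpowers b ≤ centralizer ({g} : Set G) := by
    rw [zpowers_le, mem_centralizer_iff]
    intro y hy
    rw [Set.mem_singleton_iff] at hy
    rw [hy]; exact h
  exact mem_centralizer_iff.mp (h1 ha) g rfl

/-- In a cyclic group of prime order every nontrivial element is a generator. -/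
theorem iso_mem_zpowers_of_prime {p : ℕ} [Fact p.Prime] {x m : G} (hx : orderOf x = p)
    (hm : m ∈ zpowers x) (hm1 : m ≠ 1) : x ∈ zpowers m := by
  have hcard : Nat.card ↥(zpowers x) = p := by rw [Nat.card_zpowers, hx]
  have hne : (⟨m, hm⟩ : ↥(zpowers x)) ≠ 1 := fun h => hm1 (congrArg Subtype.val h)
  have htop := zpowers_eq_top_of_prime_card hcard hne
  have hmem : (⟨x, mem_zpowers x⟩ : ↥(zpowers x)) ∈ zpowers (⟨m, hm⟩ : ↥(zpowers x)) := by
    rw [htop]; exact mem_top _
  obtain ⟨k, hk⟩ := mem_zpowers_iff.mp hmem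
  exact mem_zpowers_iff.mpr ⟨k, by simpa using congrArg Subtype.val hk⟩

/-- An element with `a ^ p = 1`, `a ≠ 1` has order `p`. -/
theorem iso_orderOf_eq_prime {p : ℕ} [Fact p.Prime] {a : G} (h : a ^ p = 1) (h1 : a ≠ 1) :
    orderOf a = p := orderOf_eq_prime h h1

/-- A decomposition `y = n * m` for `y ∈ ⟨a⟩ ⊔ ⟨b⟩` with `a`, `b` commuting. -/
theorem iso_exists_mul_of_mem_sup_zpowers {a b y : G} (hab : a * b = b * a)
    (hy : y ∈ zpowers a ⊔ zpowers b) : ∃ n ∈ zpowers a, ∃ m ∈ zpowers b, y = n * m := by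
  apply Helper35.exists_mul_of_mem_sup_of_le_normalizer _ hy
  have h1 : zpowers b ≤ centralizer ((zpowers a : Subgroup G) : Set G) := by
    rw [zpowers_le, mem_centralizer_iff]
    intro y hy
    exact (iso_comm_of_mem_zpowers hab.symm hy).symm
  exact h1.trans (Subgroup.centralizer_le_normalizer _)

/-- A proper inclusion of finite `p`-groups multiplies the order by at least `p`. -/
theorem iso_mul_card_le_of_lt [Finite G] {p : ℕ} [Fact p.Prime] {H K : Subgroup G}
    (hK : IsPGroup p ↥K) (h : H < K) : p * Nat.card ↥H ≤ Nat.card ↥K := by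
  have hpp : p.Prime := Fact.out
  obtain ⟨n, hn⟩ := IsPGroup.iff_card.mp hK
  obtain ⟨m, hm⟩ := IsPGroup.iff_card.mp (hK.to_le h.le)
  have hlt : Nat.card ↥H < Nat.card ↥K := Helper70.card_lt_card_of_lt h
  rw [hn, hm] at hlt ⊢
  have hmn : m < n := (Nat.pow_lt_pow_iff_right hpp.one_lt).mp hlt
  calc p * p ^ m = p ^ (m + 1) := by rw [pow_succ, mul_comm]
    _ ≤ p ^ n := Nat.pow_le_pow_right hpp.pos hmn

/-- In a group of `p`-rank at most 2, pairwise commuting elements `a`, `b`, `y` of order dividing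
`p` with `a ≠ 1`, `b ∉ ⟨a⟩` satisfy `y ∈ ⟨a⟩⟨b⟩`. -/
theorem iso_mem_sup_zpowers_of_pRankLE [Finite G] {p : ℕ} [Fact p.Prime] (hrank : PRankLE p 2 G)
    {a b y : G} (ha : a ^ p = 1) (hb : b ^ p = 1) (hy : y ^ p = 1) (ha1 : a ≠ 1)
    (hba : b ∉ zpowers a) (hab : a * b = b * a) (hay : a * y = y * a) (hby : b * y = y * b) :
    y ∈ zpowers a ⊔ zpowers b := by
  have hpp : p.Prime := Fact.out
  by_contra hyn
  set B : Subgroup G := closure ({a, b, y} : Set G) with hB
  have hsub : ({a, b, y} : Set G) ⊆ centralizer ({a, b, y} : Set G) := by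
    intro u hu
    rw [SetLike.mem_coe, mem_centralizer_iff]
    intro v hv
    simp only [Set.mem_insert_iff, Set.mem_singleton_iff] at hu hv
    rcases hu with rfl | rfl | rfl <;> rcases hv with rfl | rfl | rfl
    · rfl
    · exact hab.symm
    · exact hay.symm
    · exact hab
    · rfl
    · exact hby.symm
    · exact hay
    · exact hby
    · rfl
  have hBc : B ≤ centralizer (B : Set G) := by
    have h1 : B ≤ centralizer ({a, b, y} : Set G) := (closure_le _).mpr hsub
    have h2 : ({a, b, y} : Set G) ⊆ centralizer (B : Set G) := by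
      intro u hu
      rw [SetLike.mem_coe, mem_centralizer_iff]
      intro v hv
      exact (mem_centralizer_iff.mp (h1 hv) u hu).symm
    exact (closure_le _).mpr h2
  have hBcomm : IsMulCommutative ↥B := le_centralizer_iff_isMulCommutative.mp hBc
  have hBexp : ∀ g ∈ B, g ^ p = 1 := by
    intro g hg
    induction hg using Subgroup.closure_induction with
    | mem u hu =>
      simp only [Set.mem_insert_iff, Set.mem_singleton_iff] at hu
      rcases hu with rfl | rfl | rfl
      · exact ha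
      · exact hb
      · exact hy
    | one => exact one_pow p
    | mul u v hu hv ihu ihv =>
      have hc : Commute u v := (mem_centralizer_iff.mp (hBc hv) u hu)
      rw [hc.mul_pow, ihu, ihv, one_mul]
    | inv u hu ihu => rw [inv_pow, ihu, inv_one]
  have hcard : Nat.card ↥B ≤ p ^ 2 := hrank B hBcomm hBexp
  have hBp : IsPGroup p ↥B := by
    intro g
    refine ⟨1, Subtype.ext ?_⟩
    simpa using hBexp g g.2
  have haB : a ∈ B := subset_closure (by simp)
  have hbB : b ∈ B := subset_closure (by simp)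
  have hyB : y ∈ B := subset_closure (by simp)
  have h1 : zpowers a < zpowers a ⊔ zpowers b :=
    lt_of_le_not_ge le_sup_left (fun h => hba (h (mem_sup_right (mem_zpowers b))))
  have h2 : zpowers a ⊔ zpowers b < B := by
    refine lt_of_le_not_ge (sup_le ((zpowers_le).mpr haB) ((zpowers_le).mpr hbB)) ?_
    intro h
    exact hyn (h hyB)
  have hca : Nat.card ↥(zpowers a) = p := by
    rw [Nat.card_zpowers, iso_orderOf_eq_prime ha ha1]
  have h3 := iso_mul_card_le_of_lt (hBp.to_le h2.le) h1
  have h4 := iso_mul_card_le_of_lt hBp h2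
  rw [hca] at h3
  have h5 : p * (p * p) ≤ p ^ 2 := (Nat.mul_le_mul_left p h3).trans (h4.trans hcard)
  have h6 : p ^ 2 < p * (p * p) := by
    have := hpp.one_lt
    nlinarith [hpp.pos]
  omega

/-- An isolated element of a finite `p`-subgroup `P` is central in `P`. -/
theorem iso_central_of_mem_pgroup [Finite G] {p : ℕ} [Fact p.Prime] {x : G} (hiso : IsIsolated x)
    {P : Subgroup G} (hP : IsPGroup p ↥P) (hxP : x ∈ P) : ∀ y ∈ P, y * x = x * y := by
  by_contra hcon
  push Not at hcon
  obtain ⟨y, hyP, hy⟩ := hcon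
  have hlt : P ⊓ centralizer ({x} : Set G) < P := by
    refine lt_of_le_not_ge inf_le_left ?_
    intro h
    have h0 : y ∈ centralizer ({x} : Set G) := (h hyP).2
    rw [mem_centralizer_iff] at h0
    exact hy (h0 x rfl).symm
  obtain ⟨g, hgP, hgN, hgC⟩ := Helper70.exists_mem_normalizer_not_mem_of_lt P _ hP hlt
  have hxC0 : x ∈ centralizer ({x} : Set G) := by
    rw [mem_centralizer_iff]; intro h hh; rw [Set.mem_singleton_iff] at hh; rw [hh]
  have hxC : x ∈ P ⊓ centralizer ({x} : Set G) := ⟨hxP, hxC0⟩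
  have h1 : g * x * g⁻¹ ∈ P ⊓ centralizer ({x} : Set G) := (mem_normalizer_iff.mp hgN x).mp hxC
  have h1' : g * x * g⁻¹ ∈ centralizer ({x} : Set G) := h1.2
  have h2 : Commute x (g * x * g⁻¹) := mem_centralizer_iff.mp h1' x rfl
  have h3 := hiso g h2
  apply hgC
  have hgC0 : g ∈ centralizer ({x} : Set G) := by
    rw [mem_centralizer_iff]
    intro h hh
    rw [Set.mem_singleton_iff] at hh
    rw [hh]
    exact (iso_comm_of_conj_eq h3).symm
  exact ⟨hgP, hgC0⟩

/-- For odd `p`: if no element of order dividing `p` of a Sylow `p`-subgroup `P` is fused in `G` to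
another element of `P`, then `G` has a normal `p`-complement. -/
theorem iso_hasNormalPComplement_of_no_fusion [Finite G] {p : ℕ} [Fact p.Prime] (hp : p ≠ 2)
    (P : Sylow p G)
    (h : ∀ a ∈ (P : Subgroup G), a ^ p = 1 → ∀ g : G, g * a * g⁻¹ ∈ (P : Subgroup G) →
      g * a * g⁻¹ = a) : HasNormalPComplement p G := by
  rw [Cfsg.Agent.S1946.result P]
  intro a ha hsm g hg
  rcases hsm with hsm | ⟨h2, -⟩
  · exact ⟨1, one_mem _, by rw [h a ha hsm g hg]; simp⟩
  · exact absurd h2 hp

/-- A subnormal subgroup with a normal `p`-complement is a `p`-group when `O_{p'}(G) = 1`. -/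
theorem iso_isPGroup_of_hasNormalPComplement [Finite G] {p : ℕ} [Fact p.Prime]
    (hcore : pPrimeCore p G = ⊥) {M : Subgroup G} (hM : M.IsSubnormal)
    (h : HasNormalPComplement p ↥M) : IsPGroup p ↥M := by
  obtain ⟨K, hKn, hKc, hKm⟩ := Helper33.hasNormalPComplement_iff_p'.mp h
  have hsub : (K.map M.subtype).IsSubnormal := hKn.isSubnormal.trans' hM
  have hc : (Nat.card ↥(K.map M.subtype)).Coprime p := by
    rw [Subgroup.card_map_of_injective M.subtype_injective]; exact hKc
  have hle := le_pPrimeCore_of_subnormal hsub hc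
  rw [hcore] at hle
  have hK : K = ⊥ :=
    (map_eq_bot_iff_of_injective _ M.subtype_injective).mp (le_bot_iff.mp hle)
  apply Helper68.isPGroup_of_forall_pprime_eq_one p M
  intro y hy hnd
  have hpp : p.Prime := Fact.out
  have hcop : (orderOf (⟨y, hy⟩ : ↥M)).Coprime p := by
    rw [Subgroup.orderOf_mk, Nat.coprime_comm]
    exact (Nat.Prime.coprime_iff_not_dvd hpp).mpr hnd
  have := hKm ⟨y, hy⟩ hcop
  rw [hK, mem_bot] at this
  exact congrArg Subtype.val this

/-- Step 1: an isolated noncentral element of odd prime order `p` in a group of `p`-rank at most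
2 with `O_{p'}(G) = 1` forces `O_p(G) = 1`. -/
theorem iso_pCore_eq_bot [Finite G] {p : ℕ} [Fact p.Prime] (hp : p ≠ 2)
    (hcore : pPrimeCore p G = ⊥) (hrank : PRankLE p 2 G) {x : G} (hx : orderOf x = p)
    (hiso : IsIsolated x) (hnc : x ∉ center G) : pCore p G = ⊥ := by
  have hpp : p.Prime := Fact.out
  by_contra hne
  have hxp : x ^ p = 1 := by rw [← hx]; exact pow_orderOf_eq_one x
  have hzpx : IsPGroup p ↥(zpowers x) := by
    apply IsPGroup.of_card (n := 1); rw [Nat.card_zpowers, hx, pow_one]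
  obtain ⟨P, hP⟩ := hzpx.exists_le_sylow
  have hxP : x ∈ (P : Subgroup G) := hP (mem_zpowers x)
  have hxZ : ∀ y ∈ (P : Subgroup G), y * x = x * y :=
    iso_central_of_mem_pgroup hiso P.isPGroup' hxP
  have hOn : (pCore p G).Normal := Cfsg.pCore_normal p G
  have hOP : pCore p G ≤ P := Helper10.pCore_le_sylow P
  have hxO : x ∉ pCore p G := by
    intro h
    apply hnc
    rw [mem_center_iff]
    intro g
    have h1 : g * x * g⁻¹ ∈ pCore p G := hOn.conj_mem x h g
    have h2 : Commute x (g * x * g⁻¹) := (hxZ _ (hOP h1)).symm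
    exact iso_comm_of_conj_eq (hiso g h2)
  -- a central element of order `p` in `O_p(G)`
  obtain ⟨z, hzO, hzc, hz⟩ : ∃ z ∈ pCore p G, (∀ y ∈ (P : Subgroup G), y * z = z * y) ∧
      orderOf z = p := by
    have hN : ((pCore p G).subgroupOf (P : Subgroup G)) ≠ ⊥ := by
      intro h
      apply hne
      rw [eq_bot_iff]
      intro y hy
      have h1 : (⟨y, hOP hy⟩ : ↥(P : Subgroup G)) ∈ (pCore p G).subgroupOf (P : Subgroup G) :=
        mem_subgroupOf.mpr hy
      rw [h, mem_bot] at h1
      exact mem_bot.mpr (congrArg Subtype.val h1)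
    obtain ⟨z, hzN, hzc, hzo⟩ := Cfsg.Agent.S0126.exists_central_order_p P.isPGroup'
      ((pCore p G).subgroupOf (P : Subgroup G)) hN
    refine ⟨(z : G), mem_subgroupOf.mp hzN, ?_, ?_⟩
    · intro y hy
      exact congrArg Subtype.val (mem_center_iff.mp hzc ⟨y, hy⟩)
    · rw [Subgroup.orderOf_coe]; exact hzo
  have hzp1 : z ^ p = 1 := by rw [← hz]; exact pow_orderOf_eq_one z
  have hz1 : z ≠ 1 := by intro h; rw [h, orderOf_one] at hz; exact hpp.one_lt.ne hz
  have hzP : z ∈ (P : Subgroup G) := hOP hzO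
  have hzx : z * x = x * z := hxZ z hzP
  have hxz : x ∉ zpowers z := fun h => hxO ((zpowers_le.mpr hzO) h)
  have hA : ∀ y ∈ (P : Subgroup G), y ^ p = 1 → y ∈ zpowers z ⊔ zpowers x := by
    intro y hy hyp
    exact iso_mem_sup_zpowers_of_pRankLE hrank hzp1 hxp hyp hz1 hxz hzx (hzc y hy).symm
      (hxZ y hy).symm
  have hB : ∀ y ∈ pCore p G, y ^ p = 1 → y ∈ zpowers z := by
    intro y hy hyp
    obtain ⟨n, hn, m, hm, rfl⟩ := iso_exists_mul_of_mem_sup_zpowers hzx (hA y (hOP hy) hyp)
    have hnO : n ∈ pCore p G := (zpowers_le.mpr hzO) hn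
    have hmO : m ∈ pCore p G := by
      have : m = n⁻¹ * (n * m) := by group
      rw [this]; exact mul_mem (inv_mem hnO) hy
    by_cases hm1 : m = 1
    · rw [hm1, mul_one]; exact hn
    · exact absurd ((zpowers_le.mpr hmO) (iso_mem_zpowers_of_prime hx hm hm1)) hxO
  have hC : ∀ g : G, g * z * g⁻¹ ∈ zpowers z := by
    intro g
    apply hB _ (hOn.conj_mem z hzO g)
    rw [conj_pow, hzp1]; simp
  have hZn : (zpowers z).Normal := by
    refine ⟨fun n hn g => ?_⟩
    obtain ⟨k, rfl⟩ := mem_zpowers_iff.mp hn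
    rw [← conj_zpow]
    exact zpow_mem (hC g) k
  have hG₀n : (centralizer ((zpowers z : Subgroup G) : Set G)).Normal := Subgroup.normal_centralizer
  have hPG₀ : (P : Subgroup G) ≤ centralizer ((zpowers z : Subgroup G) : Set G) := by
    intro y hy
    rw [mem_centralizer_iff]
    intro h hh
    exact (iso_comm_of_mem_zpowers (hzc y hy) hh).symm
  have hG₀c : ∀ g ∈ centralizer ((zpowers z : Subgroup G) : Set G), ∀ n ∈ zpowers z,
      g * n = n * g := by
    intro g hg n hn
    exact (mem_centralizer_iff.mp hg n hn).symm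
  have hNPC : HasNormalPComplement p ↥(centralizer ((zpowers z : Subgroup G) : Set G)) := by
    apply iso_hasNormalPComplement_of_no_fusion hp (P.subtype hPG₀)
    intro a ha hap g hg
    have haP : (a : G) ∈ (P : Subgroup G) := ha
    have hgaP : (g : G) * (a : G) * (g : G)⁻¹ ∈ (P : Subgroup G) := hg
    have hap' : (a : G) ^ p = 1 := by simpa using congrArg Subtype.val hap
    apply Subtype.ext
    show (g : G) * (a : G) * (g : G)⁻¹ = (a : G)
    obtain ⟨n, hn, m, hm, hnm⟩ := iso_exists_mul_of_mem_sup_zpowers hzx (hA _ haP hap')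
    have hgn : (g : G) * n = n * (g : G) := hG₀c _ g.2 n hn
    by_cases hm1 : m = 1
    · rw [hnm, hm1, mul_one]; exact iso_conj_eq_of_comm hgn
    · have hxm : x ∈ zpowers m := iso_mem_zpowers_of_prime hx hm hm1
      have hnP : n ∈ (P : Subgroup G) := (zpowers_le.mpr hzP) hn
      have hgm : (g : G) * m * (g : G)⁻¹ ∈ (P : Subgroup G) := by
        have h1 : (g : G) * m * (g : G)⁻¹ = n⁻¹ * ((g : G) * (a : G) * (g : G)⁻¹) := by
          rw [hnm]
          calc (g : G) * m * (g : G)⁻¹ = n⁻¹ * (n * (g : G)) * m * (g : G)⁻¹ := by group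
            _ = n⁻¹ * ((g : G) * n) * m * (g : G)⁻¹ := by rw [hgn]
            _ = n⁻¹ * ((g : G) * (n * m) * (g : G)⁻¹) := by group
        rw [h1]; exact mul_mem (inv_mem hnP) hgaP
      have hgx : (g : G) * x * (g : G)⁻¹ ∈ (P : Subgroup G) := by
        obtain ⟨k, hk⟩ := mem_zpowers_iff.mp hxm
        rw [← hk, ← conj_zpow]
        exact zpow_mem hgm k
      have hcx : (g : G) * x = x * (g : G) := iso_comm_of_conj_eq (hiso _ (hxZ _ hgx).symm)
      have hcm : (g : G) * m = m * (g : G) := iso_comm_of_mem_zpowers hcx hm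
      rw [hnm]
      apply iso_conj_eq_of_comm
      calc (g : G) * (n * m) = (g : G) * n * m := by group
        _ = n * (g : G) * m := by rw [hgn]
        _ = n * ((g : G) * m) := by group
        _ = n * (m * (g : G)) := by rw [hcm]
        _ = n * m * (g : G) := by group
  have hG₀p : IsPGroup p ↥(centralizer ((zpowers z : Subgroup G) : Set G)) :=
    iso_isPGroup_of_hasNormalPComplement hcore hG₀n.isSubnormal hNPC
  have hle : centralizer ((zpowers z : Subgroup G) : Set G) ≤ pCore p G :=
    Helper22.le_pCore_of_isSubnormal p hG₀n.isSubnormal hG₀p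
  exact hxO (hle (hPG₀ hxP))

/-- Two commuting components meeting trivially cannot coexist with an isolated element whose
`K`-part is nontrivial (half of the symmetric argument). -/
theorem iso_component_false [Finite G] {p : ℕ} [Fact p.Prime] (hp : p ≠ 2)
    (hcore : pPrimeCore p G = ⊥) (hOp : pCore p G = ⊥) (hrank : PRankLE p 2 G)
    {x : G} (hx : orderOf x = p) (hiso : IsIsolated x)
    (P : Sylow p G) (hxP : x ∈ (P : Subgroup G))
    {K K' : Subgroup G} (hK : IsComponent K) (hKK' : K ≤ centralizer (K' : Set G))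
    (hinf : K ⊓ K' = ⊥)
    {b b' a' : G} (hb : b ∈ (P : Subgroup G) ⊓ K) (hb' : b' ∈ (P : Subgroup G) ⊓ K')
    (hxb : x = b * b') (hb1 : b ≠ 1)
    (ha' : a' ∈ (P : Subgroup G) ⊓ K') (ha'o : orderOf a' = p) : False := by
  have hpp : p.Prime := Fact.out
  have hxp : x ^ p = 1 := by rw [← hx]; exact pow_orderOf_eq_one x
  have hxZ : ∀ y ∈ (P : Subgroup G), y * x = x * y :=
    iso_central_of_mem_pgroup hiso P.isPGroup' hxP
  have hcomm : ∀ k ∈ K, ∀ k' ∈ K', k * k' = k' * k := by
    intro k hk k' hk'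
    exact (mem_centralizer_iff.mp (hKK' hk) k' hk').symm
  have hbb' : b * b' = b' * b := hcomm b hb.2 b' hb'.2
  have hbp : b ^ p = 1 := by
    have h1 : b ^ p * b' ^ p = 1 := by
      have hc : Commute b b' := hbb'
      rw [← hc.mul_pow, ← hxb, hxp]
    have h2 : b ^ p ∈ K ⊓ K' := by
      refine ⟨K.pow_mem hb.2 p, ?_⟩
      have h3 : b ^ p = (b' ^ p)⁻¹ := eq_inv_of_mul_eq_one_left h1
      rw [h3]; exact K'.inv_mem (K'.pow_mem hb'.2 p)
    rw [hinf, mem_bot] at h2; exact h2
  have hbo : orderOf b = p := iso_orderOf_eq_prime hbp hb1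
  have ha'p : a' ^ p = 1 := by rw [← ha'o]; exact pow_orderOf_eq_one a'
  have ha'1 : a' ≠ 1 := by intro h; rw [h, orderOf_one] at ha'o; exact hpp.one_lt.ne ha'o
  have hii : ∀ a ∈ (P : Subgroup G) ⊓ K, a ^ p = 1 → a ∈ zpowers b := by
    intro a ha hap
    by_cases ha1 : a = 1
    · rw [ha1]; exact one_mem _
    · have haa' : a * a' = a' * a := hcomm a ha.2 a' ha'.2
      have hna : a' ∉ zpowers a := by
        intro h
        have h3 : a' ∈ K ⊓ K' := ⟨(zpowers_le.mpr ha.2) h, ha'.2⟩
        rw [hinf, mem_bot] at h3; exact ha'1 h3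
      have hmem := iso_mem_sup_zpowers_of_pRankLE hrank hap ha'p hxp ha1 hna haa'
        (hxZ a ha.1) (hxZ a' ha'.1)
      obtain ⟨c, hc, c', hc', hxc⟩ := iso_exists_mul_of_mem_sup_zpowers haa' hmem
      have hcK : c ∈ K := (zpowers_le.mpr ha.2) hc
      have hc'K : c' ∈ K' := (zpowers_le.mpr ha'.2) hc'
      have h4 : b⁻¹ * c = b' * c'⁻¹ := by
        have h5 : b * b' = c * c' := by rw [← hxb, hxc]
        calc b⁻¹ * c = b⁻¹ * (c * c') * c'⁻¹ := by group
          _ = b⁻¹ * (b * b') * c'⁻¹ := by rw [h5]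
          _ = b' * c'⁻¹ := by group
      have h6 : b⁻¹ * c ∈ K ⊓ K' :=
        ⟨K.mul_mem (K.inv_mem hb.2) hcK, by rw [h4]; exact K'.mul_mem hb'.2 (K'.inv_mem hc'K)⟩
      rw [hinf, mem_bot] at h6
      have hcb : c = b := by
        calc c = b * (b⁻¹ * c) := by group
          _ = b := by rw [h6, mul_one]
      have hbza : b ∈ zpowers a := hcb ▸ hc
      exact iso_mem_zpowers_of_prime (iso_orderOf_eq_prime hap ha1) hbza hb1
  have hiii : ∀ k ∈ K, k * b * k⁻¹ ∈ (P : Subgroup G) → k * b * k⁻¹ = b := by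
    intro k hk hkb
    have h1 : k * x * k⁻¹ = k * b * k⁻¹ * b' := by
      rw [hxb]
      have h2 : b' * k⁻¹ = k⁻¹ * b' := (hcomm k⁻¹ (K.inv_mem hk) b' hb'.2).symm
      calc k * (b * b') * k⁻¹ = k * b * (b' * k⁻¹) := by group
        _ = k * b * (k⁻¹ * b') := by rw [h2]
        _ = k * b * k⁻¹ * b' := by group
    have h3 : k * x * k⁻¹ ∈ (P : Subgroup G) := by rw [h1]; exact mul_mem hkb hb'.1
    have h4 := hiso k (hxZ _ h3).symm
    rw [h1, hxb] at h4
    exact mul_right_cancel h4
  have hKsn : K.IsSubnormal := hK.1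
  have hcard : Nat.card ↥(((P : Subgroup G) ⊓ K).subgroupOf K) =
      p ^ (Nat.card ↥K).factorization p := by
    rw [Nat.card_congr (subgroupOfEquivOfLe (inf_le_right : (P : Subgroup G) ⊓ K ≤ K)).toEquiv]
    exact Helper50.card_sylow_inf_of_isSubnormal P hKsn
  have hNPC : HasNormalPComplement p ↥K := by
    apply iso_hasNormalPComplement_of_no_fusion hp (Sylow.ofCard _ hcard)
    intro a ha hap g hg
    have haP : (a : G) ∈ (P : Subgroup G) ⊓ K := ha
    have hgaP : (g : G) * (a : G) * (g : G)⁻¹ ∈ (P : Subgroup G) ⊓ K := hg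
    have hap' : (a : G) ^ p = 1 := by simpa using congrArg Subtype.val hap
    apply Subtype.ext
    show (g : G) * (a : G) * (g : G)⁻¹ = (a : G)
    by_cases ha1 : (a : G) = 1
    · rw [ha1]; simp
    · have hab : (a : G) ∈ zpowers b := hii _ haP hap'
      have hba : b ∈ zpowers (a : G) := iso_mem_zpowers_of_prime hbo hab ha1
      have hgb : (g : G) * b * (g : G)⁻¹ ∈ (P : Subgroup G) := by
        obtain ⟨k, hk⟩ := mem_zpowers_iff.mp hba
        have hgaP1 : (g : G) * (a : G) * (g : G)⁻¹ ∈ (P : Subgroup G) := hgaP.1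
        rw [← hk, ← conj_zpow]
        exact zpow_mem hgaP1 k
      have hcb : (g : G) * b = b * (g : G) := iso_comm_of_conj_eq (hiii _ g.2 hgb)
      exact iso_conj_eq_of_comm (iso_comm_of_mem_zpowers hcb hab)
  have hKp : IsPGroup p ↥K := iso_isPGroup_of_hasNormalPComplement hcore hKsn hNPC
  have hle := Helper22.le_pCore_of_isSubnormal p hKsn hKp
  rw [hOp] at hle
  exact Helper22.quasisimple_ne_bot hK.2 (le_bot_iff.mp hle)

/-- If `F(K) = 1` and `K` has a unique component, then `F*(K)` is a nonabelian simple group. -/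
theorem fstar_simple_of_unique_component {K : Type*} [Group K] [Finite K]
    (hF0 : fittingSubgroup K = ⊥) {L : Subgroup K} (hL : IsComponent L)
    (huniq : ∀ L' : Subgroup K, IsComponent L' → L' = L) :
    IsSimpleGroup ↥(generalizedFittingSubgroup K) ∧
      ¬ IsMulCommutative ↥(generalizedFittingSubgroup K) := by
  have hEn : (layer K).Normal := Helper22.layer_normal K
  have hLE : L ≤ layer K := Helper22.component_le_layer hL
  have hFs : generalizedFittingSubgroup K = layer K := by
    unfold generalizedFittingSubgroup; rw [hF0, sup_bot_eq]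
  have hEL : layer K = L := by
    apply le_antisymm
    · apply sSup_le
      intro L' hL'
      rw [huniq L' hL']
    · exact hLE
  have hZE : ∀ x ∈ layer K, (∀ y ∈ layer K, y * x = x * y) → x = 1 := by
    intro x hx hxc
    have hmem : x ∈ (center ↥(layer K)).map (layer K).subtype :=
      ⟨⟨x, hx⟩, by rw [SetLike.mem_coe, mem_center_iff]; intro g; exact Subtype.ext (hxc g g.2), rfl⟩
    have hn : ((center ↥(layer K)).map (layer K).subtype).Normal := inferInstance
    have hnil0 : Group.IsNilpotent ↥(center ↥(layer K)) :=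
      ⟨⟨1, Subgroup.upperCentralSeries_one_eq_top_iff.mpr inferInstance⟩⟩
    have hnil : Group.IsNilpotent ↥((center ↥(layer K)).map (layer K).subtype) :=
      (Group.isNilpotent_congr ((center ↥(layer K)).equivMapOfInjective (layer K).subtype
        (layer K).subtype_injective)).mp hnil0
    have hle : (center ↥(layer K)).map (layer K).subtype ≤ fittingSubgroup K :=
      le_sSup ⟨hn, hnil⟩
    rw [hF0] at hle
    exact Subgroup.mem_bot.mp (hle hmem)
  have hZL : ∀ x ∈ L, (∀ y ∈ L, y * x = x * y) → x = 1 := by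
    intro x hx hxc
    apply hZE x (hLE hx)
    intro y hy
    rw [hEL] at hy
    exact hxc y hy
  rw [hFs, hEL]
  refine ⟨?_, ?_⟩
  · have hnt := Helper22.quasisimple_nontrivial hL.2
    refine { exists_pair_ne := hnt.exists_pair_ne, eq_bot_or_eq_top_of_normal := ?_ }
    intro N hN
    rcases Helper22.quasisimple_normal hL.2 N hN with h | h
    · exact Or.inr h
    · left
      rw [eq_bot_iff]
      intro n hn
      have hc := Subgroup.mem_center_iff.mp (h hn)
      have h1 := hZL (n : K) n.2 (fun y hy => congrArg Subtype.val (hc ⟨y, hy⟩))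
      exact Subgroup.mem_bot.mpr (Subtype.ext h1)
  · intro hc
    have hperf := hL.2.1
    have hnt := Helper22.quasisimple_nontrivial hL.2
    exact Group.IsPerfect.not_isMulCommutative (G := ↥L) hc

/-- An isolated noncentral element of odd prime order `p` in a finite group of `p`-rank at most 2
with `O_{p'}(G) = 1`: the generalized Fitting subgroup is a nonabelian simple group. -/
theorem iso_fstar_simple [Finite G] {p : ℕ} [Fact p.Prime] (hp : p ≠ 2)
    (hcore : pPrimeCore p G = ⊥) (hrank : PRankLE p 2 G) (x : G) (hx : orderOf x = p)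
    (hiso : IsIsolated x) (hnc : x ∉ center G) :
    IsSimpleGroup ↥(generalizedFittingSubgroup G) ∧
      ¬ IsMulCommutative ↥(generalizedFittingSubgroup G) := by
  have hpp : p.Prime := Fact.out
  have hOp : pCore p G = ⊥ := iso_pCore_eq_bot hp hcore hrank hx hiso hnc
  have hF0 : fittingSubgroup G = ⊥ := by
    rw [fittingSubgroup_eq_pCore_of_pPrimeCore_eq_bot hcore, hOp]
  have hxp : x ^ p = 1 := by rw [← hx]; exact pow_orderOf_eq_one x
  have hx1 : x ≠ 1 := by intro h; rw [h, orderOf_one] at hx; exact hpp.one_lt.ne hx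
  obtain ⟨L, hL⟩ : ∃ L : Subgroup G, IsComponent L := by
    by_contra hno
    push Not at hno
    have hE : layer G = ⊥ := by
      unfold layer; rw [eq_bot_iff]; apply sSup_le; intro L hL; exact absurd hL (hno L)
    have hFs : generalizedFittingSubgroup G = ⊥ := by
      unfold generalizedFittingSubgroup; rw [hE, hF0, sup_bot_eq]
    have h1 := Helper22.centralizer_generalizedFittingSubgroup_le G
    rw [hFs] at h1
    have h2 : x ∈ centralizer (((⊥ : Subgroup G) : Subgroup G) : Set G) := by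
      rw [mem_centralizer_iff]
      intro h hh
      have h3 : h = 1 := mem_bot.mp hh
      rw [h3, one_mul, mul_one]
    exact hx1 (mem_bot.mp (h1 h2))
  have hzpx : IsPGroup p ↥(zpowers x) := by
    apply IsPGroup.of_card (n := 1); rw [Nat.card_zpowers, hx, pow_one]
  obtain ⟨P, hP⟩ := hzpx.exists_le_sylow
  have hxP : x ∈ (P : Subgroup G) := hP (mem_zpowers x)
  have hxZ : ∀ y ∈ (P : Subgroup G), y * x = x * y :=
    iso_central_of_mem_pgroup hiso P.isPGroup' hxP
  have hex : ∀ K : Subgroup G, IsComponent K → ∃ a ∈ (P : Subgroup G) ⊓ K, orderOf a = p := by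
    intro K hK
    have hdvd : p ∣ Nat.card ↥K := by
      by_contra hnd
      have hc : (Nat.card ↥K).Coprime p :=
        Nat.coprime_comm.mp ((Nat.Prime.coprime_iff_not_dvd hpp).mpr hnd)
      have hle := le_pPrimeCore_of_subnormal hK.1 hc
      rw [hcore] at hle
      exact Helper22.quasisimple_ne_bot hK.2 (le_bot_iff.mp hle)
    have hcard := Helper50.card_sylow_inf_of_isSubnormal P hK.1
    have hdvd2 : p ∣ Nat.card ↥((P : Subgroup G) ⊓ K) := by
      rw [hcard]
      have hpos := Nat.Prime.factorization_pos_of_dvd hpp Nat.card_pos.ne' hdvd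
      exact dvd_pow_self p (by omega)
    obtain ⟨a, ha⟩ := exists_prime_orderOf_dvd_card' p hdvd2
    exact ⟨(a : G), a.2, by rw [Subgroup.orderOf_coe]; exact ha⟩
  have huniq : ∀ L' : Subgroup G, IsComponent L' → L' = L := by
    intro L' hL'
    by_contra hne
    have hcm := Helper22.components_commute hL' hL hne
    have hL'L : L' ≤ centralizer (L : Set G) := commutator_eq_bot_iff_le_centralizer.mp hcm
    have hLL' : L ≤ centralizer (L' : Set G) := le_centralizer_iff.mp hL'L
    have hinf : L' ⊓ L = ⊥ := by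
      have hsn : (L' ⊓ L).IsSubnormal := hL'.1.inf hL.1
      have hab : L' ⊓ L ≤ centralizer ((L' ⊓ L : Subgroup G) : Set G) :=
        (inf_le_left.trans hL'L).trans (centralizer_le (SetLike.coe_subset_coe.mpr inf_le_right))
      have hcommI : IsMulCommutative ↥(L' ⊓ L) := le_centralizer_iff_isMulCommutative.mp hab
      have hnil : Group.IsNilpotent ↥(L' ⊓ L) :=
        ⟨⟨1, Subgroup.upperCentralSeries_one_eq_top_iff.mpr inferInstance⟩⟩
      have hle := Helper22.le_fittingSubgroup_of_isSubnormal hsn hnil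
      rw [hF0] at hle; exact le_bot_iff.mp hle
    obtain ⟨a₁, ha₁, ha₁o⟩ := hex L' hL'
    obtain ⟨a₂, ha₂, ha₂o⟩ := hex L hL
    have ha₁p : a₁ ^ p = 1 := by rw [← ha₁o]; exact pow_orderOf_eq_one a₁
    have ha₂p : a₂ ^ p = 1 := by rw [← ha₂o]; exact pow_orderOf_eq_one a₂
    have ha₁1 : a₁ ≠ 1 := by intro h; rw [h, orderOf_one] at ha₁o; exact hpp.one_lt.ne ha₁o
    have ha₂1 : a₂ ≠ 1 := by intro h; rw [h, orderOf_one] at ha₂o; exact hpp.one_lt.ne ha₂o
    have h12 : a₁ * a₂ = a₂ * a₁ := (mem_centralizer_iff.mp (hL'L ha₁.2) a₂ ha₂.2).symm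
    have hna : a₂ ∉ zpowers a₁ := by
      intro h
      have h3 : a₂ ∈ L' ⊓ L := ⟨(zpowers_le.mpr ha₁.2) h, ha₂.2⟩
      rw [hinf, mem_bot] at h3; exact ha₂1 h3
    have hmem := iso_mem_sup_zpowers_of_pRankLE hrank ha₁p ha₂p hxp ha₁1 hna h12
      (hxZ a₁ ha₁.1) (hxZ a₂ ha₂.1)
    obtain ⟨b₁, hb₁, b₂, hb₂, hxb⟩ := iso_exists_mul_of_mem_sup_zpowers h12 hmem
    have hb₁' : b₁ ∈ (P : Subgroup G) ⊓ L' := (zpowers_le.mpr ha₁) hb₁
    have hb₂' : b₂ ∈ (P : Subgroup G) ⊓ L := (zpowers_le.mpr ha₂) hb₂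
    by_cases hb1 : b₁ = 1
    · have hb2 : b₂ ≠ 1 := by intro h; apply hx1; rw [hxb, hb1, h, mul_one]
      have hxb' : x = b₂ * b₁ := by rw [hxb, hb1, mul_one, one_mul]
      exact iso_component_false hp hcore hOp hrank hx hiso P hxP hL hLL'
        (by rw [inf_comm]; exact hinf) hb₂' hb₁' hxb' hb2 ha₁ ha₁o
    · exact iso_component_false hp hcore hOp hrank hx hiso P hxP hL' hL'L hinf hb₁' hb₂' hxb hb1
        ha₂ ha₂o
  exact fstar_simple_of_unique_component hF0 hL huniq

end Isolated

end Cfsg.Agent.Helper34
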