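import Mathlib
import Cfsg.Agent.Helper16.NGDefs
import Cfsg.Agent.Helper10.NGLTS
import Cfsg.Agent.Helper51.Replace

/-! CALL S4404 piece P6B (helper34, double). -/

set_option autoImplicit false

namespace Cfsg.Agent.Helper34.NGP6B
open Cfsg.Agent.Helper16.NG

variable {S : Type*} [Group S]

theorem p6b_U_le (M : Subgroup S) [M.Normal] (c : S) : U M c ≤ M := by
  unfold U
  rw [Subgroup.closure_le]
  rintro u ⟨m, hm, rfl⟩
  exact M.mul_mem (Subgroup.Normal.conj_mem inferInstance m hm c) (M.inv_mem hm)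

/-- P6B -/
theorem ng_p6b [Finite S] {M V : Subgroup S} {x : S} (h : Cfg M V x) (P : Subgroup S) (hP : IsPGroup 7 ↥P)
    (c d : S) (hc : c ∈ P) (hd : d ∈ P) (hc1 : c ∉ Subgroup.centralizer (M : Set S))
    (hc7 : c ^ 7 ∈ Subgroup.centralizer (M : Set S)) (hcU : Nat.card (U M c) = 8) (hcV : V ≤ U M c)
    (hdU : Nat.card (U M d) = 8) (hdV : V ≤ U M d) :
    ∃ k : ℕ, d * (c ^ k)⁻¹ ∈ Subgroup.centralizer (M : Set S) := by
  classical
  have hMn : M.Normal := h.normal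
  have hUc : U M c ≤ M := p6b_U_le M c
  have hUd : U M d ≤ M := p6b_U_le M d
  obtain ⟨W, hW⟩ : ∃ W : Subgroup S, W = U M c ⊔ U M d := ⟨_, rfl⟩
  have hWM : W ≤ M := by rw [hW]; exact sup_le hUc hUd
  have hnorm : U M c ≤ Subgroup.normalizer ((U M d : Subgroup S) : Set S) := by
    intro a ha
    rw [Subgroup.mem_normalizer_iff]
    intro b
    constructor
    · intro hb
      have h1 : a * b * a⁻¹ = b := by
        rw [h.comm a (hUc ha) b (hUd hb)]; group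
      rw [h1]; exact hb
    · intro hb
      have hb' := hUd hb
      have h3 : b = a * b * a⁻¹ := by
        have h1 := h.comm a⁻¹ (M.inv_mem (hUc ha)) (a * b * a⁻¹) hb'
        have h2 : b * a⁻¹ = a * b * a⁻¹ * a⁻¹ := by
          have h0 : a⁻¹ * (a * b * a⁻¹) = b * a⁻¹ := by group
          rw [← h0, h1]
        exact mul_right_cancel h2
      rw [h3]; exact hb
  have hcard := Cfsg.Agent.Helper51.card_sup_mul_card_inf_of_le_normalizer (U M c) (U M d) hnorm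
  have hV4 : 4 ≤ Nat.card ↥(U M c ⊓ U M d) := by
    rw [← h.card]
    exact Subgroup.card_le_of_le (le_inf hcV hdV)
  have hW16 : Nat.card W ≤ 16 := by
    rw [hW]
    rw [hcU, hdU] at hcard
    by_contra hlt
    rw [not_le] at hlt
    have h1 : 16 * 4 < Nat.card ↥(U M c ⊔ U M d) * Nat.card ↥(U M c ⊓ U M d) :=
      calc 16 * 4 < Nat.card ↥(U M c ⊔ U M d) * 4 := by omega
        _ ≤ _ := Nat.mul_le_mul_left _ hV4
    omega
  obtain ⟨T, hT⟩ : ∃ T : Subgroup S, T = Subgroup.closure {c, d} := ⟨_, rfl⟩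
  have hTP : T ≤ P := by
    rw [hT, Subgroup.closure_le]
    rintro y (rfl | rfl)
    · exact hc
    · exact hd
  have hTp : IsPGroup 7 ↥T := hP.to_le hTP
  let T' : Subgroup S :=
    { carrier := {t | ∀ m ∈ M, t * m * t⁻¹ * m⁻¹ ∈ W}
      one_mem' := by
        intro m hm
        simp
      mul_mem' := by
        intro s t hs ht m hm
        have hm' : t * m * t⁻¹ ∈ M := Subgroup.Normal.conj_mem hMn m hm t
        have h1 : s * t * m * (s * t)⁻¹ * m⁻¹ =
            (s * (t * m * t⁻¹) * s⁻¹ * (t * m * t⁻¹)⁻¹) * (t * m * t⁻¹ * m⁻¹) := by group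
        rw [h1]
        exact W.mul_mem (hs _ hm') (ht m hm)
      inv_mem' := by
        intro t ht m hm
        have hm' : t⁻¹ * m * t ∈ M := by
          have h0 := Subgroup.Normal.conj_mem hMn m hm t⁻¹
          simpa using h0
        have h1 : t⁻¹ * m * t⁻¹⁻¹ * m⁻¹ = (t * (t⁻¹ * m * t) * t⁻¹ * (t⁻¹ * m * t)⁻¹)⁻¹ := by
          group
        rw [h1]
        exact W.inv_mem (ht _ hm') }
  have hcT' : c ∈ T' := by
    intro m hm
    have h1 : c * m * c⁻¹ * m⁻¹ ∈ U M c := Subgroup.subset_closure ⟨m, hm, rfl⟩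
    rw [hW]; exact Subgroup.mem_sup_left h1
  have hdT' : d ∈ T' := by
    intro m hm
    have h1 : d * m * d⁻¹ * m⁻¹ ∈ U M d := Subgroup.subset_closure ⟨m, hm, rfl⟩
    rw [hW]; exact Subgroup.mem_sup_right h1
  have hTT' : T ≤ T' := by
    rw [hT, Subgroup.closure_le]
    rintro y (rfl | rfl)
    · exact hcT'
    · exact hdT'
  have h2 : ∀ t ∈ T, ∀ m ∈ M, t * m * t⁻¹ * m⁻¹ ∈ W := fun t ht => hTT' ht
  have hn : ∀ t ∈ T, ∀ w ∈ W, t * w * t⁻¹ ∈ W := by
    intro t ht w hw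
    have h1 : t * w * t⁻¹ = (t * w * t⁻¹ * w⁻¹) * w := by group
    rw [h1]
    exact W.mul_mem (h2 t ht w (hWM hw)) hw
  have hidx := Cfsg.Agent.Helper10.NGLTS.ng_LTS M h.comm h.sq W hWM hW16 7 (by norm_num)
    (by norm_num) T hTp hn h2
  have hcT : c ∈ T := by rw [hT]; exact Subgroup.subset_closure (by simp)
  have hdT : d ∈ T := by rw [hT]; exact Subgroup.subset_closure (by simp)
  obtain ⟨T₀, hT₀⟩ : ∃ T₀ : Subgroup ↥T,
      T₀ = (Subgroup.centralizer (M : Set S)).subgroupOf T := ⟨_, rfl⟩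
  have hT₀n : T₀.Normal := by rw [hT₀]; infer_instance
  have hidx' : T₀.index ≤ 7 := by
    have h1 : (T ⊓ Subgroup.centralizer (M : Set S)).relIndex T = T₀.index := by
      rw [hT₀, Subgroup.relIndex, Subgroup.inf_subgroupOf_left]
    rw [← h1]; exact hidx
  have hcT₀ : (⟨c, hcT⟩ : ↥T) ∉ T₀ := by
    intro hmem
    rw [hT₀] at hmem
    exact hc1 (Subgroup.mem_subgroupOf.mp hmem)
  have hfact : Fact (Nat.Prime 7) := ⟨by norm_num⟩
  obtain ⟨n, hn7⟩ := IsPGroup.iff_card.mp hTp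
  have hdvd : T₀.index ∣ 7 ^ n := by rw [← hn7]; exact Subgroup.index_dvd_card T₀
  obtain ⟨j, -, hj⟩ := (Nat.dvd_prime_pow (by norm_num)).mp hdvd
  have hidx7 : T₀.index = 7 := by
    have hne1 : T₀.index ≠ 1 := by
      intro h1
      rw [Subgroup.index_eq_one] at h1
      exact hcT₀ (h1 ▸ Subgroup.mem_top _)
    rcases j with _ | _ | j
    · rw [pow_zero] at hj; exact absurd hj hne1
    · simpa using hj
    · rw [hj] at hidx'
      have h1 : 7 ^ 2 ≤ 7 ^ (j + 1 + 1) := Nat.pow_le_pow_right (by norm_num) (by omega)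
      omega
  have hquot : Nat.card (↥T ⧸ T₀) = 7 := by rw [← Subgroup.index_eq_card]; exact hidx7
  have hgen : Subgroup.zpowers (QuotientGroup.mk (⟨c, hcT⟩ : ↥T) : ↥T ⧸ T₀) = ⊤ := by
    apply zpowers_eq_top_of_prime_card hquot
    intro h1
    exact hcT₀ ((QuotientGroup.eq_one_iff _).mp h1)
  have hmem : (QuotientGroup.mk (⟨d, hdT⟩ : ↥T) : ↥T ⧸ T₀) ∈
      Subgroup.zpowers (QuotientGroup.mk (⟨c, hcT⟩ : ↥T) : ↥T ⧸ T₀) := by
    rw [hgen]; exact Subgroup.mem_top _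
  rw [← mem_powers_iff_mem_zpowers] at hmem
  obtain ⟨k, hk⟩ := hmem
  refine ⟨k, ?_⟩
  have hk' : (QuotientGroup.mk (⟨c, hcT⟩ : ↥T) : ↥T ⧸ T₀) ^ k =
      QuotientGroup.mk (⟨d, hdT⟩ : ↥T) := hk
  have h3 : (QuotientGroup.mk ((⟨d, hdT⟩ : ↥T) * ((⟨c, hcT⟩ : ↥T) ^ k)⁻¹) : ↥T ⧸ T₀) = 1 := by
    rw [QuotientGroup.mk_mul, QuotientGroup.mk_inv, QuotientGroup.mk_pow, hk', mul_inv_cancel]
  have h4 := (QuotientGroup.eq_one_iff _).mp h3
  rw [hT₀] at h4
  have h5 := Subgroup.mem_subgroupOf.mp h4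
  simpa using h5

end Cfsg.Agent.Helper34.NGP6B
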