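/-
helper34: the property "`O_{p'}(Y) = 1` and `C(O_p(Y)) ≤ O_p(Y)`" (equivalently `F*(Y)` is a
`p`-group) for centralizers and normalizers of `p`-subgroups.  Everything lives in
`Cfsg.Agent.Helper34`.
-/
import Cfsg.Agent.Helper34.PCons2

set_option autoImplicit false

namespace Cfsg.Agent.Helper34

open Cfsg

/-- Transport of "`O_{p'} = 1` and `C(O_p) ≤ O_p`" along an isomorphism. -/
theorem core_props_of_mulEquiv {X X' : Type*} [Group X] [Group X'] (e : X ≃* X') {p : ℕ}
    (h : pPrimeCore p X = ⊥ ∧ Subgroup.centralizer (pCore p X : Set X) ≤ pCore p X) :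
    pPrimeCore p X' = ⊥ ∧ Subgroup.centralizer (pCore p X' : Set X') ≤ pCore p X' := by
  constructor
  · rw [← Cfsg.Agent.Helper22.pPrimeCore_map_equiv p e, h.1, Subgroup.map_bot]
  · rw [← Cfsg.Agent.Helper22.pCore_map_equiv p e, ← Cfsg.Agent.Helper22.map_centralizer_equiv]
    exact Subgroup.map_mono h.2

section

variable {G : Type*} [Group G] [Finite G] {p : ℕ} [Fact p.Prime]

/-- Relative form of helper54's `local_core_aux`. -/
theorem core_props_local_in {M : Subgroup G}
    (hM : pPrimeCore p ↥M = ⊥ ∧ Subgroup.centralizer (pCore p ↥M : Set ↥M) ≤ pCore p ↥M)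
    (T : Subgroup G) (hT : IsPGroup p T) (hTM : T ≤ M)
    (H : Subgroup G) (hHM : H ≤ M) (hCH : Subgroup.centralizer (T : Set G) ⊓ M ≤ H)
    (hHN : H ≤ Subgroup.normalizer (T : Set G))
    (hTH : T ≤ H ∨ H ≤ Subgroup.centralizer (T : Set G)) :
    pPrimeCore p ↥H = ⊥ ∧ Subgroup.centralizer (pCore p ↥H : Set ↥H) ≤ pCore p ↥H := by
  have h1 : pPrimeCore p ↥(H.subgroupOf M) = ⊥ ∧
      Subgroup.centralizer (pCore p ↥(H.subgroupOf M) : Set ↥(H.subgroupOf M)) ≤
        pCore p ↥(H.subgroupOf M) := by
    apply Cfsg.Agent.Helper54.local_core_aux hM.2 (T.subgroupOf M) hT.comap_subtype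
      (H.subgroupOf M)
    · intro m hm
      rw [Subgroup.mem_subgroupOf]
      apply hCH
      refine Subgroup.mem_inf.mpr ⟨?_, m.2⟩
      rw [Subgroup.mem_centralizer_iff] at hm ⊢
      intro t ht
      have h2 := hm ⟨t, hTM ht⟩ (Subgroup.mem_subgroupOf.mpr ht)
      exact congrArg Subtype.val h2
    · intro m hm
      rw [Subgroup.mem_subgroupOf] at hm
      rw [Subgroup.mem_normalizer_iff]
      intro x
      rw [Subgroup.mem_subgroupOf, Subgroup.mem_subgroupOf]
      exact Subgroup.mem_normalizer_iff.mp (hHN hm) x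
    · rcases hTH with h | h
      · left
        intro m hm
        rw [Subgroup.mem_subgroupOf] at hm ⊢
        exact h hm
      · right
        intro m hm
        rw [Subgroup.mem_subgroupOf] at hm
        rw [Subgroup.mem_centralizer_iff]
        intro t ht
        have ht' : (t : G) ∈ T := Subgroup.mem_subgroupOf.mp ht
        have h2 := (Subgroup.mem_centralizer_iff.mp (h hm)) t ht'
        exact Subtype.ext h2
  exact core_props_of_mulEquiv (Subgroup.subgroupOfEquivOfLe hHM) h1

/-- If `F*(C_G(V))` is a `p`-group for the `p`-subgroup `V`, so is `F*(N_G(V))`. -/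
theorem core_props_normalizer_of_centralizer {V : Subgroup G} (hV : IsPGroup p V)
    (hC : pPrimeCore p ↥(Subgroup.centralizer (V : Set G)) = ⊥ ∧
      Subgroup.centralizer (pCore p ↥(Subgroup.centralizer (V : Set G)) :
        Set ↥(Subgroup.centralizer (V : Set G))) ≤ pCore p ↥(Subgroup.centralizer (V : Set G))) :
    pPrimeCore p ↥(Subgroup.normalizer (V : Set G)) = ⊥ ∧
      Subgroup.centralizer (pCore p ↥(Subgroup.normalizer (V : Set G)) :
        Set ↥(Subgroup.normalizer (V : Set G))) ≤ pCore p ↥(Subgroup.normalizer (V : Set G)) := by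
  have hCN : Subgroup.centralizer (V : Set G) ≤ Subgroup.normalizer (V : Set G) :=
    Subgroup.centralizer_le_normalizer _
  have hVn : (V.subgroupOf (Subgroup.normalizer (V : Set G))).Normal :=
    Subgroup.normal_in_normalizer
  have hVp : IsPGroup p ↥(V.subgroupOf (Subgroup.normalizer (V : Set G))) := hV.comap_subtype
  constructor
  · -- `O_{p'}(N) = 1`
    have hWn : (pPrimeCore p ↥(Subgroup.normalizer (V : Set G))).Normal := pPrimeCore_normal p _
    have hWc := card_pPrimeCore_coprime p ↥(Subgroup.normalizer (V : Set G))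
    have hWC : (pPrimeCore p ↥(Subgroup.normalizer (V : Set G))).map
        (Subgroup.normalizer (V : Set G)).subtype ≤ Subgroup.centralizer (V : Set G) := by
      rintro _ ⟨w, hw, rfl⟩
      rw [Subgroup.mem_centralizer_iff]
      intro v hv
      have h1 := Cfsg.Agent.Helper54.commute_of_normal_coprime hWn hVn hVp hWc hw
        (Subgroup.mem_subgroupOf.mpr (show ((⟨v, Subgroup.le_normalizer hv⟩ :
          ↥(Subgroup.normalizer (V : Set G))) : G) ∈ V from hv))
      exact (congrArg Subtype.val h1.eq).symm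
    have hn : (((pPrimeCore p ↥(Subgroup.normalizer (V : Set G))).map
        (Subgroup.normalizer (V : Set G)).subtype).subgroupOf
        (Subgroup.centralizer (V : Set G))).Normal := by
      apply normal_subgroupOf_of_conj_mem
      rintro c hc _ ⟨w, hw, rfl⟩
      exact ⟨⟨c, hCN hc⟩ * w * ⟨c, hCN hc⟩⁻¹, hWn.conj_mem w hw _, rfl⟩
    have hc : (Nat.card ↥(((pPrimeCore p ↥(Subgroup.normalizer (V : Set G))).map
        (Subgroup.normalizer (V : Set G)).subtype).subgroupOf
        (Subgroup.centralizer (V : Set G)))).Coprime p := by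
      rw [Nat.card_congr (Subgroup.subgroupOfEquivOfLe hWC).toEquiv,
        Subgroup.card_map_of_injective (Subgroup.subtype_injective _)]
      exact hWc
    have hle := le_pPrimeCore hn hc
    rw [hC.1] at hle
    rw [eq_bot_iff]
    intro w hw
    have h1 : (⟨(w : G), hWC ⟨w, hw, rfl⟩⟩ : ↥(Subgroup.centralizer (V : Set G))) ∈
        ((pPrimeCore p ↥(Subgroup.normalizer (V : Set G))).map
        (Subgroup.normalizer (V : Set G)).subtype).subgroupOf
        (Subgroup.centralizer (V : Set G)) := Subgroup.mem_subgroupOf.mpr ⟨w, hw, rfl⟩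
    have h2 := Subgroup.mem_bot.mp (hle h1)
    have h3 : (w : G) = 1 := congrArg Subtype.val h2
    exact Subgroup.mem_bot.mpr (Subtype.ext h3)
  · -- `C_N(O_p(N)) ≤ O_p(N)`
    intro x hx
    have hVle : V.subgroupOf (Subgroup.normalizer (V : Set G)) ≤
        pCore p ↥(Subgroup.normalizer (V : Set G)) := le_sSup ⟨hVn, hVp⟩
    have hxC : (x : G) ∈ Subgroup.centralizer (V : Set G) := by
      rw [Subgroup.mem_centralizer_iff]
      intro v hv
      have h1 := hx ⟨v, Subgroup.le_normalizer hv⟩ (hVle (Subgroup.mem_subgroupOf.mpr hv))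
      exact congrArg Subtype.val h1
    have hchar : (pCore p ↥(Subgroup.centralizer (V : Set G))).Characteristic :=
      Cfsg.Agent.Helper22.pCore_characteristic p _
    have hCnorm : ((Subgroup.centralizer (V : Set G)).subgroupOf
        (Subgroup.normalizer (V : Set G))).Normal :=
      Subgroup.normal_subgroupOf_centralizer_normalizer _
    have hconj : ∀ n ∈ Subgroup.normalizer (V : Set G), ∀ h ∈ Subgroup.centralizer (V : Set G),
        n * h * n⁻¹ ∈ Subgroup.centralizer (V : Set G) := fun n hn h hh =>
      conj_mem_of_normal_subgroupOf hCnorm n hn h hh (hCN hh)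
    have hRn : (((pCore p ↥(Subgroup.centralizer (V : Set G))).map
        (Subgroup.centralizer (V : Set G)).subtype).subgroupOf
        (Subgroup.normalizer (V : Set G))).Normal := by
      apply normal_subgroupOf_of_conj_mem
      intro n hn r hr
      apply conj_mem_map_subtype_of_characteristic (pCore p ↥(Subgroup.centralizer (V : Set G)))
        (hconj n hn) _ hr
      intro h hh
      have h1 := hconj n⁻¹ (Subgroup.inv_mem _ hn) h hh
      simpa using h1
    have hRp : IsPGroup p ↥(((pCore p ↥(Subgroup.centralizer (V : Set G))).map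
        (Subgroup.centralizer (V : Set G)).subtype).subgroupOf
        (Subgroup.normalizer (V : Set G))) :=
      ((Cfsg.Agent.Helper22.pCore_isPGroup p _).map _).comap_subtype
    have hRle : ((pCore p ↥(Subgroup.centralizer (V : Set G))).map
        (Subgroup.centralizer (V : Set G)).subtype).subgroupOf
        (Subgroup.normalizer (V : Set G)) ≤ pCore p ↥(Subgroup.normalizer (V : Set G)) :=
      le_sSup ⟨hRn, hRp⟩
    have hxcen : (⟨(x : G), hxC⟩ : ↥(Subgroup.centralizer (V : Set G))) ∈
        Subgroup.centralizer (pCore p ↥(Subgroup.centralizer (V : Set G)) :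
          Set ↥(Subgroup.centralizer (V : Set G))) := by
      rw [Subgroup.mem_centralizer_iff]
      intro r hr
      have h1 := hx ⟨(r : G), hCN r.2⟩ (hRle (Subgroup.mem_subgroupOf.mpr ⟨r, hr, rfl⟩))
      have h2 : (r : G) * (x : G) = (x : G) * (r : G) := congrArg Subtype.val h1
      exact Subtype.ext h2
    have h2 := hC.2 hxcen
    exact hRle (Subgroup.mem_subgroupOf.mpr ⟨⟨(x : G), hxC⟩, h2, rfl⟩)

/-- One step: `V ⊴ V₁` `p`-subgroups. -/
theorem core_props_centralizer_step {V V₁ : Subgroup G} (hVV₁ : V ≤ V₁)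
    (hV₁N : V₁ ≤ Subgroup.normalizer (V : Set G)) (hV₁ : IsPGroup p V₁)
    (hC : pPrimeCore p ↥(Subgroup.centralizer (V : Set G)) = ⊥ ∧
      Subgroup.centralizer (pCore p ↥(Subgroup.centralizer (V : Set G)) :
        Set ↥(Subgroup.centralizer (V : Set G))) ≤ pCore p ↥(Subgroup.centralizer (V : Set G))) :
    pPrimeCore p ↥(Subgroup.centralizer (V₁ : Set G)) = ⊥ ∧
      Subgroup.centralizer (pCore p ↥(Subgroup.centralizer (V₁ : Set G)) :
        Set ↥(Subgroup.centralizer (V₁ : Set G))) ≤
        pCore p ↥(Subgroup.centralizer (V₁ : Set G)) := by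
  have hN := core_props_normalizer_of_centralizer (hV₁.to_le hVV₁) hC
  exact core_props_local_in hN V₁ hV₁ hV₁N (Subgroup.centralizer (V₁ : Set G))
    ((Subgroup.centralizer_le hVV₁).trans (Subgroup.centralizer_le_normalizer _)) inf_le_left
    (Subgroup.centralizer_le_normalizer _) (Or.inr le_rfl)

/-- (S1246) `V ≤ U` `p`-subgroups: if `F*(C_G(V))` is a `p`-group then so is `F*(C_G(U))`. -/
theorem core_props_centralizer_of_le {U : Subgroup G} (hU : IsPGroup p U) :
    ∀ (n : ℕ) (V : Subgroup G), V ≤ U → Nat.card U - Nat.card V ≤ n →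
      (pPrimeCore p ↥(Subgroup.centralizer (V : Set G)) = ⊥ ∧
        Subgroup.centralizer (pCore p ↥(Subgroup.centralizer (V : Set G)) :
          Set ↥(Subgroup.centralizer (V : Set G))) ≤
          pCore p ↥(Subgroup.centralizer (V : Set G))) →
      (pPrimeCore p ↥(Subgroup.centralizer (U : Set G)) = ⊥ ∧
        Subgroup.centralizer (pCore p ↥(Subgroup.centralizer (U : Set G)) :
          Set ↥(Subgroup.centralizer (U : Set G))) ≤
          pCore p ↥(Subgroup.centralizer (U : Set G))) := by
  intro n
  induction n with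
  | zero =>
    intro V hVU hn hC
    have h1 : Nat.card U ≤ Nat.card V := by omega
    have h2 : V = U := Subgroup.eq_of_le_of_card_ge hVU h1
    rw [← h2]; exact hC
  | succ n ih =>
    intro V hVU hn hC
    by_cases hVeq : V = U
    · rw [← hVeq]; exact hC
    · have hnil : Group.IsNilpotent ↥U := hU.isNilpotent
      have hnc : NormalizerCondition ↥U := Group.normalizerCondition_of_isNilpotent
      have hlt : V.subgroupOf U < ⊤ := by
        rw [lt_top_iff_ne_top]
        intro h
        exact hVeq (le_antisymm hVU (Subgroup.subgroupOf_eq_top.mp h))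
      have h1 := hnc _ hlt
      rw [← Subgroup.subgroupOf_normalizer_eq hVU] at h1
      obtain ⟨u, hu1, hu2⟩ := SetLike.exists_of_lt h1
      have hV₁ : V ≤ U ⊓ Subgroup.normalizer (V : Set G) := le_inf hVU Subgroup.le_normalizer
      have hne : V ≠ U ⊓ Subgroup.normalizer (V : Set G) := by
        intro h
        apply hu2
        rw [Subgroup.mem_subgroupOf, h]
        exact ⟨u.2, Subgroup.mem_subgroupOf.mp hu1⟩
      have hcard : Nat.card V < Nat.card ↥(U ⊓ Subgroup.normalizer (V : Set G)) := by
        by_contra hcon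
        exact hne (Subgroup.eq_of_le_of_card_ge hV₁ (not_lt.mp hcon))
      have hcard2 : Nat.card ↥(U ⊓ Subgroup.normalizer (V : Set G)) ≤ Nat.card U :=
        Subgroup.card_le_of_le inf_le_left
      exact ih (U ⊓ Subgroup.normalizer (V : Set G)) inf_le_left (by omega)
        (core_props_centralizer_step hV₁ inf_le_right (hU.to_le inf_le_left) hC)

end

end Cfsg.Agent.Helper34
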