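/-
Helper library of seat helper34: PIECE C of CALL S5238 (helper84): in a `p`-group with a chain
of lower central terms of index `p` and the given power structure, every subgroup is generated
by at most `p` elements.  Namespace `Cfsg.Agent.Helper34`.
-/
import Mathlib
import Cfsg.Agent.Helper1.BurnsideBasis
import Cfsg.Agent.Helper70.FrattiniAut2

set_option autoImplicit false
set_option linter.unusedSectionVars false

namespace Cfsg.Agent.Helper34

open Subgroup
open scoped commutatorElement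

section

variable {G : Type*} [Group G] [Finite G]

theorem pr_relIndex_ne_zero (N B : Subgroup G) : N.relIndex B ≠ 0 :=
  ne_zero_of_dvd_ne_zero Nat.card_pos.ne' (Subgroup.relIndex_dvd_card (H := N) (K := B))

theorem pr_card_eq_relIndex_mul (N B : Subgroup G) :
    Nat.card ↥B = N.relIndex B * Nat.card ↥(N ⊓ B) := by
  have h1 := Subgroup.card_mul_index (N.subgroupOf B)
  have h2 : Nat.card ↥(N.subgroupOf B) = Nat.card ↥(N ⊓ B) := by
    rw [← Subgroup.inf_subgroupOf_right]
    exact Nat.card_congr (Subgroup.subgroupOfEquivOfLe inf_le_right).toEquiv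
  rw [h2] at h1
  rw [Subgroup.relIndex, ← h1, mul_comm]

theorem pr_card_inf_le (A M N : Subgroup G) (hNM : N ≤ M) :
    Nat.card ↥(A ⊓ M) ≤ N.relIndex M * Nat.card ↥(A ⊓ N) := by
  have h1 := pr_card_eq_relIndex_mul N (A ⊓ M)
  have h2 : N ⊓ (A ⊓ M) = A ⊓ N := by
    rw [inf_comm N, inf_assoc, inf_eq_right.mpr hNM]
  rw [h2] at h1
  rw [h1]
  exact Nat.mul_le_mul_right _
    (Subgroup.relIndex_le_of_le_right inf_le_right (pr_relIndex_ne_zero N M))

/-- conjugate elements have centralizers of the same order -/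
theorem pr_card_centralizer_conj (g e : G) :
    Nat.card ↥(centralizer ({g * e * g⁻¹} : Set G)) = Nat.card ↥(centralizer ({e} : Set G)) := by
  have h1 : centralizer ({g * e * g⁻¹} : Set G)
      = (centralizer ({e} : Set G)).map (MulAut.conj g).toMonoidHom := by
    ext x
    rw [mem_centralizer_singleton_iff, mem_map]
    constructor
    · intro hx
      refine ⟨g⁻¹ * x * g, ?_, ?_⟩
      · rw [mem_centralizer_singleton_iff]
        have e1 : g⁻¹ * x * g * e = g⁻¹ * (x * (g * e * g⁻¹)) * g := by group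
        have e2 : e * (g⁻¹ * x * g) = g⁻¹ * ((g * e * g⁻¹) * x) * g := by group
        rw [e1, e2, hx]
      · simp [MulAut.conj_apply, mul_assoc]
    · rintro ⟨y, hy, rfl⟩
      rw [mem_centralizer_singleton_iff] at hy
      simp only [MulEquiv.coe_toMonoidHom, MulAut.conj_apply]
      have e1 : g * y * g⁻¹ * (g * e * g⁻¹) = g * (y * e) * g⁻¹ := by group
      have e2 : g * e * g⁻¹ * (g * y * g⁻¹) = g * (e * y) * g⁻¹ := by group
      rw [e1, e2, hy]
  rw [h1]
  exact Subgroup.card_map_of_injective (MulAut.conj g).injective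

/-- a proper subgroup of a subgroup of a `p`-group has at most `1/p` of its elements -/
theorem pr_p_mul_card_le {p : ℕ} [Fact p.Prime] (hG : IsPGroup p G) {A B : Subgroup G}
    (hAB : A ≤ B) (hne : ¬ B ≤ A) : p * Nat.card ↥A ≤ Nat.card ↥B := by
  have hp : p.Prime := Fact.out
  have h1 := pr_card_eq_relIndex_mul A B
  rw [inf_eq_left.mpr hAB] at h1
  have hrel1 : A.relIndex B ≠ 1 := fun h => hne (Subgroup.relIndex_eq_one.mp h)
  obtain ⟨k, hk⟩ := IsPGroup.iff_card.mp (hG.to_subgroup B)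
  have hdvd : A.relIndex B ∣ p ^ k := hk ▸ Subgroup.relIndex_dvd_card (H := A) (K := B)
  obtain ⟨i, -, hi⟩ := (Nat.dvd_prime_pow hp).mp hdvd
  have hi0 : i ≠ 0 := by
    rintro rfl
    exact hrel1 (by rw [hi, pow_zero])
  have h2 : p ≤ A.relIndex B := by
    rw [hi]
    exact Nat.le_self_pow hi0 p
  rw [h1]
  exact Nat.mul_le_mul_right _ h2

end

/-- **PIECE C of CALL S5238.** -/
theorem pearl_rank_of_chain {G : Type*} [Group G] [Finite G] {p : ℕ} [Fact p.Prime] (n : ℕ)
    (hn : 3 ≤ n) (hG : Nat.card G = p ^ n) (e : G)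
    (he : Nat.card (Subgroup.centralizer ({e} : Set G)) = p ^ 2)
    (hcard : ∀ k, 1 ≤ k → k ≤ n - 1 →
      Nat.card ((⊤ : Subgroup G).lowerCentralSeries k) = p ^ (n - 1 - k))
    (hclass : ∀ y ∈ (⊤ : Subgroup G).lowerCentralSeries 1, ∃ g : G, g * e * g⁻¹ = y * e)
    (hpow1 : ∀ k, 1 ≤ k → ∀ y ∈ (⊤ : Subgroup G).lowerCentralSeries k,
      y ^ p ∈ (⊤ : Subgroup G).lowerCentralSeries (k + p - 1))
    (hpow2 : ∀ k, 1 ≤ k → (⊤ : Subgroup G).lowerCentralSeries (k + p - 1) ≠ ⊥ →
      ∀ y ∈ (⊤ : Subgroup G).lowerCentralSeries k,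
        y ∉ (⊤ : Subgroup G).lowerCentralSeries (k + 1) →
        y ^ p ∉ (⊤ : Subgroup G).lowerCentralSeries (k + p)) :
    ∀ H : Subgroup G, ∃ T : Finset G, T.card ≤ p ∧ Subgroup.closure (T : Set G) = H := by
  classical
  have hp : p.Prime := Fact.out
  have hp2 : 2 ≤ p := hp.two_le
  have hGp : IsPGroup p G := IsPGroup.of_card hG
  intro H
  obtain ⟨K, hKdef⟩ : ∃ K : Subgroup G, K = (frattini ↥H).map H.subtype := ⟨_, rfl⟩
  have hHp : IsPGroup p ↥H := hGp.to_subgroup H
  have hfr := Helper70.frattini_pGroup_facts hHp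
  have hKpow : ∀ x ∈ H, x ^ p ∈ K := by
    intro x hx
    rw [hKdef]
    exact ⟨⟨x, hx⟩ ^ p, hfr.2 ⟨x, hx⟩, by simp⟩
  have hKcomm : ∀ x ∈ H, ∀ y ∈ H, ⁅x, y⁆ ∈ K := by
    intro x hx y hy
    rw [hKdef]
    refine ⟨⁅(⟨x, hx⟩ : ↥H), ⟨y, hy⟩⁆, hfr.1 ?_, by simp [commutatorElement_def]⟩
    exact Subgroup.commutator_mem_commutator (mem_top _) (mem_top _)
  obtain ⟨L, hL⟩ : ∃ L : ℕ → Subgroup G, L = (⊤ : Subgroup G).lowerCentralSeries := ⟨_, rfl⟩
  rw [← hL] at hcard hclass hpow1 hpow2
  have hLanti : Antitone L := by rw [hL]; exact Subgroup.lowerCentralSeries_antitone ⊤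
  have hLbot : ∀ m, n - 1 ≤ m → L m = ⊥ := by
    intro m hm
    have h1 : L (n - 1) = ⊥ := by
      have h0 := hcard (n - 1) (by omega) le_rfl
      rw [Nat.sub_self, pow_zero] at h0
      exact Subgroup.card_eq_one.mp h0
    exact le_bot_iff.mp (h1 ▸ hLanti hm)
  have hLrel : ∀ m, 1 ≤ m → m + 1 ≤ n - 1 → (L (m + 1)).relIndex (L m) = p := by
    intro m hm1 hm2
    have h1 := pr_card_eq_relIndex_mul (L (m + 1)) (L m)
    rw [inf_eq_left.mpr (hLanti (Nat.le_succ m)), hcard m hm1 (by omega),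
      hcard (m + 1) (by omega) hm2] at h1
    have h2 : n - 1 - m = (n - 1 - (m + 1)) + 1 := by omega
    rw [h2, pow_succ] at h1
    have h3 : 0 < p ^ (n - 1 - (m + 1)) := pow_pos hp.pos _
    have h4 : (L (m + 1)).relIndex (L m) * p ^ (n - 1 - (m + 1)) = p * p ^ (n - 1 - (m + 1)) := by
      rw [← h1]; ring
    exact Nat.eq_of_mul_eq_mul_right h3 h4
  -- (i)
  have key : ∀ j m : ℕ, 1 ≤ m → n - 1 ≤ m + j →
      Nat.card ↥(H ⊓ L m) ≤ p ^ (p - 1) * Nat.card ↥(K ⊓ L (m + p - 1)) := by
    have base : ∀ m : ℕ, n - 1 ≤ m →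
        Nat.card ↥(H ⊓ L m) ≤ p ^ (p - 1) * Nat.card ↥(K ⊓ L (m + p - 1)) := by
      intro m hm
      rw [hLbot m hm, inf_bot_eq, Subgroup.card_bot]
      exact Nat.one_le_iff_ne_zero.mpr (Nat.mul_ne_zero (pow_pos hp.pos _).ne' Nat.card_pos.ne')
    intro j
    induction j with
    | zero =>
      intro m _ hm
      exact base m (by omega)
    | succ j ih =>
      intro m hm1 hm
      by_cases hmn : n - 1 ≤ m
      · exact base m hmn
      · have ih' := ih (m + 1) (by omega) (by omega)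
        have e1 : m + 1 + p - 1 = m + p := by omega
        rw [e1] at ih'
        have hanti : Nat.card ↥(K ⊓ L (m + p)) ≤ Nat.card ↥(K ⊓ L (m + p - 1)) :=
          Subgroup.card_le_of_le (inf_le_inf_left K (hLanti (by omega)))
        by_cases heq : H ⊓ L m = H ⊓ L (m + 1)
        · rw [heq]
          exact ih'.trans (Nat.mul_le_mul_left _ hanti)
        · have hlt : ¬ (H ⊓ L m ≤ H ⊓ L (m + 1)) := fun hle =>
            heq (le_antisymm hle (inf_le_inf_left H (hLanti (Nat.le_succ m))))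
          obtain ⟨x, hx, hx'⟩ := SetLike.not_le_iff_exists.mp hlt
          have hxH : x ∈ H := (mem_inf.mp hx).1
          have hxL : x ∈ L m := (mem_inf.mp hx).2
          have hxL' : x ∉ L (m + 1) := fun h => hx' (mem_inf.mpr ⟨hxH, h⟩)
          have hstep : Nat.card ↥(H ⊓ L m) ≤ p * Nat.card ↥(H ⊓ L (m + 1)) := by
            have h0 := pr_card_inf_le H (L m) (L (m + 1)) (hLanti (Nat.le_succ m))
            rwa [hLrel m hm1 (by omega)] at h0
          by_cases hbot : L (m + p - 1) = ⊥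
          · have h1 : Nat.card ↥(L m) = p ^ (n - 1 - m) := hcard m hm1 (by omega)
            have h2 : n - 1 - m ≤ p - 1 := by
              by_contra hcon
              push Not at hcon
              have h3 := hcard (m + p - 1) (by omega) (by omega)
              rw [hbot, Subgroup.card_bot] at h3
              have h4 : 1 < p ^ (n - 1 - (m + p - 1)) := Nat.one_lt_pow (by omega) hp.one_lt
              omega
            calc Nat.card ↥(H ⊓ L m) ≤ Nat.card ↥(L m) := Subgroup.card_le_of_le inf_le_right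
              _ = p ^ (n - 1 - m) := h1
              _ ≤ p ^ (p - 1) := Nat.pow_le_pow_right hp.pos h2
              _ ≤ p ^ (p - 1) * Nat.card ↥(K ⊓ L (m + p - 1)) :=
                  Nat.le_mul_of_pos_right _ Nat.card_pos
          · have hxp1 : x ^ p ∈ L (m + p - 1) := hpow1 m hm1 x hxL
            have hxp2 : x ^ p ∉ L (m + p) := hpow2 m hm1 hbot x hxL hxL'
            have hxpK : x ^ p ∈ K := hKpow x hxH
            have hKstep : p * Nat.card ↥(K ⊓ L (m + p)) ≤ Nat.card ↥(K ⊓ L (m + p - 1)) := by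
              apply pr_p_mul_card_le hGp (inf_le_inf_left K (hLanti (by omega)))
              intro hle
              exact hxp2 (mem_inf.mp (hle (mem_inf.mpr ⟨hxpK, hxp1⟩))).2
            calc Nat.card ↥(H ⊓ L m) ≤ p * Nat.card ↥(H ⊓ L (m + 1)) := hstep
              _ ≤ p * (p ^ (p - 1) * Nat.card ↥(K ⊓ L (m + p))) := Nat.mul_le_mul_left _ ih'
              _ = p ^ (p - 1) * (p * Nat.card ↥(K ⊓ L (m + p))) := by ring
              _ ≤ p ^ (p - 1) * Nat.card ↥(K ⊓ L (m + p - 1)) := Nat.mul_le_mul_left _ hKstep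
  have hL1n : (L 1).Normal := by
    rw [hL]; infer_instance
  have hfinal : Nat.card ↥H ≤ p ^ p * Nat.card ↥K := by
    by_cases htop : H ⊔ L 1 = ⊤
    · -- (iii)
      have he_mem : e ∈ ((H ⊔ L 1 : Subgroup G) : Set G) := by
        rw [htop]; exact Set.mem_univ e
      rw [Subgroup.mul_normal H (L 1)] at he_mem
      obtain ⟨h, hh, u, hu, hhu⟩ := Set.mem_mul.mp he_mem
      have hy : e * u⁻¹ * e⁻¹ ∈ L 1 := hL1n.conj_mem u⁻¹ ((L 1).inv_mem hu) e
      obtain ⟨g, hg⟩ := hclass _ hy
      have hgh : g * e * g⁻¹ = h := by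
        rw [hg, ← hhu]; group
      have hCh : Nat.card ↥(centralizer ({h} : Set G)) = p ^ 2 := by
        rw [← hgh, pr_card_centralizer_conj, he]
      -- the commutator map
      obtain ⟨f, hf⟩ : ∃ f : ↥H → ↥K, ∀ x : ↥H, (f x : G) = ⁅(x : G), h⁆ :=
        ⟨fun x => ⟨⁅(x : G), h⁆, hKcomm x x.2 h hh⟩, fun x => rfl⟩
      obtain ⟨rep, hrep⟩ : ∃ rep : ↥K → ↥H, ∀ x : ↥H, f (rep (f x)) = f x := by
        refine ⟨fun b => if hb : ∃ a : ↥H, f a = b then Classical.choose hb else 1, ?_⟩
        intro x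
        have hb : ∃ a : ↥H, f a = f x := ⟨x, rfl⟩
        simp only [dif_pos hb]
        exact Classical.choose_spec hb
      have hmem : ∀ x : ↥H, ((rep (f x) : ↥H) : G)⁻¹ * (x : G) ∈ centralizer ({h} : Set G) := by
        intro x
        rw [mem_centralizer_singleton_iff]
        have h1 := congrArg Subtype.val (hrep x)
        rw [hf, hf, commutatorElement_def, commutatorElement_def] at h1
        have h2 : ((rep (f x) : ↥H) : G) * h * ((rep (f x) : ↥H) : G)⁻¹ = (x : G) * h * (x : G)⁻¹ := by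
          have h3 := congrArg (fun t => t * h) h1
          simpa using h3
        calc ((rep (f x) : ↥H) : G)⁻¹ * (x : G) * h
            = ((rep (f x) : ↥H) : G)⁻¹ * ((x : G) * h * (x : G)⁻¹) * (x : G) := by group
          _ = ((rep (f x) : ↥H) : G)⁻¹ * (((rep (f x) : ↥H) : G) * h * ((rep (f x) : ↥H) : G)⁻¹)
              * (x : G) := by rw [h2]
          _ = h * (((rep (f x) : ↥H) : G)⁻¹ * (x : G)) := by group
      have hinj : Function.Injective
          (fun x : ↥H => ((f x, ⟨((rep (f x) : ↥H) : G)⁻¹ * (x : G), hmem x⟩) :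
            ↥K × ↥(centralizer ({h} : Set G)))) := by
        intro x x' hxx
        have h1 : f x = f x' := congrArg Prod.fst hxx
        have h2 : ((rep (f x) : ↥H) : G)⁻¹ * (x : G) = ((rep (f x') : ↥H) : G)⁻¹ * (x' : G) :=
          congrArg (fun t => ((t.2 : ↥(centralizer ({h} : Set G))) : G)) hxx
        rw [h1] at h2
        exact Subtype.ext (mul_left_cancel h2)
      have hle := Nat.card_le_card_of_injective _ hinj
      rw [Nat.card_prod, hCh] at hle
      calc Nat.card ↥H ≤ Nat.card ↥K * p ^ 2 := hle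
        _ = p ^ 2 * Nat.card ↥K := by ring
        _ ≤ p ^ p * Nat.card ↥K :=
            Nat.mul_le_mul_right _ (Nat.pow_le_pow_right hp.pos hp2)
    · -- (ii)
      have h1 := pr_card_eq_relIndex_mul (L 1) H
      have h2 : (L 1).relIndex H ≤ p := by
        rw [← Subgroup.relIndex_sup_right]
        have h3 := Subgroup.relIndex_mul_index (le_sup_right : L 1 ≤ H ⊔ L 1)
        have h4 : (L 1).index = p ^ 2 := by
          have h5 := Subgroup.card_mul_index (L 1)
          rw [hcard 1 le_rfl (by omega), hG] at h5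
          have h6 : p ^ (n - 1 - 1) * (L 1).index = p ^ (n - 1 - 1) * p ^ 2 := by
            rw [h5, ← pow_add]; congr 1; omega
          exact Nat.eq_of_mul_eq_mul_left (pow_pos hp.pos _) h6
        rw [h4] at h3
        have h7 : (H ⊔ L 1).index ≠ 1 := fun h => htop (Subgroup.index_eq_one.mp h)
        have h8 : (H ⊔ L 1).index ∣ p ^ 2 := Dvd.intro_left _ h3
        obtain ⟨i, -, hi⟩ := (Nat.dvd_prime_pow hp).mp h8
        have hi0 : i ≠ 0 := by
          rintro rfl
          exact h7 (by rw [hi, pow_zero])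
        have h9 : p ≤ (H ⊔ L 1).index := by
          rw [hi]; exact Nat.le_self_pow hi0 p
        by_contra hcon
        push Not at hcon
        have h10 : p * p < (L 1).relIndex (H ⊔ L 1) * (H ⊔ L 1).index :=
          Nat.mul_lt_mul_of_lt_of_le hcon h9 (lt_of_lt_of_le hp.pos h9)
        rw [h3] at h10
        nlinarith
      have h11 := key n 1 le_rfl (by omega)
      have e2 : 1 + p - 1 = p := by omega
      rw [e2] at h11
      have h12 : Nat.card ↥(K ⊓ L p) ≤ Nat.card ↥K := Subgroup.card_le_of_le inf_le_left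
      have h13 : p * p ^ (p - 1) = p ^ p := by
        rw [← pow_succ']; congr 1; omega
      rw [inf_comm] at h1
      calc Nat.card ↥H = (L 1).relIndex H * Nat.card ↥(H ⊓ L 1) := h1
        _ ≤ p * (p ^ (p - 1) * Nat.card ↥(K ⊓ L p)) := Nat.mul_le_mul h2 h11
        _ ≤ p * (p ^ (p - 1) * Nat.card ↥K) :=
            Nat.mul_le_mul_left _ (Nat.mul_le_mul_left _ h12)
        _ = p ^ p * Nat.card ↥K := by rw [← mul_assoc, h13]
  have hidx : (frattini ↥H).index ≤ p ^ p := by
    have h1 := Subgroup.card_mul_index (frattini ↥H)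
    have h2 : Nat.card ↥(frattini ↥H) = Nat.card ↥K := by
      rw [hKdef]; exact (Subgroup.card_map_of_injective H.subtype_injective).symm
    rw [h2] at h1
    have h3 : 0 < Nat.card ↥K := Nat.card_pos
    rw [← h1, mul_comm] at hfinal
    exact Nat.le_of_mul_le_mul_right hfinal h3
  obtain ⟨d, hd⟩ := hHp.index (frattini ↥H)
  have hdp : d ≤ p := by
    rw [hd] at hidx
    exact (Nat.pow_le_pow_iff_right hp.one_lt).mp hidx
  haveI : Fintype ↥H := Fintype.ofFinite ↥H
  obtain ⟨T, -, hTc, hTcl⟩ := (Helper1.burnside_basis p d hHp hd).1 Finset.univ (by simp)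
  refine ⟨T.image Subtype.val, Finset.card_image_le.trans (hTc ▸ hdp), ?_⟩
  rw [Finset.coe_image]
  have h1 := MonoidHom.map_closure H.subtype (T : Set ↥H)
  rw [hTcl] at h1
  have h2 : (Subtype.val '' (T : Set ↥H)) = (H.subtype '' (T : Set ↥H)) := rfl
  rw [h2, ← h1, ← MonoidHom.range_eq_map, Subgroup.range_subtype]

end Cfsg.Agent.Helper34
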