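import Mathlib

/-!
# CALL S1159, PIECE ND (helper6): the normalizer of a two-point stabilizer

`card_normalizer_two_point`: in a group acting on `G ⧸ B` in which three-point stabilizers
have order at most 2, the normalizer of the two-point stabilizer `D = B ∩ nBn⁻¹` (of order
at least 3) has order `2 |D|`.
-/

set_option autoImplicit false

namespace Cfsg.Agent.Helper34

theorem ree1159nd_smul_mk {G : Type*} [Group G] (B : Subgroup G) (t g : G) :
    t • (QuotientGroup.mk g : G ⧸ B) = QuotientGroup.mk g ↔ g⁻¹ * t * g ∈ B := by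
  rw [show t • (QuotientGroup.mk g : G ⧸ B) = QuotientGroup.mk (t * g) from rfl, QuotientGroup.eq]
  have h : (t * g)⁻¹ * g = (g⁻¹ * t * g)⁻¹ := by group
  rw [h, inv_mem_iff]

theorem ree1159nd_card_mul_relIndex {G : Type*} [Group G] {H K : Subgroup G} (h : H ≤ K) :
    Nat.card H * H.relIndex K = Nat.card K := by
  have := Subgroup.relIndex_mul_relIndex ⊥ H K bot_le h
  rwa [Subgroup.relIndex_bot_left, Subgroup.relIndex_bot_left] at this

/-- PIECE ND -/
theorem card_normalizer_two_point {G : Type*} [Group G] [Finite G] (B D : Subgroup G) (n : G)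
    (hBr : ∀ g : G, g ∉ B → ∃ u ∈ B, ∃ b ∈ B, g = u * n * b)
    (hDB : D ≤ B) (hDn : ∀ t ∈ D, n⁻¹ * t * n ∈ D)
    (hD : ∀ t ∈ B, n⁻¹ * t * n ∈ B → t ∈ D) (hnB : n ∉ B)
    (h3 : ∀ x y z : G ⧸ B, x ≠ y → x ≠ z → y ≠ z →
      Nat.card ↥(MulAction.stabilizer G x ⊓ MulAction.stabilizer G y ⊓
        MulAction.stabilizer G z) ≤ 2)
    (hD3 : 3 ≤ Nat.card D) :
    Nat.card (Subgroup.normalizer (D : Set G)) = 2 * Nat.card D := by
  classical
  -- conjugation by `n⁻¹` is a bijection of `D`
  have hsurj : ∀ h : G, n⁻¹ * h * n ∈ D → h ∈ D := by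
    intro h hh
    let φ : D → D := fun t => ⟨n⁻¹ * t.1 * n, hDn t.1 t.2⟩
    have hinj : Function.Injective φ := by
      intro s t hst
      have h1 : n⁻¹ * s.1 * n = n⁻¹ * t.1 * n := congrArg Subtype.val hst
      exact Subtype.ext (by simpa using h1)
    obtain ⟨t, ht⟩ := (Finite.injective_iff_surjective.mp hinj) ⟨_, hh⟩
    have h1 : n⁻¹ * t.1 * n = n⁻¹ * h * n := congrArg Subtype.val ht
    have h2 : t.1 = h := by simpa using h1
    exact h2 ▸ t.2
  have hnN : n ∈ Subgroup.normalizer (D : Set G) := by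
    have h1 : n⁻¹ ∈ Subgroup.normalizer (D : Set G) := by
      rw [Subgroup.mem_normalizer_iff]
      intro h
      constructor
      · intro hh; simpa using hDn h hh
      · intro hh; exact hsurj h (by simpa using hh)
    simpa using inv_mem h1
  -- `D` fixes the points `B`, `nB`, and `gB` for `g ∈ N(D)`
  have hfix0 : ∀ t ∈ D, t ∈ MulAction.stabilizer G (QuotientGroup.mk 1 : G ⧸ B) := by
    intro t ht
    rw [MulAction.mem_stabilizer_iff, ree1159nd_smul_mk]
    simpa using hDB ht
  have hfix1 : ∀ t ∈ D, t ∈ MulAction.stabilizer G (QuotientGroup.mk n : G ⧸ B) := by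
    intro t ht
    rw [MulAction.mem_stabilizer_iff, ree1159nd_smul_mk]
    exact hDB (hDn t ht)
  have hfixg : ∀ g ∈ Subgroup.normalizer (D : Set G), ∀ t ∈ D,
      t ∈ MulAction.stabilizer G (QuotientGroup.mk g : G ⧸ B) := by
    intro g hg t ht
    rw [MulAction.mem_stabilizer_iff, ree1159nd_smul_mk]
    have h1 := (Subgroup.mem_normalizer_iff.mp (inv_mem hg) t).mp ht
    rw [inv_inv] at h1
    exact hDB h1
  have h01 : (QuotientGroup.mk 1 : G ⧸ B) ≠ QuotientGroup.mk n := by
    rw [Ne, QuotientGroup.eq]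
    simpa using hnB
  -- a point `gB` fixed by `D` is `B` or `nB`
  have hpt : ∀ g ∈ Subgroup.normalizer (D : Set G),
      (QuotientGroup.mk g : G ⧸ B) = QuotientGroup.mk 1 ∨
        (QuotientGroup.mk g : G ⧸ B) = QuotientGroup.mk n := by
    intro g hg
    by_contra hcon
    push Not at hcon
    have hle : D ≤ MulAction.stabilizer G (QuotientGroup.mk 1 : G ⧸ B) ⊓
        MulAction.stabilizer G (QuotientGroup.mk n : G ⧸ B) ⊓
        MulAction.stabilizer G (QuotientGroup.mk g : G ⧸ B) := fun t ht =>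
      Subgroup.mem_inf.mpr ⟨Subgroup.mem_inf.mpr ⟨hfix0 t ht, hfix1 t ht⟩, hfixg g hg t ht⟩
    have hc := Subgroup.card_le_of_le hle
    have hc2 := h3 _ _ _ h01 (Ne.symm hcon.1) (Ne.symm hcon.2)
    omega
  -- elements of `N(D) ∩ B` lie in `D`
  have key : ∀ g ∈ Subgroup.normalizer (D : Set G), g ∈ B → g ∈ D := by
    intro g hg hgB
    apply hD g hgB
    have hgn := hpt (g * n) (mul_mem hg hnN)
    rcases hgn with h | h
    · exfalso
      rw [QuotientGroup.eq] at h
      apply hnB
      have h1 : n = g⁻¹ * ((g * n)⁻¹ * 1)⁻¹ := by group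
      rw [h1]
      exact mul_mem (inv_mem hgB) (inv_mem h)
    · rw [QuotientGroup.eq] at h
      have h1 : n⁻¹ * g * n = ((g * n)⁻¹ * n)⁻¹ := by group
      rw [h1]
      exact inv_mem h
  have hsplit : ∀ g ∈ Subgroup.normalizer (D : Set G), g ∈ D ∨ g * n⁻¹ ∈ D := by
    intro g hg
    rcases hpt g hg with h | h
    · left
      rw [QuotientGroup.eq] at h
      apply key g hg
      have h1 : g = (g⁻¹ * 1)⁻¹ := by group
      rw [h1]
      exact inv_mem h
    · right
      rw [QuotientGroup.eq] at h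
      have h1 : n⁻¹ * g ∈ D := by
        apply key _ (mul_mem (inv_mem hnN) hg)
        have h2 : n⁻¹ * g = (g⁻¹ * n)⁻¹ := by group
        rw [h2]
        exact inv_mem h
      have h2 := (Subgroup.mem_normalizer_iff.mp hnN _).mp h1
      have h3' : n * (n⁻¹ * g) * n⁻¹ = g * n⁻¹ := by group
      rwa [h3'] at h2
  have hDN : D ≤ Subgroup.normalizer (D : Set G) := Subgroup.le_normalizer
  have hidx : D.relIndex (Subgroup.normalizer (D : Set G)) = 2 := by
    rw [Subgroup.relIndex_eq_two_iff]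
    refine ⟨n⁻¹, inv_mem hnN, ?_⟩
    intro b hb
    rcases hsplit b hb with h | h
    · right
      refine ⟨h, ?_⟩
      intro h'
      apply hnB
      have h1 : n = (b * n⁻¹)⁻¹ * b := by group
      rw [h1]
      exact hDB (mul_mem (inv_mem h') h)
    · left
      refine ⟨h, ?_⟩
      intro h'
      apply hnB
      have h1 : n = (b * n⁻¹)⁻¹ * b := by group
      rw [h1]
      exact hDB (mul_mem (inv_mem h) h')
  have := ree1159nd_card_mul_relIndex hDN
  rw [hidx] at this
  omega

end Cfsg.Agent.Helper34
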