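import Mathlib
import Cfsg.Agent.Helper71.SQDefs

set_option autoImplicit false
set_option linter.unusedVariables false

namespace Cfsg.Agent.Helper34.SQZB2

open Matrix Cfsg.Agent.Helper71.T4 Cfsg.Agent.Helper71.SO Cfsg.Agent.Helper71.SQ
open scoped Kronecker

variable {F : Type*} [Field F] {m n : ℕ}

theorem bl_add_left (J : Matrix (Fin m) (Fin m) F) (x x' y : Fin m → F) :
    bl J (x + x') y = bl J x y + bl J x' y := by
  simp [bl, add_dotProduct]

theorem bl_add_right (J : Matrix (Fin m) (Fin m) F) (x y y' : Fin m → F) :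
    bl J x (y + y') = bl J x y + bl J x y' := by
  simp [bl, Matrix.mulVec_add, dotProduct_add]

theorem bl_smul_left (J : Matrix (Fin m) (Fin m) F) (c : F) (x y : Fin m → F) :
    bl J (c • x) y = c * bl J x y := by
  simp [bl, smul_dotProduct]

theorem bl_smul_right (J : Matrix (Fin m) (Fin m) F) (c : F) (x y : Fin m → F) :
    bl J x (c • y) = c * bl J x y := by
  simp [bl, Matrix.mulVec_smul, dotProduct_smul]

theorem bl_sub_left (J : Matrix (Fin m) (Fin m) F) (x x' y : Fin m → F) :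
    bl J (x - x') y = bl J x y - bl J x' y := by
  simp [bl, sub_dotProduct]

theorem bl_sub_right (J : Matrix (Fin m) (Fin m) F) (x y y' : Fin m → F) :
    bl J x (y - y') = bl J x y - bl J x y' := by
  simp [bl, Matrix.mulVec_sub, dotProduct_sub]

theorem bl_skew (J : Matrix (Fin m) (Fin m) F) (hJ : Jᵀ = -J) (x y : Fin m → F) :
    bl J y x = - bl J x y := by
  have h1 : bl J y x = x ⬝ᵥ Jᵀ *ᵥ y := by
    rw [bl, Matrix.dotProduct_mulVec, dotProduct_comm, Matrix.mulVec_transpose]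
  rw [h1, hJ, Matrix.neg_mulVec, dotProduct_neg, bl]

theorem bl_self (h2 : (2 : F) ≠ 0) (J : Matrix (Fin m) (Fin m) F) (hJ : Jᵀ = -J) (x : Fin m → F) :
    bl J x x = 0 := by
  have h := bl_skew J hJ x x
  have h3 : (2 : F) * bl J x x = 0 := by linear_combination h
  rcases mul_eq_zero.mp h3 with h4 | h4
  · exact absurd h4 h2
  · exact h4

theorem bl_conj (J A : Matrix (Fin m) (Fin m) F) (x y : Fin m → F) :
    bl J (A *ᵥ x) (A *ᵥ y) = x ⬝ᵥ (Aᵀ * J * A) *ᵥ y := by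
  rw [bl, ← Matrix.vecMul_transpose, ← Matrix.dotProduct_mulVec, Matrix.mulVec_mulVec,
    Matrix.mulVec_mulVec, Matrix.mul_assoc]

theorem mat_ext_bl (X Y : Matrix (Fin m) (Fin m) F)
    (h : ∀ x y : Fin m → F, x ⬝ᵥ X *ᵥ y = x ⬝ᵥ Y *ᵥ y) : X = Y := by
  classical
  ext i j
  have h1 := h (Pi.single i 1) (Pi.single j 1)
  simpa using h1

/-- Piece ZB2 -/
theorem levi_lift (hn : 0 < n) (h2 : (2 : F) ≠ 0) (J : Matrix (Fin m) (Fin m) F)
    (hJ : Jᵀ = -J) (hdetJ : J.det ≠ 0) (S : Matrix (Fin n) (Fin n) F) (hS : Sᵀ = S)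
    (hdetS : S.det ≠ 0) (a a₁ : Fin m → F) (ha : a ≠ 0) (haa₁ : bl J a a₁ = 1)
    (k : Matrix (Fin m × Fin n) (Fin m × Fin n) F)
    (B : Matrix (Fin n) (Fin n) F) (A₁ : Matrix (Fin m) (Fin m) F) (μ ν : F)
    (hνμ : ν * μ = 1) (hB : Bᵀ * S * B = μ • S)
    (hk0 : ∀ b : Fin n → F, k *ᵥ pt a b = pt a (B *ᵥ b))
    (hk1 : ∀ y : Fin m → F, bl J a y = 0 → bl J a (A₁ *ᵥ y) = 0)
    (hk2 : ∀ y y' : Fin m → F, bl J a y = 0 → bl J a y' = 0 →
      bl J (A₁ *ᵥ y) (A₁ *ᵥ y') = ν * bl J y y')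
    (hk3 : ∀ (y : Fin m → F) (b : Fin n → F), bl J a y = 0 → ∃ d : Fin n → F,
      k *ᵥ pt y b = pt (A₁ *ᵥ y) (B *ᵥ b) + pt a d) :
    ∃ (A : Matrix (Fin m) (Fin m) F) (ρ : Matrix (Fin m × Fin n) (Fin m × Fin n) F),
      Aᵀ * J * A = ν • J ∧ k = (A ⊗ₖ B) * ρ ∧
      (∀ b : Fin n → F, ρ *ᵥ pt a b = pt a b) ∧
      (∀ (y : Fin m → F) (b : Fin n → F), bl J a y = 0 → ∃ b' : Fin n → F,
        ρ *ᵥ pt y b = pt y b + pt a b') := by
  classical
  have hν0 : ν ≠ 0 := left_ne_zero_of_mul_eq_one hνμ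
  have hμ0 : μ ≠ 0 := right_ne_zero_of_mul_eq_one hνμ
  have hself : ∀ x, bl J x x = 0 := bl_self h2 J hJ
  have hsk : ∀ x y, bl J y x = - bl J x y := bl_skew J hJ
  have ha₁a : bl J a₁ a = -1 := by rw [hsk a a₁, haa₁]
  -- B is invertible
  have hBdet : B.det ≠ 0 := by
    intro h0
    have h1 := congrArg Matrix.det hB
    rw [Matrix.det_mul, Matrix.det_mul, Matrix.det_transpose, h0, Matrix.det_smul] at h1
    simp only [zero_mul] at h1
    exact mul_ne_zero (pow_ne_zero _ hμ0) hdetS h1.symm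
  have hBu : IsUnit B.det := isUnit_iff_ne_zero.mpr hBdet
  -- A₁ a is a multiple of a
  let l₀ : Fin n := ⟨0, hn⟩
  obtain ⟨κ, hκ⟩ : ∃ κ : F, A₁ *ᵥ a = κ • a := by
    set b₀ : Fin n → F := B⁻¹ *ᵥ Pi.single l₀ 1 with hb₀
    have hBb₀ : B *ᵥ b₀ = Pi.single l₀ 1 := by
      rw [hb₀, Matrix.mulVec_mulVec, Matrix.mul_nonsing_inv _ hBu, Matrix.one_mulVec]
    obtain ⟨d, hd⟩ := hk3 a b₀ (hself a)
    rw [hk0, hBb₀] at hd
    refine ⟨1 - d l₀, ?_⟩
    ext i
    have h1 := congrFun hd (i, l₀)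
    simp only [pt, Pi.add_apply, Pi.single_eq_same, mul_one] at h1
    simp only [Pi.smul_apply, smul_eq_mul]
    linear_combination -h1
  -- the matrix A
  set fA : (Fin m → F) → (Fin m → F) := fun x =>
    A₁ *ᵥ (x - bl J a x • a₁)
      + (bl J (x - bl J a x • a₁) a₁ - bl J (A₁ *ᵥ (x - bl J a x • a₁)) a₁) • a
      + (ν * bl J a x) • a₁ with hfA
  have hlin : IsLinearMap F fA := by
    constructor
    · intro x y
      simp only [hfA, bl_add_right, bl_add_left, bl_sub_left, bl_smul_left, Matrix.mulVec_add,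
        Matrix.mulVec_sub, Matrix.mulVec_smul]
      module
    · intro c x
      simp only [hfA, bl_smul_right, bl_smul_left, bl_sub_left, Matrix.mulVec_sub,
        Matrix.mulVec_smul]
      module
  set A : Matrix (Fin m) (Fin m) F := LinearMap.toMatrix' (IsLinearMap.mk' fA hlin) with hA
  have hAx : ∀ x, A *ᵥ x = fA x := by
    intro x
    rw [hA, LinearMap.toMatrix'_mulVec]
    rfl
  -- A on a^⊥
  have hAy : ∀ y, bl J a y = 0 →
      A *ᵥ y = A₁ *ᵥ y + (bl J y a₁ - bl J (A₁ *ᵥ y) a₁) • a := by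
    intro y hy
    rw [hAx]
    simp only [hfA, hy, zero_smul, sub_zero, mul_zero, add_zero]
  have hAa : A *ᵥ a = a := by
    rw [hAy a (hself a), hκ, bl_smul_left, haa₁]
    module
  -- the similarity relation
  have hsim : ∀ x x', bl J (A *ᵥ x) (A *ᵥ x') = ν * bl J x x' := by
    intro x x'
    rw [hAx, hAx]
    simp only [hfA]
    set t := bl J a x with ht
    set t' := bl J a x' with ht'
    set y := x - t • a₁ with hy
    set y' := x' - t' • a₁ with hy'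
    have hya : bl J a y = 0 := by rw [hy, bl_sub_right, bl_smul_right, haa₁, ← ht]; ring
    have hya' : bl J a y' = 0 := by rw [hy', bl_sub_right, bl_smul_right, haa₁, ← ht']; ring
    have hx : x = y + t • a₁ := by rw [hy]; abel
    have hx' : x' = y' + t' • a₁ := by rw [hy']; abel
    have e1 := hk2 y y' hya hya'
    have e2 := hk1 y hya
    have e3 := hk1 y' hya'
    have e4 := hsk a (A₁ *ᵥ y)
    have e5 := hsk (A₁ *ᵥ y') a₁
    have e6 := hsk y' a₁
    have e7 : bl J x x' = bl J y y' + t' * bl J y a₁ + t * bl J a₁ y' := by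
      rw [hx, hx']
      simp only [bl_add_left, bl_add_right, bl_smul_left, bl_smul_right, hself a₁]
      ring
    rw [e7]
    simp only [bl_add_left, bl_add_right, bl_smul_left, bl_smul_right, hself a, hself a₁, haa₁,
      ha₁a, e1, e2, e3, e4, e5, e6]
    ring
  have hAJ : Aᵀ * J * A = ν • J := by
    apply mat_ext_bl
    intro x x'
    rw [← bl_conj, hsim, Matrix.smul_mulVec, dotProduct_smul, smul_eq_mul, bl]
  have hAdet : A.det ≠ 0 := by
    intro h0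
    have h1 := congrArg Matrix.det hAJ
    rw [Matrix.det_mul, Matrix.det_mul, Matrix.det_transpose, h0, Matrix.det_smul] at h1
    simp only [zero_mul] at h1
    exact mul_ne_zero (pow_ne_zero _ hν0) hdetJ h1.symm
  have hAu : IsUnit A.det := isUnit_iff_ne_zero.mpr hAdet
  have hAinv_a : A⁻¹ *ᵥ a = a := by
    conv_lhs => rw [← hAa]
    rw [Matrix.mulVec_mulVec, Matrix.nonsing_inv_mul _ hAu, Matrix.one_mulVec]
  refine ⟨A, (A⁻¹ ⊗ₖ B⁻¹) * k, hAJ, ?_, ?_, ?_⟩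
  · rw [← Matrix.mul_assoc, ← Matrix.mul_kronecker_mul, Matrix.mul_nonsing_inv _ hAu,
      Matrix.mul_nonsing_inv _ hBu, Matrix.one_kronecker_one, Matrix.one_mul]
  · intro b
    rw [← Matrix.mulVec_mulVec, hk0, kron_mulVec_pt, hAinv_a, Matrix.mulVec_mulVec,
      Matrix.nonsing_inv_mul _ hBu, Matrix.one_mulVec]
  · intro y b hy
    obtain ⟨d, hd⟩ := hk3 y b hy
    have hA₁y : A₁ *ᵥ y = A *ᵥ y - (bl J y a₁ - bl J (A₁ *ᵥ y) a₁) • a := by
      rw [hAy y hy]; abel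
    have hAinv : A⁻¹ *ᵥ (A₁ *ᵥ y) = y - (bl J y a₁ - bl J (A₁ *ᵥ y) a₁) • a := by
      conv_lhs => rw [hA₁y]
      rw [Matrix.mulVec_sub, Matrix.mulVec_smul, hAinv_a, Matrix.mulVec_mulVec,
        Matrix.nonsing_inv_mul _ hAu, Matrix.one_mulVec]
    refine ⟨B⁻¹ *ᵥ d - (bl J y a₁ - bl J (A₁ *ᵥ y) a₁) • b, ?_⟩
    rw [← Matrix.mulVec_mulVec, hd, Matrix.mulVec_add, kron_mulVec_pt, kron_mulVec_pt, hAinv,
      hAinv_a, Matrix.mulVec_mulVec, Matrix.nonsing_inv_mul _ hBu, Matrix.one_mulVec]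
    ext ⟨i, l⟩
    simp only [pt, Pi.add_apply, Pi.sub_apply, Pi.smul_apply, smul_eq_mul]
    ring

end Cfsg.Agent.Helper34.SQZB2
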