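/-
Helper library of seat helper34: the minimal counterexample reduction for Sidki pairs
(Aschbacher-Guralnick-Segev): in a minimal counterexample `(G, V)` every nontrivial normal
subgroup `N` satisfies `G = N V`, `O_2(G) = Z(G) = F(G) = 1`, and `F*(G)` is simple.
-/
import Mathlib
import Cfsg.Prelude.Def_SubgroupEmbedding
import Cfsg.Prelude.Def_Local
import Cfsg.Prelude.Def_Transfer
import Cfsg.Prelude.Def_CaseTheorems
import Cfsg.Agent.Helper22.Bender
import Cfsg.Agent.Helper35.Coprime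
import Cfsg.Agent.Helper51.PCore
import Cfsg.Agent.Helper34.Isolated
import Cfsg.Agent.S3011
import Cfsg.Agent.S3012
import Cfsg.Agent.S3013

set_option autoImplicit false
universe u

namespace Cfsg.Agent.Helper34

open Cfsg Subgroup
open scoped commutatorElement

section Sidki

/-- The hypotheses of a minimal counterexample to the Sidki pair statement. -/
structure SidkiMin {G : Type u} [Group G] [Finite G] (V : Subgroup G) : Prop where
  elem : Cfsg.IsElementaryAbelian 2 V
  ne : V ≠ ⊥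
  sidki : Cfsg.IsSidkiPair V
  core : V ⊓ Cfsg.pCore 2 G = ⊥
  minG : ∀ (H : Type u) [Group H] [Finite H] (W : Subgroup H), Nat.card H < Nat.card G →
    Cfsg.IsElementaryAbelian 2 W → W ≠ ⊥ → Cfsg.IsSidkiPair W → W ⊓ Cfsg.pCore 2 H ≠ ⊥
  minV : ∀ W : Subgroup G, Nat.card W < Nat.card V → Cfsg.IsElementaryAbelian 2 W → W ≠ ⊥ →
    Cfsg.IsSidkiPair W → W ⊓ Cfsg.pCore 2 G ≠ ⊥

variable {G : Type u} [Group G]

theorem sidki_exists_ne_one {H : Subgroup G} (h : H ≠ ⊥) : ∃ x ∈ H, x ≠ 1 := by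
  by_contra hc
  push Not at hc
  exact h ((Subgroup.eq_bot_iff_forall H).mpr hc)

theorem sidki_elem_of_le {V U : Subgroup G} (hV : Cfsg.IsElementaryAbelian 2 V) (hUV : U ≤ V) :
    Cfsg.IsElementaryAbelian 2 U := by
  refine ⟨?_, fun a ha => hV.2 a (hUV ha)⟩
  apply le_centralizer_iff_isMulCommutative.mp
  have h1 : V ≤ centralizer (V : Set G) := le_centralizer_iff_isMulCommutative.mpr hV.1
  exact (hUV.trans h1).trans (centralizer_le (SetLike.coe_subset_coe.mpr hUV))

theorem sidki_comm {V : Subgroup G} (hV : Cfsg.IsElementaryAbelian 2 V) {a b : G} (ha : a ∈ V)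
    (hb : b ∈ V) : a * b = b * a := by
  have h1 : V ≤ centralizer (V : Set G) := le_centralizer_iff_isMulCommutative.mpr hV.1
  exact mem_centralizer_iff.mp (h1 hb) a ha

theorem sidki_inv {V : Subgroup G} (hV : Cfsg.IsElementaryAbelian 2 V) {a : G} (ha : a ∈ V) :
    a⁻¹ = a := by
  rw [inv_eq_iff_mul_eq_one, ← pow_two]
  exact hV.2 a ha

theorem sidki_mul_self {V : Subgroup G} (hV : Cfsg.IsElementaryAbelian 2 V) {a : G} (ha : a ∈ V) :
    a * a = 1 := by
  rw [← pow_two]
  exact hV.2 a ha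

/-- An element of odd order equal to its inverse is trivial. -/
theorem sidki_eq_one_of_inv {x : G} (ho : Odd (orderOf x)) (h : x⁻¹ = x) : x = 1 := by
  have h2 : x ^ 2 = 1 := by rw [pow_two]; nth_rewrite 1 [← h]; exact inv_mul_cancel x
  have hd : orderOf x ∣ 2 := orderOf_dvd_of_pow_eq_one h2
  have h1 : orderOf x = 1 := by
    rcases (Nat.dvd_prime Nat.prime_two).mp hd with h | h
    · exact h
    · rw [h] at ho; exact absurd ho (by decide)
  exact orderOf_eq_one_iff.mp h1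

/-- An element of odd order is a power of its square. -/
theorem sidki_mem_of_sq_mem {H : Subgroup G} {y : G} (ho : Odd (orderOf y)) (h : y ^ 2 ∈ H) :
    y ∈ H := by
  obtain ⟨k, hk⟩ := ho
  have h1 : y = (y ^ 2) ^ (k + 1) := by
    rw [← pow_mul]
    have : 2 * (k + 1) = orderOf y + 1 := by omega
    rw [this, pow_succ, pow_orderOf_eq_one, one_mul]
  rw [h1]
  exact H.pow_mem h _

theorem sidki_conj_comm {t w x : G} (h : t * w = w * t) :
    t * (w * x * w⁻¹) * t⁻¹ = w * (t * x * t⁻¹) * w⁻¹ := by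
  have h1 : t * (w * x * w⁻¹) * t⁻¹ = (t * w) * x * (t * w)⁻¹ := by group
  have h2 : w * (t * x * t⁻¹) * w⁻¹ = (w * t) * x * (w * t)⁻¹ := by group
  rw [h1, h2, h]

/-- Minimality applied to a proper subgroup `H` and a subgroup `W ≤ H` (subtype form). -/
theorem sidki_min_sub' [Finite G] {V : Subgroup G} (hM : SidkiMin V) {H W : Subgroup G}
    (hH : H ≠ ⊤) (hW : Cfsg.IsElementaryAbelian 2 W) (hWH : W ≤ H) (hW1 : W ≠ ⊥)
    (hsid : Cfsg.IsSidkiPair (W.subgroupOf H)) :
    ∃ w ∈ W, w ≠ 1 ∧ w ∈ (Cfsg.pCore 2 ↥H).map H.subtype := by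
  have hcard : Nat.card ↥H < Nat.card G := by
    refine lt_of_le_of_ne (Subgroup.card_le_card_group H) ?_
    intro h; exact hH ((Subgroup.card_eq_iff_eq_top H).mp h)
  have hel : Cfsg.IsElementaryAbelian 2 (W.subgroupOf H) := by
    refine ⟨?_, ?_⟩
    · have := hW.1; infer_instance
    · intro a ha
      apply Subtype.ext
      rw [Subgroup.coe_pow, Subgroup.coe_one]
      exact hW.2 (a : G) (Subgroup.mem_subgroupOf.mp ha)
  have hne : W.subgroupOf H ≠ ⊥ := by
    intro h
    apply hW1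
    rw [Subgroup.subgroupOf_eq_bot] at h
    exact h.eq_bot_of_le hWH
  have hres := hM.minG ↥H (W.subgroupOf H) hcard hel hne hsid
  obtain ⟨x, hx, hx1⟩ := sidki_exists_ne_one hres
  exact ⟨(x : G), Subgroup.mem_subgroupOf.mp hx.1, fun h => hx1 (Subtype.ext h), ⟨x, hx.2, rfl⟩⟩

/-- Minimality applied to a proper subgroup `H` and a subgroup `W ≤ H` (elementwise form). -/
theorem sidki_min_sub [Finite G] {V : Subgroup G} (hM : SidkiMin V) {H W : Subgroup G}
    (hH : H ≠ ⊤) (hW : Cfsg.IsElementaryAbelian 2 W) (hWH : W ≤ H) (hW1 : W ≠ ⊥)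
    (hWS : ∀ h v : G, h ∈ H → v ∈ W → Odd (orderOf h) → v * h * v⁻¹ = h⁻¹ →
      ∃ w ∈ W, w ≠ 1 ∧ w * h = h * w) :
    ∃ w ∈ W, w ≠ 1 ∧ w ∈ (Cfsg.pCore 2 ↥H).map H.subtype := by
  apply sidki_min_sub' hM hH hW hWH hW1
  intro h v hv hodd hinv
  have hodd' : Odd (orderOf (h : G)) := by rw [Subgroup.orderOf_coe]; exact hodd
  have hinv' : (v : G) * (h : G) * (v : G)⁻¹ = (h : G)⁻¹ := by
    have := congrArg Subtype.val hinv
    simpa using this
  obtain ⟨w, hw, hw1, hwc⟩ := hWS h v h.2 (Subgroup.mem_subgroupOf.mp hv) hodd' hinv'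
  refine ⟨⟨w, hWH hw⟩, Subgroup.mem_subgroupOf.mpr hw, ?_, ?_⟩
  · intro h1; exact hw1 (congrArg Subtype.val h1)
  · exact Subtype.ext hwc

/-- Contrapositive: a subgroup `W` of a proper subgroup `H` meeting `O_2(H)` trivially is not a
Sidki pair in `H`. -/
theorem sidki_not_sub [Finite G] {V : Subgroup G} (hM : SidkiMin V) {H W : Subgroup G}
    (hH : H ≠ ⊤) (hW : Cfsg.IsElementaryAbelian 2 W) (hWH : W ≤ H) (hW1 : W ≠ ⊥)
    (hcore : ∀ w ∈ W, w ∈ (Cfsg.pCore 2 ↥H).map H.subtype → w = 1) :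
    ∃ h u : G, h ∈ H ∧ u ∈ W ∧ Odd (orderOf h) ∧ u * h * u⁻¹ = h⁻¹ ∧
      ∀ w ∈ W, w ≠ 1 → w * h ≠ h * w := by
  by_contra hno
  push Not at hno
  obtain ⟨w, hw, hw1, hwc⟩ := sidki_min_sub hM hH hW hWH hW1
    (fun h v hh hv hodd hinv => hno h v hh hv hodd hinv)
  exact hw1 (hcore w hw hwc)

/-- A subnormal cyclic `2`-subgroup is trivial when `O_2(G) = 1`. -/
theorem sidki_two_elt_eq_one [Finite G] (hO : Cfsg.pCore 2 G = ⊥) {b : G} {k : ℕ}
    (hk : b ^ (2 ^ k) = 1) (hsn : (zpowers b).IsSubnormal) : b = 1 := by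
  have hp : IsPGroup 2 ↥(zpowers b) := by
    obtain ⟨j, _, hjo⟩ := (Nat.dvd_prime_pow Nat.prime_two).mp (orderOf_dvd_of_pow_eq_one hk)
    exact IsPGroup.of_card (n := j) (by rw [Nat.card_zpowers, hjo])
  have hle := Helper22.le_pCore_of_isSubnormal 2 hsn hp
  rw [hO] at hle
  exact Subgroup.mem_bot.mp (hle (mem_zpowers b))

/-- A central `2`-element is trivial when `O_2(G) = 1`. -/
theorem sidki_central_two_eq_one [Finite G] (hO : Cfsg.pCore 2 G = ⊥) {z : G}
    (hz : z ∈ center G) {k : ℕ} (hk : z ^ (2 ^ k) = 1) : z = 1 := by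
  apply sidki_two_elt_eq_one hO hk
  apply Subgroup.Normal.isSubnormal
  refine ⟨fun n hn g => ?_⟩
  have hc : n ∈ center G := (zpowers_le.mpr hz) hn
  have h1 : g * n * g⁻¹ = n := by
    rw [Subgroup.mem_center_iff.mp hc g, mul_inv_cancel_right]
  rw [h1]; exact hn

/-- `O_2(H)` (mapped to `G`) centralizes a subnormal subgroup `N` of `G` normal in `H`, when
`O_2(G) = 1`. -/
theorem sidki_core_centralizes [Finite G] (hO : Cfsg.pCore 2 G = ⊥) {H N : Subgroup G}
    (hNs : N.IsSubnormal) (hNH : N ≤ H) (hHN : H ≤ normalizer (N : Set G)) {w : G}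
    (hw : w ∈ (Cfsg.pCore 2 ↥H).map H.subtype) : w ∈ centralizer (N : Set G) := by
  have hOH : (Cfsg.pCore 2 ↥H).map H.subtype ≤ H := Subgroup.map_subtype_le _
  have hOp : IsPGroup 2 ↥((Cfsg.pCore 2 ↥H).map H.subtype) :=
    (Helper22.pCore_isPGroup 2 ↥H).map H.subtype
  have hconj : ∀ o ∈ (Cfsg.pCore 2 ↥H).map H.subtype, ∀ h ∈ H,
      h * o * h⁻¹ ∈ (Cfsg.pCore 2 ↥H).map H.subtype := by
    intro o ho h hh
    obtain ⟨o', ho', rfl⟩ := ho
    exact ⟨⟨h, hh⟩ * o' * ⟨h, hh⟩⁻¹, (Cfsg.pCore_normal 2 ↥H).conj_mem o' ho' ⟨h, hh⟩, rfl⟩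
  have hinf : (Cfsg.pCore 2 ↥H).map H.subtype ⊓ N = ⊥ := by
    have hsn : ((Cfsg.pCore 2 ↥H).map H.subtype ⊓ N).IsSubnormal := by
      apply Subgroup.IsSubnormal.trans (inf_le_right : _ ⊓ N ≤ N) _ hNs
      apply Subgroup.Normal.isSubnormal
      refine ⟨fun x hx n => ?_⟩
      rw [Subgroup.mem_subgroupOf] at hx ⊢
      refine ⟨?_, ?_⟩
      · simpa using hconj _ hx.1 _ (hNH n.2)
      · simpa using N.mul_mem (N.mul_mem n.2 hx.2) (N.inv_mem n.2)
    have hle := Helper22.le_pCore_of_isSubnormal 2 hsn (hOp.to_le inf_le_left)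
    rw [hO] at hle; exact le_bot_iff.mp hle
  rw [mem_centralizer_iff]
  intro n hn
  have hwN : w * n * w⁻¹ ∈ N := (mem_normalizer_iff.mp (hHN (hOH hw)) n).mp hn
  have h1 : w * n * w⁻¹ * n⁻¹ ∈ (Cfsg.pCore 2 ↥H).map H.subtype ⊓ N := by
    refine ⟨?_, ?_⟩
    · have h2 : w * n * w⁻¹ * n⁻¹ = w * (n * w⁻¹ * n⁻¹) := by group
      rw [h2]
      exact Subgroup.mul_mem _ hw (hconj _ (Subgroup.inv_mem _ hw) _ (hNH hn))
    · exact N.mul_mem hwN (N.inv_mem hn)
  rw [hinf, Subgroup.mem_bot] at h1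
  have h2 : w * n * w⁻¹ * n⁻¹ * (n * w) = n * w := by rw [h1, one_mul]
  rw [← h2]; group

/-- Minimality applied to a quotient by a nontrivial normal subgroup meeting `V` trivially. -/
theorem sidki_quot_aux [Finite G] {V : Subgroup G} (hM : SidkiMin V) (K : Subgroup G)
    [K.Normal] (hK : K ≠ ⊥) (hVK : V ⊓ K = ⊥) :
    ∃ v ∈ V, v ≠ 1 ∧ (QuotientGroup.mk' K v) ∈ Cfsg.pCore 2 (G ⧸ K) := by
  have hS' := Cfsg.Agent.S3012.result V K hM.elem hM.ne hM.sidki hVK
  have hcard : Nat.card (G ⧸ K) < Nat.card G := by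
    have h1 : Nat.card (G ⧸ K) * Nat.card K = Nat.card G := by
      rw [← Subgroup.index_eq_card]; exact Subgroup.index_mul_card K
    have h2 : 1 < Nat.card K := (Subgroup.one_lt_card_iff_ne_bot K).mpr hK
    have h3 : 0 < Nat.card (G ⧸ K) := Nat.card_pos
    nlinarith
  have hel : Cfsg.IsElementaryAbelian 2 (V.map (QuotientGroup.mk' K)) := by
    refine ⟨?_, ?_⟩
    · have := hM.elem.1; infer_instance
    · rintro _ ⟨v, hv, rfl⟩
      rw [← map_pow, hM.elem.2 v hv, map_one]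
  have hne : V.map (QuotientGroup.mk' K) ≠ ⊥ := by
    intro h
    obtain ⟨v, hv, hv1⟩ := sidki_exists_ne_one hM.ne
    have h1 : QuotientGroup.mk' K v ∈ V.map (QuotientGroup.mk' K) := Subgroup.mem_map_of_mem _ hv
    rw [h, Subgroup.mem_bot] at h1
    have h2 : v ∈ V ⊓ K := ⟨hv, (QuotientGroup.eq_one_iff v).mp h1⟩
    rw [hVK, Subgroup.mem_bot] at h2
    exact hv1 h2
  have hres := hM.minG (G ⧸ K) (V.map (QuotientGroup.mk' K)) hcard hel hne hS'
  obtain ⟨x, hx, hx1⟩ := sidki_exists_ne_one hres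
  obtain ⟨v, hv, rfl⟩ := hx.1
  exact ⟨v, hv, fun h => hx1 (by rw [h, map_one]), hx.2⟩

/-- In a minimal counterexample `O_2(G) = 1`. -/
theorem sidki_pCore_eq_bot [Finite G] {V : Subgroup G} (hM : SidkiMin V) :
    Cfsg.pCore 2 G = ⊥ := by
  by_contra hne
  obtain ⟨v, hv, hv1, hvq⟩ := sidki_quot_aux hM (Cfsg.pCore 2 G) hne hM.core
  have h1 : v ∈ Cfsg.pCore 2 G :=
    Helper51.comap_pCore_quotient_le (Cfsg.pCore 2 G) (Helper22.pCore_isPGroup 2 G) hvq
  have h2 : v ∈ V ⊓ Cfsg.pCore 2 G := ⟨hv, h1⟩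
  rw [hM.core, Subgroup.mem_bot] at h2
  exact hv1 h2

/-- An involution mapping into `O_2(G/Z(G))` is trivial when `O_2(G) = 1`. -/
theorem sidki_center_aux [Finite G] (hO : Cfsg.pCore 2 G = ⊥) {v : G} (hv2 : v ^ 2 = 1)
    (hv : (QuotientGroup.mk' (center G)) v ∈ Cfsg.pCore 2 (G ⧸ center G)) : v = 1 := by
  let S : Sylow 2 G := default
  have hXn : ((Cfsg.pCore 2 (G ⧸ center G)).comap (QuotientGroup.mk' (center G))).Normal :=
    (Cfsg.pCore_normal 2 _).comap _
  have hZX : center G ≤ (Cfsg.pCore 2 (G ⧸ center G)).comap (QuotientGroup.mk' (center G)) := by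
    intro z hz
    rw [mem_comap]
    have h1 : QuotientGroup.mk' (center G) z = 1 := (QuotientGroup.eq_one_iff z).mpr hz
    rw [h1]; exact one_mem _
  have hdec : ∀ y ∈ (Cfsg.pCore 2 (G ⧸ center G)).comap (QuotientGroup.mk' (center G)),
      ∃ c ∈ center G, ∃ s ∈ (S : Subgroup G), y = c * s :=
    fun y hy => Helper51.exists_mul_of_mem_comap_pCore (center G) S hy
  have hQ : ∀ q ∈ (S : Subgroup G) ⊓
      (Cfsg.pCore 2 (G ⧸ center G)).comap (QuotientGroup.mk' (center G)), q = 1 := by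
    have hQn : ((S : Subgroup G) ⊓
        (Cfsg.pCore 2 (G ⧸ center G)).comap (QuotientGroup.mk' (center G))).Normal := by
      refine ⟨fun q hq g => ?_⟩
      have hqS : q ∈ (S : Subgroup G) := hq.1
      have hgX := hXn.conj_mem q hq.2 g
      obtain ⟨c, hc, s, hs, hcs⟩ := hdec _ hgX
      obtain ⟨k, hk⟩ := S.isPGroup' ⟨q, hqS⟩
      obtain ⟨j, hj⟩ := S.isPGroup' ⟨s, hs⟩
      have hk' : q ^ (2 ^ k) = 1 := by simpa using congrArg Subtype.val hk
      have hj' : s ^ (2 ^ j) = 1 := by simpa using congrArg Subtype.val hj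
      have hcomm : Commute c s := (Subgroup.mem_center_iff.mp hc s).symm
      have h1 : (g * q * g⁻¹) ^ (2 ^ (k + j)) = 1 := by
        rw [conj_pow, pow_add, pow_mul, hk', one_pow, mul_one, mul_inv_cancel]
      have hs' : s ^ (2 ^ (k + j)) = 1 := by rw [pow_add, mul_comm, pow_mul, hj', one_pow]
      have h2 : c ^ (2 ^ (k + j)) = 1 := by
        have h3 : (c * s) ^ (2 ^ (k + j)) = c ^ (2 ^ (k + j)) * s ^ (2 ^ (k + j)) :=
          hcomm.mul_pow _
        rw [← hcs, h1, hs', mul_one] at h3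
        exact h3.symm
      have hc1 : c = 1 := sidki_central_two_eq_one hO hc h2
      have hgs : g * q * g⁻¹ = s := by rw [hcs, hc1, one_mul]
      rw [hgs]
      refine ⟨hs, ?_⟩
      rw [← hgs]; exact hgX
    have hQp : IsPGroup 2 ↥((S : Subgroup G) ⊓
        (Cfsg.pCore 2 (G ⧸ center G)).comap (QuotientGroup.mk' (center G))) :=
      S.isPGroup'.to_le inf_le_left
    have hle : (S : Subgroup G) ⊓
        (Cfsg.pCore 2 (G ⧸ center G)).comap (QuotientGroup.mk' (center G)) ≤ Cfsg.pCore 2 G :=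
      le_sSup ⟨hQn, hQp⟩
    rw [hO] at hle
    intro q hq; exact Subgroup.mem_bot.mp (hle hq)
  obtain ⟨c, hc, s, hs, hcs⟩ := hdec v hv
  have hsX : s ∈ (Cfsg.pCore 2 (G ⧸ center G)).comap (QuotientGroup.mk' (center G)) := by
    have h1 : s = c⁻¹ * v := by rw [hcs]; group
    rw [h1]; exact Subgroup.mul_mem _ (Subgroup.inv_mem _ (hZX hc)) hv
  have hs1 : s = 1 := hQ s ⟨hs, hsX⟩
  rw [hs1, mul_one] at hcs
  rw [hcs] at hv2 ⊢
  exact sidki_central_two_eq_one hO hc (k := 1) (by simpa using hv2)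

/-- In a minimal counterexample `Z(G) = 1`. -/
theorem sidki_center_eq_bot [Finite G] {V : Subgroup G} (hM : SidkiMin V) :
    center G = ⊥ := by
  have hO := sidki_pCore_eq_bot hM
  by_contra hne
  have hVK : V ⊓ center G = ⊥ := by
    rw [Subgroup.eq_bot_iff_forall]
    intro x hx
    exact sidki_central_two_eq_one hO hx.2 (k := 1) (by simpa using hM.elem.2 x hx.1)
  obtain ⟨v, hv, hv1, hvq⟩ := sidki_quot_aux hM (center G) hne hVK
  exact hv1 (sidki_center_aux hO (hM.elem.2 v hv) hvq)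

/-- **Key lemma.** In a minimal counterexample every nontrivial normal subgroup `N` satisfies
`G = N V`. -/
theorem sidki_sup_eq_top [Finite G] {V : Subgroup G} (hM : SidkiMin V) (N : Subgroup G)
    [hNn : N.Normal] (hN : N ≠ ⊥) : N ⊔ V = ⊤ := by
  have hO := sidki_pCore_eq_bot hM
  have hZ := sidki_center_eq_bot hM
  by_contra hne
  obtain ⟨w₀, hw₀V, hw₀1, hw₀c⟩ := sidki_min_sub hM hne hM.elem le_sup_right hM.ne
    (fun h v _ hv hodd hinv => hM.sidki h v hv hodd hinv)
  have hw₀K : w₀ ∈ centralizer (N : Set G) :=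
    sidki_core_centralizes hO hNn.isSubnormal le_sup_left
      (by rw [normalizer_eq_top_iff.mpr hNn]; exact le_top) hw₀c
  have hKn : (centralizer (N : Set G)).Normal := inferInstance
  have hKtop : centralizer (N : Set G) ≠ ⊤ := by
    intro h
    apply hN
    rw [eq_bot_iff, ← hZ]
    intro n hn
    rw [Subgroup.mem_center_iff]
    intro g
    have hg : g ∈ centralizer (N : Set G) := by rw [h]; exact mem_top g
    exact (mem_centralizer_iff.mp hg n hn).symm
  have hU1 : V ⊓ centralizer (N : Set G) ≠ ⊥ := by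
    intro h
    have h1 : w₀ ∈ V ⊓ centralizer (N : Set G) := ⟨hw₀V, hw₀K⟩
    rw [h, Subgroup.mem_bot] at h1
    exact hw₀1 h1
  have hUel : Cfsg.IsElementaryAbelian 2 (V ⊓ centralizer (N : Set G)) :=
    sidki_elem_of_le hM.elem inf_le_left
  obtain ⟨h, u, hhK, huU, hodd, hinv, hno⟩ := sidki_not_sub hM hKtop hUel inf_le_right hU1 (by
    intro w _ hwc
    have h1 : w ∈ Cfsg.pCore 2 G := Helper22.pCore_map_subtype_le 2 hKn.isSubnormal hwc
    rw [hO] at h1; exact Subgroup.mem_bot.mp h1)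
  have huV : u ∈ V := huU.1
  have huK : u ∈ centralizer (N : Set G) := huU.2
  obtain ⟨hCV, hCS⟩ := Cfsg.Agent.S3013.result V hM.elem hM.ne hM.sidki u h huV hodd hinv
    (centralizer ({u} : Set G) ⊓ centralizer ({h} : Set G)) rfl
  have hu1 : u ≠ 1 := by
    intro hu
    rw [hu, one_mul, inv_one, mul_one] at hinv
    have hh1 : h = 1 := sidki_eq_one_of_inv hodd hinv.symm
    exact hno w₀ ⟨hw₀V, hw₀K⟩ hw₀1 (by rw [hh1, mul_one, one_mul])
  have hCtop : centralizer ({u} : Set G) ⊓ centralizer ({h} : Set G) ≠ ⊤ := by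
    intro hC
    apply hu1
    have hu : u ∈ center G := by
      rw [Subgroup.mem_center_iff]
      intro g
      have hg : g ∈ centralizer ({u} : Set G) ⊓ centralizer ({h} : Set G) := by
        rw [hC]; exact mem_top g
      exact (mem_centralizer_iff.mp hg.1 u rfl).symm
    rw [hZ, Subgroup.mem_bot] at hu
    exact hu
  obtain ⟨w, hwW, hw1, hwc⟩ := sidki_min_sub' hM hCtop (sidki_elem_of_le hM.elem inf_le_right)
    inf_le_left hCV hCS
  have hNC : N ≤ centralizer ({u} : Set G) ⊓ centralizer ({h} : Set G) := by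
    intro n hn
    have h1 : n ∈ centralizer ({u} : Set G) := by
      rw [mem_centralizer_iff]
      intro x hx
      rw [Set.mem_singleton_iff.mp hx]
      exact (mem_centralizer_iff.mp huK n hn).symm
    have h2 : n ∈ centralizer ({h} : Set G) := by
      rw [mem_centralizer_iff]
      intro x hx
      rw [Set.mem_singleton_iff.mp hx]
      exact (mem_centralizer_iff.mp hhK n hn).symm
    exact Subgroup.mem_inf.mpr ⟨h1, h2⟩
  have hwK : w ∈ centralizer (N : Set G) :=
    sidki_core_centralizes hO hNn.isSubnormal hNC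
      (by rw [normalizer_eq_top_iff.mpr hNn]; exact le_top) hwc
  have hwh : w * h = h * w := (mem_centralizer_iff.mp hwW.1.2 h rfl).symm
  exact hno w ⟨hwW.2, hwK⟩ hw1 hwh

/-- If `K` is normal with `G = K V`, every commutator lies in `K`. -/
theorem sidki_commutator_mem {V : Subgroup G} (hV : Cfsg.IsElementaryAbelian 2 V)
    {K : Subgroup G} [hKn : K.Normal] (h : K ⊔ V = ⊤) (x y : G) : ⁅x, y⁆ ∈ K := by
  have hVK : V ≤ normalizer (K : Set G) := by rw [normalizer_eq_top_iff.mpr hKn]; exact le_top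
  obtain ⟨k₁, hk₁, v₁, hv₁, rfl⟩ := Helper35.exists_mul_of_mem_sup_of_le_normalizer hVK
    (show x ∈ K ⊔ V by rw [h]; exact mem_top x)
  obtain ⟨k₂, hk₂, v₂, hv₂, rfl⟩ := Helper35.exists_mul_of_mem_sup_of_le_normalizer hVK
    (show y ∈ K ⊔ V by rw [h]; exact mem_top y)
  rw [← QuotientGroup.eq_one_iff, ← QuotientGroup.mk'_apply, map_commutatorElement, map_mul,
    map_mul]
  have e1 : QuotientGroup.mk' K k₁ = 1 := (QuotientGroup.eq_one_iff k₁).mpr hk₁
  have e2 : QuotientGroup.mk' K k₂ = 1 := (QuotientGroup.eq_one_iff k₂).mpr hk₂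
  rw [e1, e2, one_mul, one_mul, ← map_commutatorElement]
  have e3 : ⁅v₁, v₂⁆ = 1 := by
    rw [commutatorElement_eq_one_iff_mul_comm]
    exact sidki_comm hV hv₁ hv₂
  rw [e3, map_one]

/-- In a minimal counterexample there is no nontrivial abelian normal subgroup. -/
theorem sidki_abelian_normal_eq_bot [Finite G] {V : Subgroup G} (hM : SidkiMin V)
    (A : Subgroup G) [hAn : A.Normal] (hA : IsMulCommutative A) : A = ⊥ := by
  have hO := sidki_pCore_eq_bot hM
  have hZ := sidki_center_eq_bot hM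
  by_contra hAne
  have htop : A ⊔ V = ⊤ := sidki_sup_eq_top hM A hAne
  have hAc : ∀ a ∈ A, ∀ b ∈ A, a * b = b * a := by
    intro a ha b hb
    have h1 : A ≤ centralizer (A : Set G) := le_centralizer_iff_isMulCommutative.mpr hA
    exact mem_centralizer_iff.mp (h1 hb) a ha
  -- elements of `A` have odd order
  have hAodd : ∀ a ∈ A, Odd (orderOf a) := by
    intro a ha
    obtain ⟨k, m, hm, hkm⟩ := Nat.exists_eq_two_pow_mul_odd (n := orderOf a) (orderOf_pos a).ne'
    have hb : (a ^ m) ^ (2 ^ k) = 1 := by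
      rw [← pow_mul, mul_comm, ← hkm, pow_orderOf_eq_one]
    have hsn : (zpowers (a ^ m)).IsSubnormal := by
      have hle : zpowers (a ^ m) ≤ A := zpowers_le.mpr (A.pow_mem ha m)
      apply Subgroup.IsSubnormal.trans hle _ hAn.isSubnormal
      apply Subgroup.Normal.isSubnormal
      refine ⟨fun x hx n => ?_⟩
      have h1 : n * x * n⁻¹ = x := by
        apply Subtype.ext
        simp only [Subgroup.coe_mul, Subgroup.coe_inv]
        rw [hAc (n : G) n.2 (x : G) x.2, mul_inv_cancel_right]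
      rw [h1]; exact hx
    have h1 : a ^ m = 1 := sidki_two_elt_eq_one hO hb hsn
    exact Odd.of_dvd_nat hm (orderOf_dvd_of_pow_eq_one h1)
  -- odd-order elements lie in `A`
  have hVA : V ≤ normalizer (A : Set G) := by rw [normalizer_eq_top_iff.mpr hAn]; exact le_top
  have hoddA : ∀ y : G, Odd (orderOf y) → y ∈ A := by
    intro y hy
    apply sidki_mem_of_sq_mem hy
    obtain ⟨a, ha, v, hv, rfl⟩ := Helper35.exists_mul_of_mem_sup_of_le_normalizer hVA
      (show y ∈ A ⊔ V by rw [htop]; exact mem_top y)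
    have h1 : (a * v) ^ 2 = a * (v * a * v⁻¹) := by
      have h2 : (a * v) ^ 2 = a * (v * a * v⁻¹) * (v * v) := by rw [pow_two]; group
      rw [h2, sidki_mul_self hM.elem hv, mul_one]
    rw [h1]
    exact A.mul_mem ha (hAn.conj_mem a ha v)
  -- `V` acts faithfully on `A`
  have hfaith : ∀ t ∈ V, t ≠ 1 → ∃ a ∈ A, t * a ≠ a * t := by
    intro t ht ht1
    by_contra hno
    push Not at hno
    apply ht1
    have hc : t ∈ center G := by
      rw [Subgroup.mem_center_iff]
      intro g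
      have hg : g ∈ centralizer ({t} : Set G) := by
        have hle : A ⊔ V ≤ centralizer ({t} : Set G) := by
          apply sup_le
          · intro a ha
            rw [mem_centralizer_iff]
            intro x hx
            rw [Set.mem_singleton_iff.mp hx]
            exact hno a ha
          · intro b hb
            rw [mem_centralizer_iff]
            intro x hx
            rw [Set.mem_singleton_iff.mp hx]
            exact sidki_comm hM.elem ht hb
        exact hle (by rw [htop]; exact mem_top g)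
      exact (mem_centralizer_iff.mp hg t rfl).symm
    rw [hZ, Subgroup.mem_bot] at hc
    exact hc
  -- `V` has order at least 8
  have hV4 : 4 < Nat.card V := by
    by_contra h
    push Not at h
    exact Cfsg.Agent.S3011.result V hM.elem hM.ne hM.sidki h hM.core
  -- a subgroup of index 2
  obtain ⟨U, hUV, hU1, hUlt, hU2⟩ : ∃ U : Subgroup G, U ≤ V ∧ U ≠ ⊥ ∧ Nat.card U < Nat.card V ∧
      ∀ a ∈ V, ∀ b ∈ V, a ∉ U → b ∉ U → a * b ∈ U := by
    have hVp : IsPGroup 2 ↥V := by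
      intro g
      exact ⟨1, by apply Subtype.ext; simpa using hM.elem.2 (g : G) g.2⟩
    obtain ⟨n, hn⟩ := IsPGroup.iff_card.mp hVp
    have hn3 : 3 ≤ n := by
      by_contra h
      have h1 : n ≤ 2 := by omega
      have h2 : 2 ^ n ≤ 2 ^ 2 := Nat.pow_le_pow_right (by norm_num) h1
      omega
    obtain ⟨K, hK⟩ := Sylow.exists_subgroup_card_pow_prime (G := ↥V) 2 (n := n - 1)
      (by rw [hn]; exact pow_dvd_pow 2 (by omega))
    have hKi : K.index = 2 := by
      have h1 := Subgroup.card_mul_index K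
      rw [hK, hn] at h1
      have h2 : 2 ^ n = 2 ^ (n - 1) * 2 := by rw [← pow_succ]; congr 1; omega
      rw [h2] at h1
      exact Nat.eq_of_mul_eq_mul_left (by positivity) h1
    have hcK : Nat.card ↥(K.map V.subtype) = 2 ^ (n - 1) := by
      rw [Subgroup.card_map_of_injective V.subtype_injective]; exact hK
    refine ⟨K.map V.subtype, Subgroup.map_subtype_le K, ?_, ?_, ?_⟩
    · intro h
      rw [h, Subgroup.card_bot] at hcK
      have h3 : 2 ^ 1 ≤ 2 ^ (n - 1) := Nat.pow_le_pow_right (by norm_num) (by omega)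
      omega
    · rw [hcK, hn]; exact Nat.pow_lt_pow_right (by norm_num) (by omega)
    · intro a ha b hb haU hbU
      have h1 : (⟨a, ha⟩ : ↥V) ∉ K := fun h => haU ⟨⟨a, ha⟩, h, rfl⟩
      have h2 : (⟨b, hb⟩ : ↥V) ∉ K := fun h => hbU ⟨⟨b, hb⟩, h, rfl⟩
      have h3 : (⟨a, ha⟩ : ↥V) * ⟨b, hb⟩ ∈ K :=
        (Subgroup.mul_mem_iff_of_index_two hKi).mpr ⟨fun h => absurd h h1, fun h => absurd h h2⟩
      exact ⟨⟨a, ha⟩ * ⟨b, hb⟩, h3, rfl⟩
  have hUel : Cfsg.IsElementaryAbelian 2 U := sidki_elem_of_le hM.elem hUV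
  have hUnot : ¬ Cfsg.IsSidkiPair U := by
    intro hSU
    have h1 := hM.minV U hUlt hUel hU1 hSU
    rw [hO, inf_bot_eq] at h1
    exact h1 rfl
  unfold Cfsg.IsSidkiPair at hUnot
  push Not at hUnot
  obtain ⟨y, u, huU, hyodd, hyinv, hyno⟩ := hUnot
  obtain ⟨t, htV, ht1, hty⟩ := hM.sidki y u (hUV huU) hyodd hyinv
  have htU : t ∉ U := fun h => hyno t h ht1 hty
  have hyA : y ∈ A := hoddA y hyodd
  have huV : u ∈ V := hUV huU
  have hty' : t * y * t⁻¹ = y := by rw [hty, mul_inv_cancel_right]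
  -- the closing argument
  have close : ∀ z ∈ A, z ≠ 1 → t * z * t⁻¹ = z⁻¹ → ∀ v ∈ V, v * y * v⁻¹ = y⁻¹ →
      v * z * v⁻¹ = z⁻¹ → False := by
    intro z hz hz1 htz v hv hvy hvz
    have hxA : y * z ∈ A := A.mul_mem hyA hz
    have hxinv : v * (y * z) * v⁻¹ = (y * z)⁻¹ := by
      have h1 : v * (y * z) * v⁻¹ = (v * y * v⁻¹) * (v * z * v⁻¹) := by group
      rw [h1, hvy, hvz, mul_inv_rev]
      exact hAc _ (A.inv_mem hyA) _ (A.inv_mem hz)
    obtain ⟨w, hwV, hw1, hwx⟩ := hM.sidki (y * z) v hv (hAodd _ hxA) hxinv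
    have hwx' : (w * y * w⁻¹) * (w * z * w⁻¹) = y * z := by
      have h1 : (w * y * w⁻¹) * (w * z * w⁻¹) = w * (y * z) * w⁻¹ := by group
      rw [h1, hwx, mul_inv_cancel_right]
    have hwyA : w * y * w⁻¹ ∈ A := hAn.conj_mem y hyA w
    have hwzA : w * z * w⁻¹ ∈ A := hAn.conj_mem z hz w
    have hc1 : y⁻¹ * (w * y * w⁻¹) = z * (w * z * w⁻¹)⁻¹ := by
      have h1 : w * y * w⁻¹ = y * z * (w * z * w⁻¹)⁻¹ := by
        rw [← hwx', mul_inv_cancel_right]
      rw [h1]; group
    have htw : t * w = w * t := sidki_comm hM.elem htV hwV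
    have hcA : y⁻¹ * (w * y * w⁻¹) ∈ A := A.mul_mem (A.inv_mem hyA) hwyA
    have hcfix : t * (y⁻¹ * (w * y * w⁻¹)) * t⁻¹ = y⁻¹ * (w * y * w⁻¹) := by
      have h1 : t * (y⁻¹ * (w * y * w⁻¹)) * t⁻¹ =
          (t * y * t⁻¹)⁻¹ * (t * (w * y * w⁻¹) * t⁻¹) := by group
      rw [h1, sidki_conj_comm htw, hty']
    have hcinv : t * (z * (w * z * w⁻¹)⁻¹) * t⁻¹ = (z * (w * z * w⁻¹)⁻¹)⁻¹ := by
      have h1 : t * (z * (w * z * w⁻¹)⁻¹) * t⁻¹ =
          (t * z * t⁻¹) * (t * (w * z * w⁻¹) * t⁻¹)⁻¹ := by group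
      rw [h1, sidki_conj_comm htw, htz]
      have h2 : (w * z⁻¹ * w⁻¹)⁻¹ = w * z * w⁻¹ := by group
      have h3 : (z * (w * z * w⁻¹)⁻¹)⁻¹ = (w * z * w⁻¹) * z⁻¹ := by group
      rw [h2, h3]
      exact hAc _ (A.inv_mem hz) _ hwzA
    have hc : y⁻¹ * (w * y * w⁻¹) = 1 := by
      apply sidki_eq_one_of_inv (hAodd _ hcA)
      have h1 := hcinv
      rw [← hc1, hcfix] at h1
      exact h1.symm
    have hwy : w * y = y * w := by
      have h1 : w * y * w⁻¹ = y := (inv_mul_eq_one.mp hc).symm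
      calc w * y = w * y * w⁻¹ * w := by group
        _ = y * w := by rw [h1]
    have hwz : w * z = z * w := by
      have h1 : z * (w * z * w⁻¹)⁻¹ = 1 := by rw [← hc1]; exact hc
      have h2 : w * z * w⁻¹ = z := (mul_inv_eq_one.mp h1).symm
      calc w * z = w * z * w⁻¹ * w := by group
        _ = z * w := by rw [h2]
    have hwU : w ∉ U := fun h => hyno w h hw1 hwy
    have hwtU : w * t ∈ U := hU2 w hwV t htV hwU htU
    have hwty : w * t * y = y * (w * t) := by
      rw [mul_assoc, hty, ← mul_assoc, hwy, mul_assoc]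
    have hwt1 : w * t = 1 := by
      by_contra h
      exact hyno (w * t) hwtU h hwty
    have hwt : w = t := by
      have h1 : w = t⁻¹ := eq_inv_of_mul_eq_one_left hwt1
      rw [h1, sidki_inv hM.elem htV]
    rw [hwt] at hwz
    have h1 : z⁻¹ = z := by rw [← htz, hwz, mul_inv_cancel_right]
    exact hz1 (sidki_eq_one_of_inv (hAodd z hz) h1)
  obtain ⟨a, haA, hta⟩ := hfaith t htV ht1
  obtain ⟨z₀, hz₀⟩ : ∃ z₀, z₀ = a⁻¹ * (t * a * t⁻¹) := ⟨_, rfl⟩
  have hz₀A : z₀ ∈ A := by rw [hz₀]; exact A.mul_mem (A.inv_mem haA) (hAn.conj_mem a haA t)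
  have hz₀1 : z₀ ≠ 1 := by
    intro h
    apply hta
    have h1 : t * a * t⁻¹ = a := by
      rw [hz₀, inv_mul_eq_one] at h; exact h.symm
    calc t * a = t * a * t⁻¹ * t := by group
      _ = a * t := by rw [h1]
  have htt : t * t = 1 := sidki_mul_self hM.elem htV
  have hz₀t : t * z₀ * t⁻¹ = z₀⁻¹ := by
    have h1 : t * (a⁻¹ * (t * a * t⁻¹)) * t⁻¹ =
        (t * a⁻¹ * t⁻¹) * ((t * t) * a * (t * t)⁻¹) := by group
    rw [hz₀, h1, htt]; group
  have huu : u * u = 1 := sidki_mul_self hM.elem huV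
  have htu : t * u = u * t := sidki_comm hM.elem htV huV
  obtain ⟨z₁, hz₁⟩ : ∃ z₁, z₁ = u * z₀ * u⁻¹ := ⟨_, rfl⟩
  have hz₁A : z₁ ∈ A := by rw [hz₁]; exact hAn.conj_mem z₀ hz₀A u
  have hz₁t : t * z₁ * t⁻¹ = z₁⁻¹ := by
    rw [hz₁, sidki_conj_comm htu, hz₀t]; group
  have huz₁ : u * z₁ * u⁻¹ = z₀ := by
    have h1 : u * (u * z₀ * u⁻¹) * u⁻¹ = (u * u) * z₀ * (u * u)⁻¹ := by group
    rw [hz₁, h1, huu]; group
  have huz₀ : u * z₀ * u⁻¹ = z₁ := hz₁.symm
  by_cases h2 : z₀ * z₁⁻¹ = 1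
  · have hp1 : z₀ * z₁ ≠ 1 := by
      intro h1
      have h3 : z₁ = z₀ := (mul_inv_eq_one.mp h2).symm
      rw [h3] at h1
      have h4 : z₀⁻¹ = z₀ := inv_eq_of_mul_eq_one_left h1
      exact hz₀1 (sidki_eq_one_of_inv (hAodd _ hz₀A) h4)
    have hpt : t * (z₀ * z₁) * t⁻¹ = (z₀ * z₁)⁻¹ := by
      have h1 : t * (z₀ * z₁) * t⁻¹ = (t * z₀ * t⁻¹) * (t * z₁ * t⁻¹) := by group
      rw [h1, hz₀t, hz₁t, mul_inv_rev]
      exact hAc _ (A.inv_mem hz₀A) _ (A.inv_mem hz₁A)
    have hpu : u * (z₀ * z₁) * u⁻¹ = z₀ * z₁ := by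
      have h1 : u * (z₀ * z₁) * u⁻¹ = (u * z₀ * u⁻¹) * (u * z₁ * u⁻¹) := by group
      rw [h1, huz₁, huz₀]
      exact hAc _ hz₁A _ hz₀A
    refine close (z₀ * z₁) (A.mul_mem hz₀A hz₁A) hp1 hpt (u * t) (V.mul_mem huV htV) ?_ ?_
    · have h1 : u * t * y * (u * t)⁻¹ = u * (t * y * t⁻¹) * u⁻¹ := by group
      rw [h1, hty', hyinv]
    · have h1 : u * t * (z₀ * z₁) * (u * t)⁻¹ = u * (t * (z₀ * z₁) * t⁻¹) * u⁻¹ := by group
      have h3 : u * (z₀ * z₁)⁻¹ * u⁻¹ = (u * (z₀ * z₁) * u⁻¹)⁻¹ := by group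
      rw [h1, hpt, h3, hpu]
  · have hqA : z₀ * z₁⁻¹ ∈ A := A.mul_mem hz₀A (A.inv_mem hz₁A)
    have hqt : t * (z₀ * z₁⁻¹) * t⁻¹ = (z₀ * z₁⁻¹)⁻¹ := by
      have h1 : t * (z₀ * z₁⁻¹) * t⁻¹ = (t * z₀ * t⁻¹) * (t * z₁ * t⁻¹)⁻¹ := by group
      rw [h1, hz₀t, hz₁t, mul_inv_rev]
      exact hAc _ (A.inv_mem hz₀A) _ (A.inv_mem (A.inv_mem hz₁A))
    have hqu : u * (z₀ * z₁⁻¹) * u⁻¹ = (z₀ * z₁⁻¹)⁻¹ := by
      have h1 : u * (z₀ * z₁⁻¹) * u⁻¹ = (u * z₀ * u⁻¹) * (u * z₁ * u⁻¹)⁻¹ := by group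
      rw [h1, huz₁, huz₀]; group
    exact close (z₀ * z₁⁻¹) hqA h2 hqt u huV hyinv hqu

/-- In a minimal counterexample `F(G) = 1`. -/
theorem sidki_fitting_eq_bot [Finite G] {V : Subgroup G} (hM : SidkiMin V) :
    Cfsg.fittingSubgroup G = ⊥ := by
  by_contra hne
  have hFn : (Cfsg.fittingSubgroup G).Normal := Helper22.fittingSubgroup_normal G
  have hnil : Group.IsNilpotent ↥(Cfsg.fittingSubgroup G) := Helper22.fittingSubgroup_isNilpotent G
  have hnt : Nontrivial ↥(Cfsg.fittingSubgroup G) := (Subgroup.nontrivial_iff_ne_bot _).mpr hne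
  have hZne : center ↥(Cfsg.fittingSubgroup G) ≠ ⊥ := Group.IsNilpotent.center_ne_bot _
  have hAn : ((center ↥(Cfsg.fittingSubgroup G)).map (Cfsg.fittingSubgroup G).subtype).Normal :=
    inferInstance
  have hAc : IsMulCommutative
      ↥((center ↥(Cfsg.fittingSubgroup G)).map (Cfsg.fittingSubgroup G).subtype) := inferInstance
  have h1 := sidki_abelian_normal_eq_bot hM _ hAc
  apply hZne
  rw [← Subgroup.map_eq_bot_iff_of_injective _ (Cfsg.fittingSubgroup G).subtype_injective]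
  exact h1

/-- The layer normalizes every component. -/
theorem sidki_layer_le_normalizer {M : Subgroup G} (hMc : Cfsg.IsComponent M) :
    Cfsg.layer G ≤ normalizer (M : Set G) := by
  unfold Cfsg.layer
  apply sSup_le
  intro M' hM'
  by_cases h : M' = M
  · rw [h]; exact le_normalizer
  · have hc := Helper22.components_commute hM' hMc h
    exact (commutator_eq_bot_iff_le_centralizer.mp hc).trans (centralizer_le_normalizer _)

/-- A component meets its centralizer trivially when `F(G) = 1`. -/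
theorem sidki_component_inf_centralizer [Finite G] (hF0 : Cfsg.fittingSubgroup G = ⊥)
    {L : Subgroup G} (hL : Cfsg.IsComponent L) :
    ∀ x ∈ L, x ∈ centralizer (L : Set G) → x = 1 := by
  have hsn : (L ⊓ centralizer (L : Set G)).IsSubnormal := by
    apply Subgroup.IsSubnormal.trans (inf_le_left : L ⊓ centralizer (L : Set G) ≤ L) _ hL.1
    apply Subgroup.Normal.isSubnormal
    refine ⟨fun x hx n => ?_⟩
    rw [Subgroup.mem_subgroupOf] at hx ⊢
    have hxc : (x : G) ∈ centralizer (L : Set G) := hx.2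
    have h1 : ((n * x * n⁻¹ : ↥L) : G) = (x : G) := by
      have h2 := mem_centralizer_iff.mp hxc (n : G) n.2
      simp only [Subgroup.coe_mul, Subgroup.coe_inv]
      rw [h2, mul_inv_cancel_right]
    rw [h1]; exact hx
  have hab : L ⊓ centralizer (L : Set G) ≤
      centralizer ((L ⊓ centralizer (L : Set G) : Subgroup G) : Set G) :=
    inf_le_right.trans (centralizer_le (SetLike.coe_subset_coe.mpr inf_le_left))
  have hcommI : IsMulCommutative ↥(L ⊓ centralizer (L : Set G)) :=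
    le_centralizer_iff_isMulCommutative.mp hab
  have hnil : Group.IsNilpotent ↥(L ⊓ centralizer (L : Set G)) :=
    ⟨⟨1, Subgroup.upperCentralSeries_one_eq_top_iff.mpr inferInstance⟩⟩
  have hle := Helper22.le_fittingSubgroup_of_isSubnormal hsn hnil
  rw [hF0] at hle
  intro x hx hxc
  exact Subgroup.mem_bot.mp (hle ⟨hx, hxc⟩)

/-- In a minimal counterexample no nontrivial normal subgroup centralizes a component. -/
theorem sidki_no_normal_centralizing [Finite G] {V : Subgroup G} (hM : SidkiMin V)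
    {L : Subgroup G} (hL : Cfsg.IsComponent L)
    (hLC : ∀ x ∈ L, x ∈ centralizer (L : Set G) → x = 1) (K : Subgroup G) [K.Normal]
    (hK1 : K ≠ ⊥) (hKL : K ≤ centralizer (L : Set G)) : False := by
  have htop := sidki_sup_eq_top hM K hK1
  have hLK : L ≤ K := by
    rw [← Helper22.quasisimple_commutator_eq hL.2, Subgroup.commutator_le]
    intro x _ y _
    exact sidki_commutator_mem hM.elem htop x y
  apply Helper22.quasisimple_ne_bot hL.2
  rw [eq_bot_iff]
  intro l hl
  exact Subgroup.mem_bot.mpr (hLC l hl (hKL (hLK hl)))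

/-- In a minimal counterexample `V` normalizes every component. -/
theorem sidki_component_normalized [Finite G] {V : Subgroup G} (hM : SidkiMin V)
    (hF0 : Cfsg.fittingSubgroup G = ⊥) (htop : Cfsg.layer G ⊔ V = ⊤) {L : Subgroup G}
    (hL : Cfsg.IsComponent L) (hLC : ∀ x ∈ L, x ∈ centralizer (L : Set G) → x = 1)
    (hnc : ∀ K : Subgroup G, K.Normal → K ≠ ⊥ → ¬ K ≤ centralizer (L : Set G)) :
    V ≤ normalizer (L : Set G) := by
  have hO := sidki_pCore_eq_bot hM
  have hconj : ∀ g : G, g ∉ normalizer (L : Set G) → ∀ x ∈ L,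
      g * x * g⁻¹ ∈ centralizer (L : Set G) := by
    intro g hg x hx
    have hLg := Helper22.isComponent_conj hL g
    have hne : L.map (MulAut.conj g).toMonoidHom ≠ L := by
      intro h
      apply hg
      rw [mem_normalizer_iff]
      intro y
      constructor
      · intro hy
        rw [← h]
        exact ⟨y, hy, by simp⟩
      · intro hy
        rw [← h] at hy
        obtain ⟨l, hl, hle⟩ := hy
        have h2 : g * l * g⁻¹ = g * y * g⁻¹ := by simpa using hle
        have h3 : l = y := by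
          have h4 := congrArg (fun z => g⁻¹ * z * g) h2
          simpa [mul_assoc] using h4
        rw [← h3]; exact hl
    have hc := Helper22.components_commute hLg hL hne
    exact (commutator_eq_bot_iff_le_centralizer.mp hc) ⟨x, hx, by simp⟩
  by_contra hVL
  by_cases hV₀ : V ⊓ normalizer (L : Set G) = ⊥
  · -- `V` acts freely on the conjugates of `L`: an inverted element with trivial centralizer
    obtain ⟨x₁, hx₁L, hx₁odd, hx₁1⟩ : ∃ x₁ ∈ L, Odd (orderOf x₁) ∧ x₁ ≠ 1 := by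
      have hnp : ¬ IsPGroup 2 ↥L := by
        intro hp
        have hnil : Group.IsNilpotent ↥L := hp.isNilpotent
        have hle := Helper22.le_fittingSubgroup_of_isSubnormal hL.1 hnil
        rw [hF0] at hle
        exact Helper22.quasisimple_ne_bot hL.2 (le_bot_iff.mp hle)
      unfold IsPGroup at hnp
      push Not at hnp
      obtain ⟨g, hg⟩ := hnp
      obtain ⟨k, m, hm, hkm⟩ := Nat.exists_eq_two_pow_mul_odd (n := orderOf g) (orderOf_pos g).ne'
      refine ⟨((g ^ (2 ^ k) : ↥L) : G), (g ^ (2 ^ k)).2, ?_, ?_⟩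
      · rw [Subgroup.orderOf_coe]
        apply Odd.of_dvd_nat hm
        apply orderOf_dvd_of_pow_eq_one
        rw [← pow_mul, ← hkm, pow_orderOf_eq_one]
      · intro h
        exact hg k (Subtype.ext h)
    obtain ⟨v, hvV, hv1⟩ := sidki_exists_ne_one hM.ne
    have hnotN : ∀ g ∈ V, g ≠ 1 → g ∉ normalizer (L : Set G) := by
      intro g hg hg1 hgN
      have h1 : g ∈ V ⊓ normalizer (L : Set G) := ⟨hg, hgN⟩
      rw [hV₀, Subgroup.mem_bot] at h1
      exact hg1 h1
    have hcent : ∀ g ∈ V, g ≠ 1 → g * x₁ * g⁻¹ ∈ centralizer (L : Set G) :=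
      fun g hg hg1 => hconj g (hnotN g hg hg1) x₁ hx₁L
    have hvv : v * v = 1 := sidki_mul_self hM.elem hvV
    obtain ⟨x, hxdef⟩ : ∃ x, x = x₁ * (v * x₁ * v⁻¹)⁻¹ := ⟨_, rfl⟩
    have hcomm : Commute x₁ (v * x₁ * v⁻¹)⁻¹ := by
      have h1 : x₁ * (v * x₁ * v⁻¹) = (v * x₁ * v⁻¹) * x₁ :=
        mem_centralizer_iff.mp (hcent v hvV hv1) x₁ hx₁L
      exact Commute.inv_right h1
    have hxodd : Odd (orderOf x) := by
      rw [hxdef]
      apply Cfsg.Agent.S3013.odd_orderOf_mul hcomm hx₁odd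
      rw [orderOf_inv]
      have h1 : orderOf (v * x₁ * v⁻¹) = orderOf x₁ := by
        have h2 := (MulAut.conj v).orderOf_eq x₁
        simpa using h2
      rw [h1]; exact hx₁odd
    have hxinv : v * x * v⁻¹ = x⁻¹ := by
      have h1 : v * (x₁ * (v * x₁ * v⁻¹)⁻¹) * v⁻¹ =
          (v * x₁ * v⁻¹) * ((v * v) * x₁ * (v * v)⁻¹)⁻¹ := by group
      rw [hxdef, h1, hvv]; group
    obtain ⟨w, hwV, hw1, hwx⟩ := hM.sidki x v hvV hxodd hxinv
    have hwx' : w * x * w⁻¹ = x := by rw [hwx, mul_inv_cancel_right]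
    by_cases hwv : w = v
    · rw [hwv, hxinv] at hwx'
      have hx1 : x = 1 := sidki_eq_one_of_inv hxodd hwx'
      have h1 : x₁ = v * x₁ * v⁻¹ := by
        rw [hxdef] at hx1
        exact mul_inv_eq_one.mp hx1
      have h2 := hcent v hvV hv1
      rw [← h1] at h2
      exact hx₁1 (hLC x₁ hx₁L h2)
    · have hwv1 : w * v ≠ 1 := by
        intro h
        apply hwv
        have h1 : w = v⁻¹ := eq_inv_of_mul_eq_one_left h
        rw [h1, sidki_inv hM.elem hvV]
      have h1 : x₁ = (w * x₁ * w⁻¹) * ((w * v) * x₁ * (w * v)⁻¹)⁻¹ * (v * x₁ * v⁻¹) := by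
        have h2 : w * x * w⁻¹ = (w * x₁ * w⁻¹) * ((w * v) * x₁ * (w * v)⁻¹)⁻¹ := by
          rw [hxdef]; group
        have h3 : x₁ = x * (v * x₁ * v⁻¹) := by rw [hxdef]; group
        rw [← h2, hwx']; exact h3
      have h4 : (w * x₁ * w⁻¹) * ((w * v) * x₁ * (w * v)⁻¹)⁻¹ * (v * x₁ * v⁻¹) ∈
          centralizer (L : Set G) :=
        Subgroup.mul_mem _ (Subgroup.mul_mem _ (hcent w hwV hw1)
          (Subgroup.inv_mem _ (hcent (w * v) (V.mul_mem hwV hvV) hwv1))) (hcent v hvV hv1)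
      rw [← h1] at h4
      exact hx₁1 (hLC x₁ hx₁L h4)
  · -- the proper subgroup `L (V ∩ N(L))`
    have hHle : L ⊔ (V ⊓ normalizer (L : Set G)) ≤ normalizer (L : Set G) :=
      sup_le le_normalizer inf_le_right
    have hHtop : L ⊔ (V ⊓ normalizer (L : Set G)) ≠ ⊤ := by
      intro h
      apply hVL
      intro v _
      exact hHle (by rw [h]; exact mem_top v)
    have hV₀el := sidki_elem_of_le hM.elem (inf_le_left : V ⊓ normalizer (L : Set G) ≤ V)
    obtain ⟨w, hwV₀, hw1, hwcore⟩ := sidki_min_sub hM hHtop hV₀el le_sup_right hV₀ (by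
      intro h u hh hu hodd hinv
      obtain ⟨w, hwV, hw1, hwc⟩ := hM.sidki h u hu.1 hodd hinv
      by_cases hh1 : h = 1
      · obtain ⟨w', hw', hw'1⟩ := sidki_exists_ne_one hV₀
        exact ⟨w', hw', hw'1, by rw [hh1, mul_one, one_mul]⟩
      · have hhL : h ∈ L := by
          apply sidki_mem_of_sq_mem hodd
          obtain ⟨l, hl, a, ha, rfl⟩ := Helper35.exists_mul_of_mem_sup_of_le_normalizer
            (inf_le_right : V ⊓ normalizer (L : Set G) ≤ normalizer (L : Set G)) hh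
          have haV : a ∈ V := ha.1
          have haN : a ∈ normalizer (L : Set G) := ha.2
          have h1 : (l * a) ^ 2 = l * (a * l * a⁻¹) := by
            have h2 : (l * a) ^ 2 = l * (a * l * a⁻¹) * (a * a) := by rw [pow_two]; group
            rw [h2, sidki_mul_self hM.elem haV, mul_one]
          rw [h1]
          exact L.mul_mem hl ((mem_normalizer_iff.mp haN l).mp hl)
        have hwN : w ∈ normalizer (L : Set G) := by
          by_contra hwn
          have h1 := hconj w hwn h hhL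
          have h2 : w * h * w⁻¹ = h := by rw [hwc, mul_inv_cancel_right]
          rw [h2] at h1
          exact hh1 (hLC h hhL h1)
        exact ⟨w, ⟨hwV, hwN⟩, hw1, hwc⟩)
    have hwV : w ∈ V := hwV₀.1
    have hwL : w ∈ centralizer (L : Set G) :=
      sidki_core_centralizes hO hL.1 le_sup_left hHle hwcore
    have hEn : (Cfsg.layer G).Normal := Helper22.layer_normal G
    have hVE : V ≤ normalizer ((Cfsg.layer G : Subgroup G) : Set G) := by
      rw [normalizer_eq_top_iff.mpr hEn]; exact le_top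
    have hle : normalClosure (L : Set G) ≤ centralizer ({w} : Set G) := by
      rw [normalClosure, closure_le]
      intro x hx
      rw [Group.mem_conjugatesOfSet_iff] at hx
      obtain ⟨l, hl, hlx⟩ := hx
      rw [isConj_iff] at hlx
      obtain ⟨g, rfl⟩ := hlx
      obtain ⟨e, he, a, ha, rfl⟩ := Helper35.exists_mul_of_mem_sup_of_le_normalizer hVE
        (show g ∈ Cfsg.layer G ⊔ V by rw [htop]; exact mem_top g)
      have hMa := Helper22.isComponent_conj hL a
      have heN : e ∈ normalizer ((L.map (MulAut.conj a).toMonoidHom : Subgroup G) : Set G) :=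
        sidki_layer_le_normalizer hMa he
      have h1 : e * (a * l * a⁻¹) * e⁻¹ ∈ L.map (MulAut.conj a).toMonoidHom :=
        (mem_normalizer_iff.mp heN _).mp ⟨l, hl, by simp⟩
      obtain ⟨l', hl', hl'e⟩ := h1
      have h2 : e * a * l * (e * a)⁻¹ = a * l' * a⁻¹ := by
        have h3 : e * a * l * (e * a)⁻¹ = e * (a * l * a⁻¹) * e⁻¹ := by group
        rw [h3, ← hl'e]; simp
      rw [SetLike.mem_coe, h2, mem_centralizer_iff]
      intro z hz
      rw [Set.mem_singleton_iff.mp hz]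
      have hwa : w * a = a * w := sidki_comm hM.elem hwV ha
      have hwl : l' * w = w * l' := mem_centralizer_iff.mp hwL l' hl'
      calc w * (a * l' * a⁻¹) = (w * a) * l' * a⁻¹ := by group
        _ = a * (w * l') * a⁻¹ := by rw [hwa]; group
        _ = a * (l' * w) * a⁻¹ := by rw [hwl]
        _ = a * l' * (a⁻¹ * (a * w) * a⁻¹) := by group
        _ = a * l' * (a⁻¹ * (w * a) * a⁻¹) := by rw [hwa]
        _ = a * l' * a⁻¹ * w := by group
    have hwK : w ∈ centralizer ((normalClosure (L : Set G) : Subgroup G) : Set G) := by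
      rw [mem_centralizer_iff]
      intro n hn
      exact (mem_centralizer_iff.mp (hle hn) w rfl).symm
    have hKn : (centralizer ((normalClosure (L : Set G) : Subgroup G) : Set G)).Normal :=
      inferInstance
    apply hnc _ hKn
    · intro h
      rw [h, Subgroup.mem_bot] at hwK
      exact hw1 hwK
    · exact centralizer_le (SetLike.coe_subset_coe.mpr (le_normalClosure))

/-- **Minimal counterexample reduction for Sidki pairs**: `F*(G)` is a nonabelian simple group
and `G = V F*(G)`. -/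
theorem sidki_main [Finite G] {V : Subgroup G} (hM : SidkiMin V) :
    IsSimpleGroup ↥(Cfsg.generalizedFittingSubgroup G) ∧
      ¬ IsMulCommutative ↥(Cfsg.generalizedFittingSubgroup G) ∧
      V ⊔ Cfsg.generalizedFittingSubgroup G = ⊤ := by
  have hF0 := sidki_fitting_eq_bot hM
  have hFsn : (Cfsg.generalizedFittingSubgroup G).Normal :=
    Helper22.generalizedFittingSubgroup_normal G
  have hFs1 : Cfsg.generalizedFittingSubgroup G ≠ ⊥ := by
    intro h
    have h1 := Helper22.centralizer_generalizedFittingSubgroup_le G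
    rw [h] at h1
    apply hM.ne
    rw [eq_bot_iff]
    intro v _
    apply h1
    rw [mem_centralizer_iff]
    intro x hx
    have hx1 : x = 1 := Subgroup.mem_bot.mp hx
    rw [hx1, one_mul, mul_one]
  have htop : Cfsg.generalizedFittingSubgroup G ⊔ V = ⊤ := sidki_sup_eq_top hM _ hFs1
  have hFsE : Cfsg.generalizedFittingSubgroup G = Cfsg.layer G := by
    unfold Cfsg.generalizedFittingSubgroup; rw [hF0, sup_bot_eq]
  obtain ⟨L, hL⟩ : ∃ L : Subgroup G, Cfsg.IsComponent L := by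
    by_contra hno
    push Not at hno
    apply hFs1
    rw [hFsE]
    unfold Cfsg.layer
    rw [eq_bot_iff]
    apply sSup_le
    intro L hL
    exact absurd hL (hno L)
  have hLC := sidki_component_inf_centralizer hF0 hL
  have hnc : ∀ K : Subgroup G, K.Normal → K ≠ ⊥ → ¬ K ≤ centralizer (L : Set G) := by
    intro K hKn hK1 hKL
    exact sidki_no_normal_centralizing hM hL hLC K hK1 hKL
  have htop' : Cfsg.layer G ⊔ V = ⊤ := by rw [← hFsE]; exact htop
  have hVL := sidki_component_normalized hM hF0 htop' hL hLC hnc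
  have hLn : L.Normal := by
    rw [← normalizer_eq_top_iff, eq_top_iff, ← htop']
    exact sup_le (sidki_layer_le_normalizer hL) hVL
  have huniq : ∀ L' : Subgroup G, Cfsg.IsComponent L' → L' = L := by
    intro L' hL'
    by_contra hne
    have hc := Helper22.components_commute hL' hL hne
    have hle : L' ≤ centralizer (L : Set G) := commutator_eq_bot_iff_le_centralizer.mp hc
    have hKn : (centralizer (L : Set G)).Normal := inferInstance
    apply hnc (centralizer (L : Set G)) hKn _ le_rfl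
    intro h
    rw [h] at hle
    exact Helper22.quasisimple_ne_bot hL'.2 (le_bot_iff.mp hle)
  obtain ⟨h1, h2⟩ := fstar_simple_of_unique_component hF0 hL huniq
  exact ⟨h1, h2, by rw [sup_comm]; exact htop⟩

end Sidki

end Cfsg.Agent.Helper34
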