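import Mathlib
import Cfsg.Agent.Helper52.O7920Defs
import Cfsg.Agent.Helper52.O7920Defs2

/-!
# CALL S0434 (helper52), piece A2a

In case A (`|C(R)| = 9`), a four-group `V ≤ C(D)` normalised by `N(D)` and moved by `R` extends,
by the inverting element `j`, to a nonabelian group `B = V ∪ jV` of order 8.
-/

set_option autoImplicit false

namespace Cfsg.Agent.Helper34

open Cfsg.Agent.Helper52

variable {G : Type*} [Group G] [Finite G]

/-- An involution `j ∉ V` normalising `V` gives the subgroup `V ∪ jV` of order `2|V|`. -/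
theorem t7920A2a_ext (V : Subgroup G) (j : G) (hj2 : j * j = 1)
    (hjV : ∀ v ∈ V, j * v * j⁻¹ ∈ V) (hj : j ∉ V) :
    ∃ B : Subgroup G, Nat.card ↥B = 2 * Nat.card ↥V ∧ V ≤ B ∧ j ∈ B := by
  have hjinv : j⁻¹ = j := inv_eq_of_mul_eq_one_left hj2
  let B : Subgroup G :=
    { carrier := (V : Set G) ∪ (fun g => j * g) '' (V : Set G)
      mul_mem' := by
        rintro a b (ha | ⟨u, hu, rfl⟩) (hb | ⟨v, hv, rfl⟩)
        · exact Or.inl (V.mul_mem ha hb)
        · refine Or.inr ⟨j * a * j⁻¹ * v, V.mul_mem (hjV a ha) hv, ?_⟩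
          show j * (j * a * j⁻¹ * v) = a * (j * v)
          rw [hjinv]
          simp only [← mul_assoc, hj2, one_mul]
        · exact Or.inr ⟨u * b, V.mul_mem hu hb, by simp [mul_assoc]⟩
        · refine Or.inl ?_
          have h := V.mul_mem (hjV u hu) hv
          rw [hjinv] at h
          show j * u * (j * v) ∈ V
          simpa [mul_assoc] using h
      one_mem' := Or.inl V.one_mem
      inv_mem' := by
        rintro a (ha | ⟨v, hv, rfl⟩)
        · exact Or.inl (V.inv_mem ha)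
        · refine Or.inr ⟨j * v⁻¹ * j⁻¹, hjV _ (V.inv_mem hv), ?_⟩
          show j * (j * v⁻¹ * j⁻¹) = (j * v)⁻¹
          simp only [mul_inv_rev, ← mul_assoc, hj2, one_mul] }
  refine ⟨B, ?_, fun v hv => Or.inl hv, Or.inr ⟨1, V.one_mem, mul_one j⟩⟩
  have h1 : Nat.card ↥B = ((V : Set G) ∪ (fun g => j * g) '' (V : Set G)).ncard :=
    (Nat.card_coe_set_eq ((V : Set G) ∪ (fun g => j * g) '' (V : Set G)))
  have hdisj : Disjoint (V : Set G) ((fun g => j * g) '' (V : Set G)) := by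
    rw [Set.disjoint_left]
    rintro x hx ⟨v, hv, hxv⟩
    apply hj
    have : j = x * v⁻¹ := by rw [← hxv]; group
    rw [this]
    exact V.mul_mem hx (V.inv_mem hv)
  rw [h1, Set.ncard_union_eq hdisj (Set.toFinite _) (Set.toFinite _),
    Set.ncard_image_of_injective _ (mul_right_injective j), ← Nat.card_coe_set_eq]
  show Nat.card ↥V + Nat.card ↥V = 2 * Nat.card ↥V
  omega

-- PIECE A2a
theorem o7920_A_B {R : Sylow 3 G} {D : Subgroup G} {j : G} (c : O7920Conf2 G R D j)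
    (hCR : Nat.card ↥(Subgroup.centralizer ((R : Subgroup G) : Set G)) = 9)
    (V : Subgroup G) (hV : V ≤ Subgroup.centralizer (D : Set G)) (hV4 : Nat.card ↥V = 4)
    (hVn : ∀ g ∈ Subgroup.normalizer (D : Set G), ∀ v ∈ V, g * v * g⁻¹ ∈ V)
    (hVR : ∀ v ∈ V, v ≠ 1 → ∃ r ∈ (R : Subgroup G), r * v * r⁻¹ ≠ v) :
    ∃ B : Subgroup G, Nat.card ↥B = 8 ∧ V ≤ B ∧ ∃ a ∈ B, ∃ b ∈ B, a * b ≠ b * a := by
  have hjinv := c.conf.hjinv
  have hDR := c.conf.hDR
  -- `j` "commutation" rules on `R`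
  have hjr : ∀ r ∈ (R : Subgroup G), j * r = r⁻¹ * j := by
    intro r hr
    rw [← hjinv r hr]; group
  -- `j * j` centralises `R`
  have hjj_cent : j * j ∈ Subgroup.centralizer ((R : Subgroup G) : Set G) := by
    rw [Subgroup.mem_centralizer_iff]
    intro r hr
    have h1 := hjr r hr
    have h2 := hjr r⁻¹ (inv_mem hr)
    rw [inv_inv] at h2
    calc r * (j * j) = (r * j) * j := by rw [mul_assoc]
      _ = (j * r⁻¹) * j := by rw [h2]
      _ = j * (r⁻¹ * j) := by rw [mul_assoc]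
      _ = j * (j * r) := by rw [h1]
      _ = j * j * r := by rw [mul_assoc]
  have hj2 : j * j = 1 := by
    have h9 : (j * j) ^ 9 = 1 :=
      orderOf_dvd_iff_pow_eq_one.mp (hCR ▸ Subgroup.orderOf_dvd_natCard _ hjj_cent)
    have h2 : (j * j) ^ 2 = 1 := by
      rw [← pow_two, ← pow_mul]; exact c.conf.hj4
    have hd : orderOf (j * j) ∣ Nat.gcd 9 2 :=
      Nat.dvd_gcd (orderOf_dvd_of_pow_eq_one h9) (orderOf_dvd_of_pow_eq_one h2)
    have hg : Nat.gcd 9 2 = 1 := by norm_num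
    rw [hg] at hd
    exact orderOf_eq_one_iff.mp (Nat.dvd_one.mp hd)
  have hjinv' : j⁻¹ = j := inv_eq_of_mul_eq_one_left hj2
  -- a nontrivial element of `D`
  obtain ⟨d, hdD, hd1⟩ : ∃ d ∈ D, d ≠ 1 := by
    by_contra hcon
    push Not at hcon
    have hbot : D = ⊥ := (Subgroup.eq_bot_iff_forall D).mpr hcon
    have h3 := c.conf.hD
    rw [hbot, Subgroup.card_bot] at h3
    omega
  have hd3 : d ^ 3 = 1 :=
    orderOf_dvd_iff_pow_eq_one.mp (c.conf.hD ▸ Subgroup.orderOf_dvd_natCard _ hdD)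
  have hdinv : d ≠ d⁻¹ := by
    intro h
    apply hd1
    have h2 : d * d = 1 := by
      nth_rewrite 2 [h]; exact mul_inv_cancel d
    calc d = d ^ 3 * (d * d)⁻¹ := by group
      _ = 1 := by rw [hd3, h2]; simp
  -- `j ∈ N(D)`, `j ∉ C(D)`
  have hjND : j ∈ Subgroup.normalizer (D : Set G) := by
    rw [Subgroup.mem_normalizer_iff]
    intro h
    constructor
    · intro hh
      rw [hjinv h (hDR hh)]; exact inv_mem hh
    · intro hh
      have h1 := hjinv _ (hDR hh)
      have e : j * (j * h * j⁻¹) * j⁻¹ = h := by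
        calc j * (j * h * j⁻¹) * j⁻¹ = (j * j) * h * (j * j)⁻¹ := by group
          _ = h := by rw [hj2]; simp
      rw [e] at h1
      rw [h1]; exact inv_mem hh
  have hjCD : j ∉ Subgroup.centralizer (D : Set G) := by
    intro hjc
    have h1 := (Subgroup.mem_centralizer_iff.mp hjc) d hdD
    have h2 := hjinv d (hDR hdD)
    apply hdinv
    rw [← h2, ← h1]; group
  have hjV : j ∉ V := fun h => hjCD (hV h)
  obtain ⟨B, hBcard, hVB, hjB⟩ := t7920A2a_ext V j hj2 (hVn j hjND) hjV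
  refine ⟨B, by rw [hBcard, hV4], hVB, ?_⟩
  by_contra hcomm
  push Not at hcomm
  -- a nontrivial element of `V`
  obtain ⟨v, hvV, hv1⟩ : ∃ v ∈ V, v ≠ 1 := by
    by_contra hcon
    push Not at hcon
    have hbot : V = ⊥ := (Subgroup.eq_bot_iff_forall V).mpr hcon
    rw [hbot, Subgroup.card_bot] at hV4
    omega
  obtain ⟨r, hrR, hrv⟩ := hVR v hvV hv1
  have hrCD : r ∈ Subgroup.centralizer (D : Set G) := by
    rw [Subgroup.mem_centralizer_iff]
    intro x hx
    exact (c.syl3 R).2 x (hDR hx) r hrR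
  have hrND : r ∈ Subgroup.normalizer (D : Set G) := Subgroup.centralizer_le_normalizer _ hrCD
  have hv'V : r * v * r⁻¹ ∈ V := hVn r hrND v hvV
  have c1 : j * v = v * j := hcomm j hjB v (hVB hvV)
  have c2 : j * (r * v * r⁻¹) = (r * v * r⁻¹) * j := hcomm j hjB _ (hVB hv'V)
  have hr1 := hjr r hrR
  have hr2 := hjr r⁻¹ (inv_mem hrR)
  rw [inv_inv] at hr2
  -- `j * (r v r⁻¹) = r⁻¹ v r j`
  have c3 : j * (r * v * r⁻¹) = r⁻¹ * v * r * j := by
    calc j * (r * v * r⁻¹) = (j * r) * v * r⁻¹ := by group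
      _ = r⁻¹ * (j * v) * r⁻¹ := by rw [hr1]; group
      _ = r⁻¹ * v * (j * r⁻¹) := by rw [c1]; group
      _ = r⁻¹ * v * r * j := by rw [hr2]; group
  have c4 : r * v * r⁻¹ = r⁻¹ * v * r := by
    have := c2.symm.trans c3
    exact mul_right_cancel this
  -- `r * r` commutes with `v`
  have c5 : (r * r) * v = v * (r * r) := by
    calc (r * r) * v = r * (r * v * r⁻¹) * r := by group
      _ = r * (r⁻¹ * v * r) * r := by rw [c4]
      _ = v * (r * r) := by group
  have hr9 : r ^ 9 = 1 :=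
    orderOf_dvd_iff_pow_eq_one.mp ((c.syl3 R).1 ▸ Subgroup.orderOf_dvd_natCard _ hrR)
  have c6 : Commute (r * r) v := c5
  have c7 : Commute ((r * r) ^ 5) v := c6.pow_left 5
  have hr10 : (r * r) ^ 5 = r := by
    calc (r * r) ^ 5 = r ^ 9 * r := by rw [← pow_two, ← pow_mul, pow_succ r 9]
      _ = r := by rw [hr9, one_mul]
  rw [hr10] at c7
  apply hrv
  have : r * v = v * r := c7
  rw [this]; group

end Cfsg.Agent.Helper34
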