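/-
Helper library of seat helper34: finite groups with a non-abelian two-generated Sylow
`p`-subgroup `P`, `O_{p'}(G) = 1` and no nontrivial normal subgroup of `G` inside `Φ(P)`:
`F*(G)` is the unique minimal normal subgroup.
-/
import Mathlib
import Cfsg.Agent.Helper34.Isolated
import Cfsg.Agent.Helper34.FStarComm2
import Cfsg.Agent.Helper2.TateNormal
import Cfsg.Agent.Helper2.PGroup
import Cfsg.Agent.Helper2.Transfer
import Cfsg.Agent.Helper70.Gaschutz2

set_option autoImplicit false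

namespace Cfsg.Agent.Helper34

open Cfsg Subgroup
open scoped commutatorElement

section TwoGenP

variable {Q : Type*} [Group Q]

/-- If `Φ(Q)` has index `p ^ 2` and the normal subgroup `A` is not inside `Φ(Q)`, then `Q / A`
is cyclic: `Q = ⟨s⟩ A` for some `s`. -/
theorem tg_exists_gen [Finite Q] {p : ℕ} [Fact p.Prime] (hidx : (frattini Q).index = p ^ 2)
    (A : Subgroup Q) [hA : A.Normal] (hAF : ¬ A ≤ frattini Q) : ∃ s : Q, zpowers s ⊔ A = ⊤ := by
  have hpp : p.Prime := Fact.out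
  have hFn : (frattini Q).Normal := inferInstance
  have hMn : (A ⊔ frattini Q).Normal := inferInstance
  have hle : frattini Q ≤ A ⊔ frattini Q := le_sup_right
  have hmul : (frattini Q).relIndex (A ⊔ frattini Q) * (A ⊔ frattini Q).index = p ^ 2 := by
    rw [Subgroup.relIndex_mul_index hle, hidx]
  have hrel : (frattini Q).relIndex (A ⊔ frattini Q) ≠ 1 := by
    intro h
    rw [Subgroup.relIndex_eq_one] at h
    exact hAF (le_sup_left.trans h)
  have hdvd : (A ⊔ frattini Q).index ∣ p := by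
    have h1 : (A ⊔ frattini Q).index ∣ p ^ 2 := Dvd.intro_left _ hmul
    obtain ⟨k, hk, hk'⟩ := (Nat.dvd_prime_pow hpp).mp h1
    interval_cases k
    · rw [hk']; simp
    · rw [hk']; simp
    · exfalso
      rw [hk'] at hmul
      have hp2 : 0 < p ^ 2 := pow_pos hpp.pos 2
      have : (frattini Q).relIndex (A ⊔ frattini Q) = 1 := by
        have := Nat.eq_of_mul_eq_mul_right hp2 (by rw [hmul, one_mul] : (frattini Q).relIndex (A ⊔ frattini Q) * p ^ 2 = 1 * p ^ 2)
        exact this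
      exact hrel this
  have hcyc : IsCyclic (Q ⧸ (A ⊔ frattini Q)) := by
    apply isCyclic_of_card_dvd_prime (p := p)
    rw [← Subgroup.index_eq_card]; exact hdvd
  obtain ⟨g, hg⟩ := IsCyclic.exists_generator (α := Q ⧸ (A ⊔ frattini Q))
  obtain ⟨s, rfl⟩ := QuotientGroup.mk'_surjective (A ⊔ frattini Q) g
  refine ⟨s, ?_⟩
  apply frattini_nongenerating
  rw [eq_top_iff]
  intro x _
  obtain ⟨k, hk⟩ := mem_zpowers_iff.mp (hg (QuotientGroup.mk' (A ⊔ frattini Q) x))
  have h1 : (QuotientGroup.mk' (A ⊔ frattini Q)) ((s ^ k)⁻¹ * x) = 1 := by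
    rw [map_mul, map_inv, map_zpow, hk, inv_mul_cancel]
  have h2 : (s ^ k)⁻¹ * x ∈ A ⊔ frattini Q := by
    rwa [← QuotientGroup.ker_mk' (A ⊔ frattini Q), MonoidHom.mem_ker]
  have h3 : x = s ^ k * ((s ^ k)⁻¹ * x) := by group
  rw [h3, sup_assoc]
  exact Subgroup.mul_mem _ (mem_sup_left (zpow_mem (mem_zpowers s) k)) (mem_sup_right h2)

/-- Two normal subgroups with cyclic quotients and trivial intersection force commutativity. -/
theorem tg_comm_of_two {A₁ A₂ : Subgroup Q} [h₁ : A₁.Normal] [h₂ : A₂.Normal]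
    (hinf : A₁ ⊓ A₂ = ⊥) {s₁ s₂ : Q} (hs₁ : zpowers s₁ ⊔ A₁ = ⊤) (hs₂ : zpowers s₂ ⊔ A₂ = ⊤)
    (x y : Q) : x * y = y * x := by
  have key : ∀ (A : Subgroup Q) [A.Normal] (s : Q), zpowers s ⊔ A = ⊤ → ⁅x, y⁆ ∈ A := by
    intro A hA s hs
    have hA0 : A.map (QuotientGroup.mk' A) = ⊥ := by
      rw [Subgroup.map_eq_bot_iff, QuotientGroup.ker_mk']
    have hmap : ∀ u : Q, QuotientGroup.mk' A u ∈ zpowers (QuotientGroup.mk' A s) := by
      intro u
      have hu : u ∈ zpowers s ⊔ A := by rw [hs]; exact mem_top u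
      have h1 : QuotientGroup.mk' A u ∈ (zpowers s ⊔ A).map (QuotientGroup.mk' A) :=
        mem_map_of_mem _ hu
      rwa [Subgroup.map_sup, MonoidHom.map_zpowers, hA0, sup_bot_eq] at h1
    obtain ⟨i, hi⟩ := mem_zpowers_iff.mp (hmap x)
    obtain ⟨j, hj⟩ := mem_zpowers_iff.mp (hmap y)
    have h1 : QuotientGroup.mk' A ⁅x, y⁆ = 1 := by
      rw [map_commutatorElement, ← hi, ← hj, commutatorElement_eq_one_iff_mul_comm, ← zpow_add,
        ← zpow_add, add_comm]
    rwa [← QuotientGroup.ker_mk' A, MonoidHom.mem_ker]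
  have h1 := key A₁ s₁ hs₁
  have h2 := key A₂ s₂ hs₂
  have h3 : ⁅x, y⁆ ∈ A₁ ⊓ A₂ := ⟨h1, h2⟩
  rw [hinf, mem_bot] at h3
  exact commutatorElement_eq_one_iff_mul_comm.mp h3

end TwoGenP

section TwoGen

variable {G : Type*} [Group G]

/-- A subgroup `A ≤ P` not inside `Φ(P)` (computed in `G`) is not inside `Φ(P)` computed in
`P`. -/
theorem tg_subgroupOf_not_le {P A : Subgroup G} (hAP : A ≤ P)
    (hAF : ¬ A ≤ (frattini ↥P).map P.subtype) : ¬ A.subgroupOf P ≤ frattini ↥P := by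
  intro h
  apply hAF
  intro a ha
  exact ⟨⟨a, hAP ha⟩, h (mem_subgroupOf.mpr ha), rfl⟩

/-- `A ≤ P` normalized by `P`, not inside `Φ(P)`, `|P : Φ(P)| = p ^ 2`: `P = ⟨s⟩ A`. -/
theorem tg_exists_gen_sub [Finite G] {p : ℕ} [Fact p.Prime] {P : Subgroup G}
    (hgen : (frattini ↥P).index = p ^ 2) {A : Subgroup G} (hAP : A ≤ P)
    (hPA : P ≤ normalizer (A : Set G)) (hAF : ¬ A ≤ (frattini ↥P).map P.subtype) :
    ∃ s ∈ P, P = zpowers s ⊔ A := by
  have hAn : (A.subgroupOf P).Normal := (normal_subgroupOf_iff_le_normalizer hAP).mpr hPA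
  obtain ⟨s, hs⟩ := tg_exists_gen hgen (A.subgroupOf P) (tg_subgroupOf_not_le hAP hAF)
  refine ⟨(s : G), s.2, ?_⟩
  apply le_antisymm
  · intro x hx
    have h1 : (⟨x, hx⟩ : ↥P) ∈ zpowers s ⊔ A.subgroupOf P := by rw [hs]; exact mem_top _
    have h2 : x ∈ (zpowers s ⊔ A.subgroupOf P).map P.subtype := ⟨⟨x, hx⟩, h1, rfl⟩
    rw [Subgroup.map_sup, MonoidHom.map_zpowers] at h2
    have h3 : (A.subgroupOf P).map P.subtype ≤ A := by
      rintro _ ⟨y, hy, rfl⟩; exact mem_subgroupOf.mp hy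
    exact (sup_le_sup_left h3 _) h2
  · exact sup_le (zpowers_le.mpr s.2) hAP

/-- Two `P`-invariant subgroups of `P` meeting trivially cannot both avoid `Φ(P)` when `P` is
non-abelian with `|P : Φ(P)| = p ^ 2`. -/
theorem tg_not_both [Finite G] {p : ℕ} [Fact p.Prime] {P : Subgroup G}
    (hna : ¬ IsMulCommutative ↥P) (hgen : (frattini ↥P).index = p ^ 2) {A₁ A₂ : Subgroup G}
    (h₁P : A₁ ≤ P) (h₂P : A₂ ≤ P) (hP₁ : P ≤ normalizer (A₁ : Set G))
    (hP₂ : P ≤ normalizer (A₂ : Set G)) (hinf : A₁ ⊓ A₂ = ⊥)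
    (h₁ : ¬ A₁ ≤ (frattini ↥P).map P.subtype) : A₂ ≤ (frattini ↥P).map P.subtype := by
  by_contra h₂
  apply hna
  have hn₁ : (A₁.subgroupOf P).Normal := (normal_subgroupOf_iff_le_normalizer h₁P).mpr hP₁
  have hn₂ : (A₂.subgroupOf P).Normal := (normal_subgroupOf_iff_le_normalizer h₂P).mpr hP₂
  obtain ⟨s₁, hs₁⟩ := tg_exists_gen hgen (A₁.subgroupOf P) (tg_subgroupOf_not_le h₁P h₁)
  obtain ⟨s₂, hs₂⟩ := tg_exists_gen hgen (A₂.subgroupOf P) (tg_subgroupOf_not_le h₂P h₂)
  have hinf' : A₁.subgroupOf P ⊓ A₂.subgroupOf P = ⊥ := by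
    rw [eq_bot_iff]
    intro x hx
    have h3 : (x : G) ∈ A₁ ⊓ A₂ := ⟨mem_subgroupOf.mp hx.1, mem_subgroupOf.mp hx.2⟩
    rw [hinf, mem_bot] at h3
    exact mem_bot.mpr (Subtype.ext h3)
  exact ⟨⟨fun x y => tg_comm_of_two hinf' hs₁ hs₂ x y⟩⟩

variable [Finite G] {p : ℕ} [Fact p.Prime] (P : Sylow p G)

/-- Tate: a nontrivial normal subgroup of `G` does not meet `P` inside `Φ(P)`. -/
theorem tg_not_le_frattini (hcore : pPrimeCore p G = ⊥)
    (hfrat : ((frattini ↥(P : Subgroup G)).map (P : Subgroup G).subtype).normalCore = ⊥)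
    {K : Subgroup G} (hKn : K.Normal) (hK : K ≠ ⊥) :
    ¬ K ⊓ (P : Subgroup G) ≤ (frattini ↥(P : Subgroup G)).map (P : Subgroup G).subtype := by
  intro h
  have hnpc := Helper2.hasNormalPComplement_of_normal_inf_sylow_le_frattini P K h
  have hKp : IsPGroup p ↥K := iso_isPGroup_of_hasNormalPComplement hcore hKn.isSubnormal hnpc
  have hKP : K ≤ (P : Subgroup G) := IsPGroup.le_sylow_of_normal hKp P
  have hKΦ : K ≤ (frattini ↥(P : Subgroup G)).map (P : Subgroup G).subtype :=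
    (le_inf le_rfl hKP).trans h
  have h2 := Subgroup.normal_le_normalCore.mpr hKΦ
  rw [hfrat] at h2
  exact hK (le_bot_iff.mp h2)

/-- Any two nontrivial normal subgroups of `G` meet nontrivially. -/
theorem tg_inf_ne_bot (hna : ¬ IsMulCommutative ↥(P : Subgroup G))
    (hgen : (frattini ↥(P : Subgroup G)).index = p ^ 2) (hcore : pPrimeCore p G = ⊥)
    (hfrat : ((frattini ↥(P : Subgroup G)).map (P : Subgroup G).subtype).normalCore = ⊥)
    {K₁ K₂ : Subgroup G} (hn₁ : K₁.Normal) (hn₂ : K₂.Normal) (h₁ : K₁ ≠ ⊥) (h₂ : K₂ ≠ ⊥) :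
    K₁ ⊓ K₂ ≠ ⊥ := by
  intro hinf
  have hP : ∀ K : Subgroup G, K.Normal →
      (P : Subgroup G) ≤ normalizer ((K ⊓ (P : Subgroup G) : Subgroup G) : Set G) := by
    intro K hK
    exact le_normalizer_inf (by rw [normalizer_eq_top_iff.mpr hK]; exact le_top) le_normalizer
  have h := tg_not_both hna hgen (A₁ := K₁ ⊓ P) (A₂ := K₂ ⊓ P) inf_le_right inf_le_right
    (hP K₁ hn₁) (hP K₂ hn₂)
    (by rw [eq_bot_iff, ← hinf]; exact inf_le_inf inf_le_left inf_le_left)
    (tg_not_le_frattini P hcore hfrat hn₁ h₁)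
  exact tg_not_le_frattini P hcore hfrat hn₂ h₂ h

omit [Finite G] [Fact p.Prime] in
/-- In a cyclic group, two nontrivial elements of order dividing the prime `p` generate the
same subgroup. -/
theorem tg_mem_zpowers_of_pow_eq_one [hp : Fact p.Prime] {s y z : G} (hy : y ∈ zpowers s)
    (hz : z ∈ zpowers s) (hyp : y ^ p = 1) (hzp : z ^ p = 1) (hy1 : y ≠ 1) : z ∈ zpowers y := by
  have hpp : p.Prime := Fact.out
  -- the subgroup of elements of `⟨s⟩` killed by `p`
  let T : Subgroup ↥(zpowers s) :=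
    { carrier := {x | x ^ p = 1}
      one_mem' := one_pow p
      mul_mem' := by
        intro a b ha hb
        have hc : Commute a b := by
          have := (zpowers_isMulCommutative s)
          exact mul_comm' a b
        show (a * b) ^ p = 1
        rw [hc.mul_pow, ha, hb, one_mul]
      inv_mem' := by
        intro a ha
        show a⁻¹ ^ p = 1
        rw [inv_pow, ha, inv_one] }
  have hTc : IsCyclic ↥T := inferInstance
  obtain ⟨g, hg⟩ := IsCyclic.exists_generator (α := ↥T)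
  have hgp : g ^ p = 1 := Subtype.ext g.2
  have hcard : Nat.card ↥T ∣ p := by
    rw [← orderOf_eq_card_of_forall_mem_zpowers hg]
    exact orderOf_dvd_of_pow_eq_one hgp
  let y' : ↥T := ⟨⟨y, hy⟩, Subtype.ext hyp⟩
  let z' : ↥T := ⟨⟨z, hz⟩, Subtype.ext hzp⟩
  have hy'1 : y' ≠ 1 := fun h => hy1 (congrArg (fun t : ↥T => ((t : ↥(zpowers s)) : G)) h)
  have hcard' : Nat.card ↥T = p := by
    rcases (Nat.dvd_prime hpp).mp hcard with h | h
    · exfalso
      have : Subsingleton ↥T := (Nat.card_eq_one_iff_unique.mp h).1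
      exact hy'1 (Subsingleton.elim _ _)
    · exact h
  have hmem : z' ∈ zpowers y' := mem_zpowers_of_prime_card hcard' hy'1
  obtain ⟨k, hk⟩ := mem_zpowers_iff.mp hmem
  exact mem_zpowers_iff.mpr ⟨k, by
    have := congrArg (fun t : ↥T => ((t : ↥(zpowers s)) : G)) hk
    simpa [y', z'] using this⟩

/-- `O_p(G)` is elementary abelian. -/
theorem tg_pCore_elem_abelian
    (hfrat : ((frattini ↥(P : Subgroup G)).map (P : Subgroup G).subtype).normalCore = ⊥) :
    (∀ r ∈ pCore p G, r ^ p = 1) ∧ ∀ r₁ ∈ pCore p G, ∀ r₂ ∈ pCore p G, r₁ * r₂ = r₂ * r₁ := by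
  have hRn : (pCore p G).Normal := Cfsg.pCore_normal p G
  have hRP : pCore p G ≤ P := Helper10.pCore_le_sylow P
  set S : Set G := {g | (∃ r ∈ pCore p G, g = r ^ p) ∨
    (∃ r₁ ∈ pCore p G, ∃ r₂ ∈ pCore p G, g = ⁅r₁, r₂⁆)} with hS
  have hTn : (closure S).Normal := by
    apply Helper70.closure_normal_of_conj
    intro g x hx
    rcases hx with ⟨r, hr, rfl⟩ | ⟨r₁, hr₁, r₂, hr₂, rfl⟩
    · exact Or.inl ⟨g * r * g⁻¹, hRn.conj_mem r hr g, by rw [conj_pow]⟩
    · refine Or.inr ⟨g * r₁ * g⁻¹, hRn.conj_mem r₁ hr₁ g, g * r₂ * g⁻¹, hRn.conj_mem r₂ hr₂ g, ?_⟩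
      simp only [commutatorElement_def]; group
  have hTle : closure S ≤ (frattini ↥(P : Subgroup G)).map (P : Subgroup G).subtype := by
    rw [closure_le]
    intro x hx
    rcases hx with ⟨r, hr, rfl⟩ | ⟨r₁, hr₁, r₂, hr₂, rfl⟩
    · exact ⟨(⟨r, hRP hr⟩ : ↥(P : Subgroup G)) ^ p,
        Helper2.pow_mem_frattini_of_isPGroup P.isPGroup' _, rfl⟩
    · refine ⟨⁅(⟨r₁, hRP hr₁⟩ : ↥(P : Subgroup G)), ⟨r₂, hRP hr₂⟩⁆,
        Helper2.commutator_le_frattini_of_isPGroup P.isPGroup' ?_, rfl⟩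
      rw [commutator_def]
      exact Subgroup.commutator_mem_commutator (mem_top _) (mem_top _)
  have hT : closure S = ⊥ := by
    have h2 := Subgroup.normal_le_normalCore.mpr hTle
    rw [hfrat] at h2
    exact le_bot_iff.mp h2
  have hall : ∀ x ∈ S, x = 1 := by
    intro x hx
    have := Subgroup.subset_closure hx
    rw [hT] at this
    exact mem_bot.mp this
  refine ⟨fun r hr => hall _ (Or.inl ⟨r, hr, rfl⟩), fun r₁ hr₁ r₂ hr₂ => ?_⟩
  exact commutatorElement_eq_one_iff_mul_comm.mp (hall _ (Or.inr ⟨r₁, hr₁, r₂, hr₂, rfl⟩))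

/-- `O_p(G)` lies in every nontrivial normal subgroup of `G`. -/
theorem tg_pCore_le (hna : ¬ IsMulCommutative ↥(P : Subgroup G))
    (hgen : (frattini ↥(P : Subgroup G)).index = p ^ 2) (hcore : pPrimeCore p G = ⊥)
    (hfrat : ((frattini ↥(P : Subgroup G)).map (P : Subgroup G).subtype).normalCore = ⊥)
    {K : Subgroup G} (hKn : K.Normal) (hK : K ≠ ⊥) : pCore p G ≤ K := by
  have hpp : p.Prime := Fact.out
  have hRn : (pCore p G).Normal := Cfsg.pCore_normal p G
  have hRP : pCore p G ≤ P := Helper10.pCore_le_sylow P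
  obtain ⟨hexp, hab⟩ := tg_pCore_elem_abelian P hfrat
  by_contra hRK
  have hR1 : pCore p G ≠ ⊥ := by
    intro h; apply hRK; rw [h]; exact bot_le
  have hNn : (K ⊓ pCore p G).Normal := inferInstance
  have hN1 : K ⊓ pCore p G ≠ ⊥ := tg_inf_ne_bot P hna hgen hcore hfrat hKn hRn hK hR1
  have hNP : K ⊓ pCore p G ≤ (P : Subgroup G) := inf_le_right.trans hRP
  have hNΦ : ¬ K ⊓ pCore p G ≤ (frattini ↥(P : Subgroup G)).map (P : Subgroup G).subtype := by
    intro h
    exact tg_not_le_frattini P hcore hfrat hNn hN1 (inf_le_left.trans h)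
  have hXN : ∀ X : Subgroup G, X ≤ normalizer ((K ⊓ pCore p G : Subgroup G) : Set G) := by
    intro X; rw [normalizer_eq_top_iff.mpr hNn]; exact le_top
  obtain ⟨s, hsP, hs⟩ := tg_exists_gen_sub hgen hNP (hXN _) hNΦ
  obtain ⟨r, hrR, hrK⟩ : ∃ r ∈ pCore p G, r ∉ K := by
    by_contra h; push Not at h; exact hRK h
  have hrN : r ∉ K ⊓ pCore p G := fun h => hrK h.1
  have hrP : r ∈ (K ⊓ pCore p G) ⊔ zpowers s := by rw [sup_comm, ← hs]; exact hRP hrR
  obtain ⟨n, hn, z, hz, hrnz⟩ := Helper35.exists_mul_of_mem_sup_of_le_normalizer (hXN _) hrP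
  have hnR : n ∈ pCore p G := hn.2
  have hzR : z ∈ pCore p G := by
    have h1 : z = n⁻¹ * r := by rw [hrnz]; group
    rw [h1]; exact mul_mem (inv_mem hnR) hrR
  have hzN : z ∉ K ⊓ pCore p G := by
    intro h; apply hrN; rw [hrnz]; exact mul_mem hn h
  have hsN : zpowers s ⊓ (K ⊓ pCore p G) = ⊥ := by
    rw [eq_bot_iff]
    intro y hy
    rw [mem_bot]
    by_contra hy1
    have hyN : y ∈ K ⊓ pCore p G := hy.2
    have hyR : y ∈ pCore p G := hyN.2
    have h1 : z ∈ zpowers y :=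
      tg_mem_zpowers_of_pow_eq_one hy.1 hz (hexp y hyR) (hexp z hzR) hy1
    exact hzN ((zpowers_le.mpr hyN) h1)
  have hNab : ∀ x ∈ K ⊓ pCore p G, ∀ y ∈ K ⊓ pCore p G, x * y = y * x :=
    fun x hx y hy => hab x hx.2 y hy.2
  have hcop : (Nat.card ↥(K ⊓ pCore p G : Subgroup G)).Coprime
      (zpowers s ⊔ (K ⊓ pCore p G)).index := by
    rw [← hs]
    obtain ⟨k, hk⟩ := IsPGroup.iff_card.mp (P.isPGroup'.to_le hNP)
    rw [hk]
    exact Nat.Coprime.pow_left k ((Nat.Prime.coprime_iff_not_dvd hpp).mpr P.not_dvd_index)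
  obtain ⟨C, hC⟩ := Helper70.exists_complement_of_coprime_index (K ⊓ pCore p G) hNab (zpowers s)
    hsN hcop
  have hCN : C ⊔ (K ⊓ pCore p G) = ⊤ := hC.sup_eq_top
  have hN'n : (pCore p G ⊓ C).Normal := by
    rw [← normalizer_eq_top_iff, eq_top_iff, ← hCN]
    apply sup_le
    · exact le_normalizer_inf (by rw [normalizer_eq_top_iff.mpr hRn]; exact le_top) le_normalizer
    · have h1 : K ⊓ pCore p G ≤ centralizer ((pCore p G ⊓ C : Subgroup G) : Set G) := by
        intro n hn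
        rw [mem_centralizer_iff]
        intro x hx
        exact hab x hx.1 n hn.2
      exact h1.trans (Subgroup.centralizer_le_normalizer _)
  have hN'1 : pCore p G ⊓ C ≠ ⊥ := by
    intro h
    have hr2 : r ∈ (K ⊓ pCore p G) ⊔ C := by rw [sup_comm, hCN]; exact mem_top r
    obtain ⟨n', hn', c, hc, hrnc⟩ :=
      Helper35.exists_mul_of_mem_sup_of_le_normalizer (hXN _) hr2
    have hn'R : n' ∈ pCore p G := hn'.2
    have hcR0 : c ∈ pCore p G := by
      have h1 : c = n'⁻¹ * r := by rw [hrnc]; group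
      rw [h1]; exact mul_mem (inv_mem hn'R) hrR
    have hcR : c ∈ pCore p G ⊓ C := ⟨hcR0, hc⟩
    rw [h, mem_bot] at hcR
    apply hrN
    rw [hrnc, hcR, mul_one]; exact hn'
  have hdisj : (pCore p G ⊓ C) ⊓ (K ⊓ pCore p G) = ⊥ := by
    rw [eq_bot_iff]
    have h1 := disjoint_iff.mp hC.disjoint
    rw [← h1]
    exact inf_le_inf_right _ inf_le_right
  exact tg_inf_ne_bot P hna hgen hcore hfrat hN'n hNn hN'1 hN1 hdisj

/-- If `O_p(G) ≠ 1` then `E(G) = 1`. -/
theorem tg_layer_eq_bot (hna : ¬ IsMulCommutative ↥(P : Subgroup G))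
    (hgen : (frattini ↥(P : Subgroup G)).index = p ^ 2) (hcore : pPrimeCore p G = ⊥)
    (hfrat : ((frattini ↥(P : Subgroup G)).map (P : Subgroup G).subtype).normalCore = ⊥)
    (hR1 : pCore p G ≠ ⊥) : layer G = ⊥ := by
  have hpp : p.Prime := Fact.out
  by_contra hE
  have hEn : (layer G).Normal := Helper22.layer_normal G
  have hRn : (pCore p G).Normal := Cfsg.pCore_normal p G
  have hRP : pCore p G ≤ P := Helper10.pCore_le_sylow P
  obtain ⟨hexp, hab⟩ := tg_pCore_elem_abelian P hfrat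
  have hRE : pCore p G ≤ layer G := tg_pCore_le P hna hgen hcore hfrat hEn hE
  have hRΦ : ¬ pCore p G ≤ (frattini ↥(P : Subgroup G)).map (P : Subgroup G).subtype := by
    intro h
    exact tg_not_le_frattini P hcore hfrat hRn hR1 (inf_le_left.trans h)
  have hXR : ∀ X : Subgroup G, X ≤ normalizer ((pCore p G : Subgroup G) : Set G) := by
    intro X; rw [normalizer_eq_top_iff.mpr hRn]; exact le_top
  obtain ⟨s, hsP, hs⟩ := tg_exists_gen_sub hgen hRP (hXR _) hRΦ
  have hRc : ∀ r ∈ pCore p G, ∀ e ∈ layer G, e * r = r * e := by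
    have h1 := Helper22.layer_commutator_fitting G
    rw [commutator_eq_bot_iff_le_centralizer] at h1
    intro r hr e he
    exact (mem_centralizer_iff.mp (h1 he) r (pCore_le_fittingSubgroup p G hr)).symm
  have hPEab : ∀ x ∈ (P : Subgroup G) ⊓ layer G, ∀ y ∈ (P : Subgroup G) ⊓ layer G,
      x * y = y * x := by
    have hdec : ∀ x ∈ (P : Subgroup G) ⊓ layer G, ∃ r ∈ pCore p G, ∃ z ∈ zpowers s,
        z ∈ layer G ∧ x = r * z := by
      intro x hx
      have hx' : x ∈ pCore p G ⊔ zpowers s := by rw [sup_comm, ← hs]; exact hx.1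
      obtain ⟨r, hr, z, hz, hxrz⟩ :=
        Helper35.exists_mul_of_mem_sup_of_le_normalizer (hXR _) hx'
      refine ⟨r, hr, z, hz, ?_, hxrz⟩
      have h1 : z = r⁻¹ * x := by rw [hxrz]; group
      rw [h1]; exact mul_mem (inv_mem (hRE hr)) hx.2
    intro x hx y hy
    obtain ⟨r₁, hr₁, z₁, hz₁, hz₁E, rfl⟩ := hdec x hx
    obtain ⟨r₂, hr₂, z₂, hz₂, hz₂E, rfl⟩ := hdec y hy
    have hzz : z₁ * z₂ = z₂ * z₁ := by
      obtain ⟨i, rfl⟩ := mem_zpowers_iff.mp hz₁
      obtain ⟨j, rfl⟩ := mem_zpowers_iff.mp hz₂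
      rw [← zpow_add, ← zpow_add, add_comm]
    have h1 : z₁ * r₂ = r₂ * z₁ := hRc r₂ hr₂ z₁ hz₁E
    have h2 : z₂ * r₁ = r₁ * z₂ := hRc r₁ hr₁ z₂ hz₂E
    have h3 : r₁ * r₂ = r₂ * r₁ := hab r₁ hr₁ r₂ hr₂
    calc r₁ * z₁ * (r₂ * z₂) = r₁ * (z₁ * r₂) * z₂ := by group
      _ = r₁ * (r₂ * z₁) * z₂ := by rw [h1]
      _ = (r₁ * r₂) * (z₁ * z₂) := by group
      _ = (r₂ * r₁) * (z₂ * z₁) := by rw [h3, hzz]
      _ = r₂ * (r₁ * z₂) * z₁ := by group
      _ = r₂ * (z₂ * r₁) * z₁ := by rw [h2]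
      _ = r₂ * z₂ * (r₁ * z₁) := by group
  have hPEc : IsMulCommutative ↥(((P : Subgroup G) ⊓ layer G).subgroupOf (layer G)) := by
    refine ⟨⟨fun a b => ?_⟩⟩
    apply Subtype.ext
    apply Subtype.ext
    exact hPEab _ (mem_subgroupOf.mp a.2) _ (mem_subgroupOf.mp b.2)
  have hcard : Nat.card ↥(((P : Subgroup G) ⊓ layer G).subgroupOf (layer G)) =
      p ^ (Nat.card ↥(layer G)).factorization p := by
    rw [Nat.card_congr
      (subgroupOfEquivOfLe (inf_le_right : (P : Subgroup G) ⊓ layer G ≤ layer G)).toEquiv]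
    exact Helper50.card_sylow_inf_of_isSubnormal P hEn.isSubnormal
  have hHall : (Nat.card ↥(((P : Subgroup G) ⊓ layer G).subgroupOf (layer G))).Coprime
      (((P : Subgroup G) ⊓ layer G).subgroupOf (layer G)).index := by
    have hnd : ¬ p ∣ (((P : Subgroup G) ⊓ layer G).subgroupOf (layer G)).index :=
      (Sylow.ofCard _ hcard).not_dvd_index
    rw [hcard]
    exact Nat.Coprime.pow_left _ ((Nat.Prime.coprime_iff_not_dvd hpp).mpr hnd)
  have hperf : Group.IsPerfect ↥(layer G) :=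
    Subgroup.isPerfect_iff.mpr (Helper22.layer_commutator_eq G)
  apply hR1
  rw [eq_bot_iff]
  intro r hr
  have h1 := Helper2.eq_one_of_mem_hall_of_mem_center_of_mem_commutator
    (((P : Subgroup G) ⊓ layer G).subgroupOf (layer G)) hHall
    ⟨r, hRE hr⟩ (mem_subgroupOf.mpr ⟨hRP hr, hRE hr⟩)
    (by rw [mem_center_iff]; intro g; exact Subtype.ext (hRc r hr g g.2))
    Group.IsPerfect.mem_commutator
  exact mem_bot.mpr (congrArg Subtype.val h1)

omit [Finite G] [Fact p.Prime] in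
/-- Conjugating twice. -/
theorem tg_map_conj_mul (a x : G) (K : Subgroup G) :
    (K.map (MulAut.conj x).toMonoidHom).map (MulAut.conj a).toMonoidHom =
      K.map (MulAut.conj (a * x)).toMonoidHom := by
  rw [Subgroup.map_map]
  congr 1
  ext y
  simp [mul_assoc]

omit [Finite G] [Fact p.Prime] in
/-- Conjugating by `1`. -/
theorem tg_map_conj_one (K : Subgroup G) : K.map (MulAut.conj (1 : G)).toMonoidHom = K := by
  ext y
  constructor
  · rintro ⟨k, hk, rfl⟩
    simpa using hk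
  · intro hy
    exact ⟨y, hy, by simp⟩

omit [Finite G] [Fact p.Prime] in
/-- Conjugating by an element of the normalizer. -/
theorem tg_map_conj_of_mem_normalizer {K : Subgroup G} {a : G}
    (ha : a ∈ normalizer (K : Set G)) : K.map (MulAut.conj a).toMonoidHom = K := by
  apply le_antisymm
  · rintro _ ⟨k, hk, rfl⟩
    exact (mem_normalizer_iff.mp ha k).mp hk
  · intro k hk
    refine ⟨a⁻¹ * k * a, ?_, by simp [mul_assoc]⟩
    have := (mem_normalizer_iff.mp (inv_mem ha) k).mp hk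
    simpa using this

omit [Finite G] [Fact p.Prime] in
/-- A subgroup permuting a set of subgroups by conjugation normalizes their join. -/
theorem tg_le_normalizer_sSup {A : Subgroup G} {S : Set (Subgroup G)}
    (h : ∀ a ∈ A, ∀ M ∈ S, M.map (MulAut.conj a).toMonoidHom ∈ S) :
    A ≤ normalizer ((sSup S : Subgroup G) : Set G) := by
  apply Helper35.le_normalizer_of_forall_conj_mem
  intro a ha x hx
  have hle : sSup S ≤ (sSup S).comap (MulAut.conj a).toMonoidHom := by
    apply sSup_le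
    intro M hM
    rw [← Subgroup.map_le_iff_le_comap]
    exact le_sSup (h a ha M hM)
  exact hle hx

omit [Finite G] [Fact p.Prime] in
/-- The image of `P` in `G / N` is cyclic when `P ≤ ⟨s⟩ N`. -/
theorem tg_isCyclic_map {P N : Subgroup G} [N.Normal] {s : G} (h : P ≤ zpowers s ⊔ N) :
    IsCyclic ↥(P.map (QuotientGroup.mk' N)) := by
  have hA0 : N.map (QuotientGroup.mk' N) = ⊥ := by
    rw [Subgroup.map_eq_bot_iff, QuotientGroup.ker_mk']
  have hle : P.map (QuotientGroup.mk' N) ≤ zpowers (QuotientGroup.mk' N s) := by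
    calc P.map (QuotientGroup.mk' N) ≤ (zpowers s ⊔ N).map (QuotientGroup.mk' N) :=
          Subgroup.map_mono h
      _ = zpowers (QuotientGroup.mk' N s) := by
          rw [Subgroup.map_sup, MonoidHom.map_zpowers, hA0, sup_bot_eq]
  exact isCyclic_of_injective (Subgroup.inclusion hle) (Subgroup.inclusion_injective hle)

/-- If `F(G) = 1` then `E(G)` lies in every nontrivial normal subgroup of `G`. -/
theorem tg_layer_le (hna : ¬ IsMulCommutative ↥(P : Subgroup G))
    (hgen : (frattini ↥(P : Subgroup G)).index = p ^ 2) (hcore : pPrimeCore p G = ⊥)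
    (hfrat : ((frattini ↥(P : Subgroup G)).map (P : Subgroup G).subtype).normalCore = ⊥)
    (hF0 : fittingSubgroup G = ⊥) {K : Subgroup G} (hKn : K.Normal) (hK : K ≠ ⊥) :
    layer G ≤ K := by
  by_contra hEK
  obtain ⟨L₀, hL₀, hL₀K⟩ : ∃ L₀ : Subgroup G, IsComponent L₀ ∧ ¬ L₀ ≤ K := by
    by_contra h
    push Not at h
    exact hEK (sSup_le (fun L hL => h L hL))
  have hE₂n : (sSup {L : Subgroup G | IsComponent L ∧ ¬ L ≤ K}).Normal := by
    apply Helper22.sSup_normal_of_conj_mem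
    rintro L ⟨hL, hLK⟩ g
    refine ⟨Helper22.isComponent_conj hL g, ?_⟩
    intro h
    apply hLK
    intro l hl
    have h1 : g * l * g⁻¹ ∈ K := h ⟨l, hl, rfl⟩
    have h2 := hKn.conj_mem _ h1 g⁻¹
    have h3 : g⁻¹ * (g * l * g⁻¹) * g⁻¹⁻¹ = l := by group
    rwa [h3] at h2
  have hE₂1 : sSup {L : Subgroup G | IsComponent L ∧ ¬ L ≤ K} ≠ ⊥ := by
    intro h
    have h1 : L₀ ≤ sSup {L : Subgroup G | IsComponent L ∧ ¬ L ≤ K} := le_sSup ⟨hL₀, hL₀K⟩
    rw [h] at h1
    exact Helper22.quasisimple_ne_bot hL₀.2 (le_bot_iff.mp h1)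
  have hE₂c : sSup {L : Subgroup G | IsComponent L ∧ ¬ L ≤ K} ≤ centralizer (K : Set G) := by
    apply sSup_le
    rintro L ⟨hL, hLK⟩
    rcases Helper22.component_le_or_le_centralizer hL hKn.isSubnormal with h | h
    · exact absurd h hLK
    · exact h
  have hinf : sSup {L : Subgroup G | IsComponent L ∧ ¬ L ≤ K} ⊓ K = ⊥ := by
    have hn : (sSup {L : Subgroup G | IsComponent L ∧ ¬ L ≤ K} ⊓ K).Normal := inferInstance
    have hab : sSup {L : Subgroup G | IsComponent L ∧ ¬ L ≤ K} ⊓ K ≤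
        centralizer ((sSup {L : Subgroup G | IsComponent L ∧ ¬ L ≤ K} ⊓ K : Subgroup G) : Set G) :=
      (inf_le_left.trans hE₂c).trans (centralizer_le (SetLike.coe_subset_coe.mpr inf_le_right))
    have hcommI : IsMulCommutative ↥(sSup {L : Subgroup G | IsComponent L ∧ ¬ L ≤ K} ⊓ K) :=
      le_centralizer_iff_isMulCommutative.mp hab
    have hnil : Group.IsNilpotent ↥(sSup {L : Subgroup G | IsComponent L ∧ ¬ L ≤ K} ⊓ K) :=
      ⟨⟨1, Subgroup.upperCentralSeries_one_eq_top_iff.mpr inferInstance⟩⟩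
    have hle := Helper22.le_fittingSubgroup_of_isSubnormal hn.isSubnormal hnil
    rw [hF0] at hle; exact le_bot_iff.mp hle
  exact tg_inf_ne_bot P hna hgen hcore hfrat hE₂n hKn hE₂1 hK hinf

/-- Local form of Tate's theorem: a subgroup `N` normalized by `P` and meeting `P` inside `Φ(P)`
contains no component of `G` when `O_p(G) = O_{p'}(G) = 1`. -/
theorem tg_tate_local (hcore : pPrimeCore p G = ⊥) (hOp : pCore p G = ⊥) {N : Subgroup G}
    (hPN : (P : Subgroup G) ≤ normalizer (N : Set G))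
    (hNΦ : N ⊓ (P : Subgroup G) ≤ (frattini ↥(P : Subgroup G)).map (P : Subgroup G).subtype)
    {L : Subgroup G} (hL : IsComponent L) (hLN : L ≤ N) : False := by
  have hpp : p.Prime := Fact.out
  have hPG₁ : (P : Subgroup G) ≤ N ⊔ (P : Subgroup G) := le_sup_right
  have hNG₁ : N ≤ N ⊔ (P : Subgroup G) := le_sup_left
  have hmemP₁ : ∀ w : ↥(N ⊔ (P : Subgroup G)),
      w ∈ ((P.subtype hPG₁ : Sylow p ↥(N ⊔ (P : Subgroup G))) :
        Subgroup ↥(N ⊔ (P : Subgroup G))) ↔ (w : G) ∈ (P : Subgroup G) := by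
    intro w
    rw [Sylow.coe_subtype]
    exact Subgroup.mem_subgroupOf
  have hN₁n : (N.subgroupOf (N ⊔ (P : Subgroup G))).Normal := by
    rw [normal_subgroupOf_iff_le_normalizer hNG₁]
    exact sup_le le_normalizer hPN
  have hT : N.subgroupOf (N ⊔ (P : Subgroup G)) ⊓
      ((P.subtype hPG₁ : Sylow p ↥(N ⊔ (P : Subgroup G))) : Subgroup ↥(N ⊔ (P : Subgroup G))) ≤
      (frattini ↥((P.subtype hPG₁ : Sylow p ↥(N ⊔ (P : Subgroup G))) :
        Subgroup ↥(N ⊔ (P : Subgroup G)))).map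
        ((P.subtype hPG₁ : Sylow p ↥(N ⊔ (P : Subgroup G))) :
          Subgroup ↥(N ⊔ (P : Subgroup G))).subtype := by
    intro x hx
    have hxN : (x : G) ∈ N := mem_subgroupOf.mp hx.1
    have hxP : (x : G) ∈ (P : Subgroup G) := (hmemP₁ x).mp hx.2
    obtain ⟨y, hy, hyx⟩ := hNΦ ⟨hxN, hxP⟩
    let e : ↥(P : Subgroup G) →* ↥((P.subtype hPG₁ : Sylow p ↥(N ⊔ (P : Subgroup G))) :
        Subgroup ↥(N ⊔ (P : Subgroup G))) :=
      { toFun := fun u => ⟨⟨(u : G), hPG₁ u.2⟩, (hmemP₁ _).mpr u.2⟩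
        map_one' := rfl
        map_mul' := fun _ _ => rfl }
    have he : Function.Surjective e := by
      intro z
      have hz : ((z : ↥(N ⊔ (P : Subgroup G))) : G) ∈ (P : Subgroup G) := (hmemP₁ _).mp z.2
      exact ⟨⟨_, hz⟩, Subtype.ext (Subtype.ext rfl)⟩
    refine ⟨e y, frattini_le_comap_frattini_of_surjective he hy, ?_⟩
    exact Subtype.ext hyx
  have hnpc := Helper2.hasNormalPComplement_of_normal_inf_sylow_le_frattini
    (P.subtype hPG₁) (N.subgroupOf (N ⊔ (P : Subgroup G))) hT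
  obtain ⟨K, hKn, hKc, hKm⟩ := Helper33.hasNormalPComplement_iff_p'.mp hnpc
  let ι : ↥L →* ↥(N.subgroupOf (N ⊔ (P : Subgroup G))) :=
    { toFun := fun l => ⟨⟨(l : G), hNG₁ (hLN l.2)⟩, mem_subgroupOf.mpr (hLN l.2)⟩
      map_one' := rfl
      map_mul' := fun _ _ => rfl }
  have hι : Function.Injective ι := by
    intro a b hab
    apply Subtype.ext
    exact congrArg (fun t : ↥(N.subgroupOf (N ⊔ (P : Subgroup G))) =>
      ((t : ↥(N ⊔ (P : Subgroup G))) : G)) hab
  have hKLn : (K.comap ι).Normal := inferInstance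
  have hKLc : (Nat.card ↥(K.comap ι)).Coprime p :=
    Nat.Coprime.coprime_dvd_left (Subgroup.card_comap_dvd_of_injective K ι hι) hKc
  have hsub : ((K.comap ι).map L.subtype).IsSubnormal := hKLn.isSubnormal.trans' hL.1
  have hc : (Nat.card ↥((K.comap ι).map L.subtype)).Coprime p := by
    rw [Subgroup.card_map_of_injective L.subtype_injective]; exact hKLc
  have hle := le_pPrimeCore_of_subnormal hsub hc
  rw [hcore] at hle
  have hKL : K.comap ι = ⊥ :=
    (map_eq_bot_iff_of_injective _ L.subtype_injective).mp (le_bot_iff.mp hle)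
  have hLp : IsPGroup p ↥L := by
    apply Helper68.isPGroup_of_forall_pprime_eq_one p L
    intro y hy hnd
    have hcop : (orderOf (ι ⟨y, hy⟩)).Coprime p := by
      rw [orderOf_injective ι hι, Subgroup.orderOf_mk, Nat.coprime_comm]
      exact (Nat.Prime.coprime_iff_not_dvd hpp).mpr hnd
    have h1 : (⟨y, hy⟩ : ↥L) ∈ K.comap ι := hKm _ hcop
    rw [hKL, mem_bot] at h1
    exact congrArg Subtype.val h1
  have hle2 := Helper22.le_pCore_of_isSubnormal p hL.1 hLp
  rw [hOp] at hle2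
  exact Helper22.quasisimple_ne_bot hL.2 (le_bot_iff.mp hle2)

/-- If `O_p(G) = 1`, the Sylow subgroup `P` permutes the components of `G` transitively. -/
theorem tg_transitive (hna : ¬ IsMulCommutative ↥(P : Subgroup G))
    (hgen : (frattini ↥(P : Subgroup G)).index = p ^ 2) (hcore : pPrimeCore p G = ⊥)
    (hOp : pCore p G = ⊥) {K L : Subgroup G} (hK : IsComponent K) (hL : IsComponent L) :
    ∃ x ∈ (P : Subgroup G), L = K.map (MulAut.conj x).toMonoidHom := by
  by_contra hcon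
  push Not at hcon
  have hF0 : fittingSubgroup G = ⊥ := by
    rw [fittingSubgroup_eq_pCore_of_pPrimeCore_eq_bot hcore, hOp]
  have hEn : (layer G).Normal := Helper22.layer_normal G
  set S₁ : Set (Subgroup G) :=
    {M | ∃ x ∈ (P : Subgroup G), M = K.map (MulAut.conj x).toMonoidHom} with hS₁
  set S₂ : Set (Subgroup G) := {M | IsComponent M ∧ M ∉ S₁} with hS₂
  have hS₁c : ∀ M ∈ S₁, IsComponent M := by
    rintro M ⟨x, hx, rfl⟩; exact Helper22.isComponent_conj hK x
  have hKS₁ : K ∈ S₁ := ⟨1, one_mem _, (tg_map_conj_one K).symm⟩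
  have hLS₂ : L ∈ S₂ := ⟨hL, fun ⟨x, hx, h⟩ => hcon x hx h⟩
  have hconj₁ : ∀ a ∈ (P : Subgroup G), ∀ M ∈ S₁, M.map (MulAut.conj a).toMonoidHom ∈ S₁ := by
    rintro a ha M ⟨x, hx, rfl⟩
    exact ⟨a * x, mul_mem ha hx, tg_map_conj_mul a x K⟩
  have hconj₂ : ∀ a ∈ (P : Subgroup G), ∀ M ∈ S₂, M.map (MulAut.conj a).toMonoidHom ∈ S₂ := by
    rintro a ha M ⟨hM, hMS⟩
    refine ⟨Helper22.isComponent_conj hM a, ?_⟩
    intro h
    apply hMS
    have h1 := hconj₁ a⁻¹ (inv_mem ha) _ h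
    rwa [tg_map_conj_mul, inv_mul_cancel, tg_map_conj_one] at h1
  have hP₁ : (P : Subgroup G) ≤ normalizer ((sSup S₁ : Subgroup G) : Set G) :=
    tg_le_normalizer_sSup hconj₁
  have hP₂ : (P : Subgroup G) ≤ normalizer ((sSup S₂ : Subgroup G) : Set G) :=
    tg_le_normalizer_sSup hconj₂
  have hcomp : ∀ (S : Set (Subgroup G)), (∀ M ∈ S, IsComponent M) →
      sSup S ≤ layer G ∧ layer G ≤ normalizer ((sSup S : Subgroup G) : Set G) := by
    intro S hS
    refine ⟨sSup_le (fun M hM => Helper22.component_le_layer (hS M hM)), ?_⟩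
    apply tg_le_normalizer_sSup
    intro a ha M hM
    rw [tg_map_conj_of_mem_normalizer (layer_le_normalizer_component (hS M hM) ha)]
    exact hM
  obtain ⟨hN₁E, hEN₁⟩ := hcomp S₁ hS₁c
  obtain ⟨hN₂E, hEN₂⟩ := hcomp S₂ (fun M hM => hM.1)
  have hcent : sSup S₁ ≤ centralizer ((sSup S₂ : Subgroup G) : Set G) := by
    apply sSup_le
    intro M₁ hM₁
    rw [le_centralizer_iff]
    apply sSup_le
    intro M₂ hM₂
    have hne : M₂ ≠ M₁ := fun h => hM₂.2 (h ▸ hM₁)
    exact commutator_eq_bot_iff_le_centralizer.mp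
      (Helper22.components_commute hM₂.1 (hS₁c M₁ hM₁) hne)
  have hinf : (sSup S₁ ⊓ (P : Subgroup G)) ⊓ (sSup S₂ ⊓ (P : Subgroup G)) = ⊥ := by
    have hle : sSup S₁ ⊓ sSup S₂ ≤ layer G := inf_le_left.trans hN₁E
    have hsn : (sSup S₁ ⊓ sSup S₂).IsSubnormal :=
      IsSubnormal.step _ (layer G) hle hEn.isSubnormal
        ((normal_subgroupOf_iff_le_normalizer hle).mpr (le_normalizer_inf hEN₁ hEN₂))
    have hab : sSup S₁ ⊓ sSup S₂ ≤ centralizer ((sSup S₁ ⊓ sSup S₂ : Subgroup G) : Set G) :=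
      (inf_le_left.trans hcent).trans (centralizer_le (SetLike.coe_subset_coe.mpr inf_le_right))
    have hcommI : IsMulCommutative ↥(sSup S₁ ⊓ sSup S₂) :=
      le_centralizer_iff_isMulCommutative.mp hab
    have hnil : Group.IsNilpotent ↥(sSup S₁ ⊓ sSup S₂) :=
      ⟨⟨1, Subgroup.upperCentralSeries_one_eq_top_iff.mpr inferInstance⟩⟩
    have h1 := Helper22.le_fittingSubgroup_of_isSubnormal hsn hnil
    rw [hF0] at h1
    rw [eq_bot_iff]
    exact (inf_le_inf inf_le_left inf_le_left).trans h1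
  by_cases h : sSup S₁ ⊓ (P : Subgroup G) ≤
      (frattini ↥(P : Subgroup G)).map (P : Subgroup G).subtype
  · exact tg_tate_local P hcore hOp hP₁ h hK (le_sSup hKS₁)
  · have h2 := tg_not_both hna hgen (A₁ := sSup S₁ ⊓ (P : Subgroup G))
      (A₂ := sSup S₂ ⊓ (P : Subgroup G)) inf_le_right inf_le_right
      (le_normalizer_inf hP₁ le_normalizer) (le_normalizer_inf hP₂ le_normalizer) hinf h
    exact tg_tate_local P hcore hOp hP₂ h2 hL (le_sSup hLS₂)

/-- Main theorem on groups with a non-abelian two-generated Sylow `p`-subgroup `P`,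
`O_{p'}(G) = 1` and no nontrivial normal subgroup of `G` inside `Φ(P)`. -/
theorem tg_main (hna : ¬ IsMulCommutative ↥(P : Subgroup G))
    (hgen : (frattini ↥(P : Subgroup G)).index = p ^ 2) (hcore : pPrimeCore p G = ⊥)
    (hfrat : ((frattini ↥(P : Subgroup G)).map (P : Subgroup G).subtype).normalCore = ⊥)
    [hFn : (generalizedFittingSubgroup G).Normal] :
    (generalizedFittingSubgroup G ≠ ⊥ ∧
      ∀ K : Subgroup G, K.Normal → K ≠ ⊥ → generalizedFittingSubgroup G ≤ K) ∧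
    IsCyclic ↥((P : Subgroup G).map (QuotientGroup.mk' (generalizedFittingSubgroup G))) ∧
    (¬ IsMulCommutative (generalizedFittingSubgroup G) → ∀ K L : Subgroup G,
      IsComponent K → IsComponent L →
        ∃ x ∈ (P : Subgroup G), L = K.map (MulAut.conj x).toMonoidHom) := by
  have hFs_ne : generalizedFittingSubgroup G ≠ ⊥ := by
    intro hFs
    apply hna
    have h1 := Helper22.centralizer_generalizedFittingSubgroup_le G
    rw [hFs] at h1
    have hall : ∀ g : G, g = 1 := by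
      intro g
      have h2 : g ∈ centralizer (((⊥ : Subgroup G) : Subgroup G) : Set G) := by
        rw [mem_centralizer_iff]
        intro h hh
        have h3 : h = 1 := mem_bot.mp hh
        rw [h3, one_mul, mul_one]
      exact mem_bot.mp (h1 h2)
    refine ⟨⟨fun a b => Subtype.ext ?_⟩⟩
    rw [hall (a * b : ↥(P : Subgroup G)), hall (b * a : ↥(P : Subgroup G))]
  have hF : fittingSubgroup G = pCore p G := fittingSubgroup_eq_pCore_of_pPrimeCore_eq_bot hcore
  -- the image of `P` is cyclic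
  have hB : IsCyclic ↥((P : Subgroup G).map (QuotientGroup.mk' (generalizedFittingSubgroup G))) := by
    have hΦ := tg_not_le_frattini P hcore hfrat hFn hFs_ne
    obtain ⟨s, hsP, hs⟩ := tg_exists_gen_sub hgen (inf_le_right)
      (le_normalizer_inf (by rw [normalizer_eq_top_iff.mpr hFn]; exact le_top) le_normalizer) hΦ
    apply tg_isCyclic_map (s := s)
    calc (P : Subgroup G) = zpowers s ⊔ (generalizedFittingSubgroup G ⊓ (P : Subgroup G)) := hs
      _ ≤ zpowers s ⊔ generalizedFittingSubgroup G := sup_le_sup_left inf_le_left _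
  by_cases hR : pCore p G = ⊥
  · have hF0 : fittingSubgroup G = ⊥ := by rw [hF, hR]
    have hFs : generalizedFittingSubgroup G = layer G := by
      unfold generalizedFittingSubgroup; rw [hF0, sup_bot_eq]
    refine ⟨⟨hFs_ne, fun K hKn hK => ?_⟩, hB, fun _ K L hK hL => ?_⟩
    · rw [hFs]; exact tg_layer_le P hna hgen hcore hfrat hF0 hKn hK
    · exact tg_transitive P hna hgen hcore hR hK hL
  · have hE : layer G = ⊥ := tg_layer_eq_bot P hna hgen hcore hfrat hR
    have hFs : generalizedFittingSubgroup G = pCore p G := by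
      unfold generalizedFittingSubgroup; rw [hE, hF, bot_sup_eq]
    obtain ⟨hexp, hab⟩ := tg_pCore_elem_abelian P hfrat
    refine ⟨⟨hFs_ne, fun K hKn hK => ?_⟩, hB, fun hnc => ?_⟩
    · rw [hFs]; exact tg_pCore_le P hna hgen hcore hfrat hKn hK
    · exfalso
      apply hnc
      refine ⟨⟨fun a b => Subtype.ext ?_⟩⟩
      have ha : (a : G) ∈ pCore p G := by rw [← hFs]; exact a.2
      have hb : (b : G) ∈ pCore p G := by rw [← hFs]; exact b.2
      exact hab _ ha _ hb

end TwoGen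

end Cfsg.Agent.Helper34
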