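import Mathlib

/-!
# CALL S0435 (helper52), piece P3i

An involution of `N(R)` without nontrivial fixed points on the abelian group `R` inverts `R`.
-/

set_option autoImplicit false

namespace Cfsg.Agent.Helper34

variable {G : Type*} [Group G] [Finite G]

-- PIECE P3i
theorem u7920_invert_of_free (R : Sylow 3 G)
    (hab : ∀ a ∈ (R : Subgroup G), ∀ b ∈ (R : Subgroup G), a * b = b * a)
    (w : G) (hw : w ∈ Subgroup.normalizer ((R : Subgroup G) : Set G)) (hw2 : w ^ 2 = 1)
    (hfree : Nat.card ↥((R : Subgroup G) ⊓ Subgroup.centralizer ({w} : Set G)) = 1) :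
    ∀ r ∈ (R : Subgroup G), w * r * w⁻¹ = r⁻¹ := by
  intro r hr
  have hwr : w * r * w⁻¹ ∈ (R : Subgroup G) := (Subgroup.mem_normalizer_iff.mp hw r).mp hr
  have hww : w * w = 1 := by rw [← pow_two]; exact hw2
  have ht : r * (w * r * w⁻¹) ∈ (R : Subgroup G) := mul_mem hr hwr
  have htc : r * (w * r * w⁻¹) ∈ Subgroup.centralizer ({w} : Set G) := by
    rw [Subgroup.mem_centralizer_iff]
    intro x hx
    rw [Set.mem_singleton_iff] at hx
    subst hx
    have hc : (x * r * x⁻¹) * r = r * (x * r * x⁻¹) := hab _ hwr _ hr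
    calc x * (r * (x * r * x⁻¹)) = (x * r * x⁻¹) * (x * x) * r * x⁻¹ := by group
      _ = ((x * r * x⁻¹) * r) * x⁻¹ := by rw [hww, mul_one]
      _ = (r * (x * r * x⁻¹)) * x⁻¹ := by rw [hc]
      _ = r * (x * r * x⁻¹) * x * (x * x)⁻¹ := by group
      _ = r * (x * r * x⁻¹) * x := by rw [hww, inv_one, mul_one]
  have hbot : (R : Subgroup G) ⊓ Subgroup.centralizer ({w} : Set G) = ⊥ :=
    Subgroup.card_eq_one.mp hfree
  have h1 : r * (w * r * w⁻¹) = 1 := by
    have hmem : r * (w * r * w⁻¹) ∈ (R : Subgroup G) ⊓ Subgroup.centralizer ({w} : Set G) :=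
      ⟨ht, htc⟩
    rw [hbot, Subgroup.mem_bot] at hmem
    exact hmem
  exact eq_inv_of_mul_eq_one_right h1

end Cfsg.Agent.Helper34
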